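import Cfsg.Agent.Lib.BSW.Family
import Cfsg.Agent.S0731
import Mathlib.GroupTheory.Transfer

/-!
# Brauer–Suzuki–Wall: simple groups with the conclusion of the abstract theorem are `PSL₂(q)`
-/

set_option autoImplicit false
set_option linter.unusedSectionVars false
set_option linter.style.haveILetI false

namespace Cfsg.Lib.BSW

open Cfsg

universe u

theorem psl_of_concl {G : Type u} [Group G] [Finite G] [IsSimpleGroup G] (h : Concl G) :
    ∃ (F : Type) (_ : Field F) (_ : Fintype F), Odd (Fintype.card F) ∧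
      Nonempty (G ≃* Matrix.ProjectiveSpecialLinearGroup (Fin 2) F) := by
  classical
  haveI := Fintype.ofFinite G
  obtain ⟨Q, D, hg, hC, -, hD, hQD, hN, -⟩ := h
  set q := Nat.card Q with hq
  set d := Nat.card D with hd
  set B := Subgroup.normalizer (Q : Set G) with hB
  have hd0 : 0 < d := Nat.card_pos
  have hcop : Nat.Coprime q d := by rw [← hD, add_comm]; simp
  -- the order of the normaliser
  have hQB : Q ≤ B := Subgroup.le_normalizer
  have hDB : D ≤ B := hN ▸ le_sup_right
  have hQn : ∀ x ∈ B, ∀ a ∈ Q, x * a * x⁻¹ ∈ Q := fun x hx a ha => conj_mem_of_mem_normalizer hx ha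
  have hsplit : ∀ x ∈ B, ∃ a ∈ Q, ∃ b ∈ D, a * b = x := by
    intro x hx
    rw [hN] at hx
    let M : Subgroup G :=
      { carrier := {x | ∃ a ∈ Q, ∃ b ∈ D, a * b = x}
        one_mem' := ⟨1, Q.one_mem, 1, D.one_mem, one_mul 1⟩
        mul_mem' := by
          rintro _ _ ⟨a, ha, b, hb, rfl⟩ ⟨a', ha', b', hb', rfl⟩
          exact ⟨a * (b * a' * b⁻¹), Q.mul_mem ha (hQn b (hDB hb) a' ha'), b * b', D.mul_mem hb hb',
            by group⟩
        inv_mem' := by
          rintro _ ⟨a, ha, b, hb, rfl⟩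
          refine ⟨b⁻¹ * a⁻¹ * b, ?_, b⁻¹, D.inv_mem hb, by group⟩
          simpa using hQn b⁻¹ (B.inv_mem (hDB hb)) _ (Q.inv_mem ha) }
    have hle : Q ⊔ D ≤ M := sup_le (fun a ha => ⟨a, ha, 1, D.one_mem, mul_one a⟩)
      (fun b hb => ⟨1, Q.one_mem, b, hb, one_mul b⟩)
    exact hle hx
  have hBcard : Nat.card B = q * d := by
    rw [hq, hd, ← Nat.card_prod]
    symm
    refine Nat.card_congr (Equiv.ofBijective (fun p => ⟨p.1.1 * p.2.1,
      B.mul_mem (hQB p.1.2) (hDB p.2.2)⟩) ⟨?_, ?_⟩)
    · rintro ⟨⟨a, ha⟩, ⟨b, hb⟩⟩ ⟨⟨a', ha'⟩, ⟨b', hb'⟩⟩ e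
      have e' : a * b = a' * b' := congrArg Subtype.val e
      have h1 : a'⁻¹ * a = b' * b⁻¹ := by
        rw [eq_mul_inv_iff_mul_eq, mul_assoc, e', inv_mul_cancel_left]
      have h2 : a'⁻¹ * a ∈ Q ⊓ D :=
        ⟨Q.mul_mem (Q.inv_mem ha') ha, h1 ▸ D.mul_mem hb' (D.inv_mem hb)⟩
      rw [hQD, Subgroup.mem_bot, inv_mul_eq_one] at h2
      subst h2
      simp [mul_left_cancel e']
    · rintro ⟨x, hx⟩
      obtain ⟨a, ha, b, hb, rfl⟩ := hsplit x hx
      exact ⟨(⟨a, ha⟩, ⟨b, hb⟩), rfl⟩
  have hg' : Nat.card G = q * d * (q + 1) := by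
    have : q - 1 = 2 * d := by omega
    rw [this] at hg
    have h2 : 2 * Nat.card G = 2 * (q * d * (q + 1)) := by rw [hg]; ring
    omega
  have hidx : B.index = q + 1 := by
    have h := B.index_mul_card
    rw [hBcard, hg'] at h
    exact Nat.eq_of_mul_eq_mul_right (Nat.mul_pos Nat.card_pos hd0) (by rw [h]; ring)
  have hcomm : ∀ a ∈ Q, ∀ b ∈ Q, a * b = b * a := by
    intro a ha b hb
    by_cases ha1 : a = 1
    · simp [ha1]
    · rw [← hC a ha ha1] at hb
      exact (mem_centralizer_singleton.1 hb).symm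
  -- `d = 1` would give a normal `3`-complement
  have hd2 : 2 ≤ d := by
    by_contra hlt
    have hd1 : d = 1 := by omega
    haveI : Fact (Nat.Prime 3) := ⟨Nat.prime_three⟩
    have hq3 : q = 3 := by omega
    obtain ⟨P, hP⟩ := (IsPGroup.of_card (p := 3) (n := 1) (G := ↥Q)
      (by rw [pow_one]; exact hq3)).exists_le_sylow
    have hPc : Nat.card (P : Subgroup G) = 3 := by
      rw [P.card_eq_multiplicity, hg', hq3, hd1]
      rw [show 3 * 1 * (3 + 1) = 3 * 4 by norm_num, Nat.factorization_mul (by norm_num) (by norm_num),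
        Finsupp.add_apply, Nat.Prime.factorization_self Nat.prime_three,
        Nat.factorization_eq_zero_of_not_dvd (by norm_num)]
      rfl
    have hPQ : Q = (P : Subgroup G) := Subgroup.eq_of_le_of_card_ge hP (by rw [hPc]; omega)
    have hle : Subgroup.normalizer ((P : Subgroup G) : Set G) ≤
        Subgroup.centralizer ((P : Subgroup G) : Set G) := by
      rw [← hPQ, ← hB]
      intro x hx
      have hBQ : Q = B := Subgroup.eq_of_le_of_card_ge hQB (by rw [hBcard, hd1, mul_one])
      rw [← hBQ] at hx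
      exact Subgroup.mem_centralizer_iff.2 fun a ha => hcomm a ha x hx
    have hK := MonoidHom.ker_transferSylow_isComplement' P hle
    rcases (MonoidHom.normal_ker (MonoidHom.transferSylow P hle)).eq_bot_or_eq_top with e | e
    · have := hK.card_mul
      rw [e, Subgroup.card_bot, one_mul, hPc, hg', hq3, hd1] at this
      omega
    · have := hK.card_mul
      rw [e, Subgroup.card_top, hPc, hg', hq3, hd1] at this
      omega
  -- the action on the cosets of the normaliser
  let o : G ⧸ B := QuotientGroup.mk 1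
  haveI : Fintype (G ⧸ B) := Fintype.ofFinite _
  have hΩ : Fintype.card (G ⧸ B) = q + 1 := by rw [← Nat.card_eq_fintype_card]; exact hidx
  have hstab : MulAction.stabilizer G o = B := MulAction.stabilizer_quotient B
  have hfree : ∀ y : G ⧸ B, y ≠ o → ∀ a ∈ Q, a • y = y → a = 1 := by
    intro y hy a ha hay
    induction y using QuotientGroup.induction_on with
    | H x =>
      by_contra ha1
      have hmem : x⁻¹ * a * x ∈ B := by
        have h := QuotientGroup.eq.1 (show (QuotientGroup.mk (a * x) : G ⧸ B) = QuotientGroup.mk x from hay)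
        have := B.inv_mem h
        simpa [mul_assoc] using this
      obtain ⟨u, hu, v, hv, huv⟩ := hsplit _ hmem
      have hord : orderOf (x⁻¹ * a * x) ∣ q := by
        rw [show x⁻¹ * a * x = (MulAut.conj x⁻¹).toMonoidHom a by simp,
          orderOf_injective _ (MulAut.conj x⁻¹).injective, hq, ← Nat.card_zpowers]
        exact Subgroup.card_dvd_of_le (Subgroup.zpowers_le.2 ha)
      haveI : (Q.subgroupOf B).Normal :=
        Subgroup.normal_subgroupOf_iff hQB |>.2 fun a x ha hx => hQn x hx a ha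
      have hbQ : x⁻¹ * a * x ∈ Q := by
        set w : ↥B := ⟨x⁻¹ * a * x, hmem⟩
        have h1 : orderOf (QuotientGroup.mk w : ↥B ⧸ Q.subgroupOf B) ∣ q :=
          (orderOf_map_dvd (QuotientGroup.mk' _) w).trans (by rw [Subgroup.orderOf_mk]; exact hord)
        have h2 : orderOf (QuotientGroup.mk w : ↥B ⧸ Q.subgroupOf B) ∣ d := by
          refine (orderOf_dvd_natCard _).trans (dvd_of_eq ?_)
          have h3 := (Q.subgroupOf B).index_mul_card
          rw [Nat.card_congr (Subgroup.subgroupOfEquivOfLe hQB).toEquiv, hBcard] at h3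
          exact Nat.eq_of_mul_eq_mul_right Nat.card_pos (h3.trans (mul_comm q d))
        have h3 := orderOf_eq_one_iff.1
          (Nat.eq_one_of_dvd_coprimes hcop h1 h2)
        exact (QuotientGroup.eq_one_iff w).1 h3
      refine hy (QuotientGroup.eq.2 ?_)
      rw [mul_one]
      have hne : x⁻¹ * a * x ≠ 1 := fun e => ha1 (by
        have := congrArg (fun z => x * z * x⁻¹) e
        simpa [mul_assoc] using this)
      refine B.inv_mem (mem_normalizer_of_conj fun b hb => ?_)
      rw [← hC _ hbQ hne] at hb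
      rw [← hC a ha ha1]
      have := (conj_mem_centralizer (g := x)).2 hb
      rwa [show x * (x⁻¹ * a * x) * x⁻¹ = a by group] at this
  have hreg : ∀ y z : G ⧸ B, y ≠ o → z ≠ o → ∃! u : Q, (u : G) • y = z := by
    intro y z hy hz
    have hne : ∀ u : Q, (u : G) • y ≠ o := fun u e => hy (by
      have hu : (u : G) • o = o := by
        have : (u : G) ∈ MulAction.stabilizer G o := hstab.symm ▸ hQB u.2
        exact this
      exact MulAction.injective (u : G) (e.trans hu.symm))
    have hbij : Function.Bijective (fun u : Q => (⟨(u : G) • y, hne u⟩ : {w : G ⧸ B // w ≠ o})) := by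
      rw [Fintype.bijective_iff_injective_and_card]
      refine ⟨fun u v e => ?_, ?_⟩
      · have e' : (u : G) • y = (v : G) • y := congrArg Subtype.val e
        have := hfree y hy ((v : G)⁻¹ * u) (Q.mul_mem (Q.inv_mem v.2) u.2)
          (by rw [mul_smul, e', inv_smul_smul])
        exact Subtype.ext (inv_mul_eq_one.1 this).symm
      · rw [Fintype.card_subtype_compl, Fintype.card_subtype_eq, hΩ, ← Nat.card_eq_fintype_card]
        omega
    obtain ⟨u, hu⟩ := hbij.2 ⟨z, hz⟩
    exact ⟨u, congrArg Subtype.val hu, fun v hv => hbij.1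
      (Subtype.ext (hv.trans (congrArg Subtype.val hu).symm))⟩
  have h2t : MulAction.IsMultiplyPretransitive G (G ⧸ B) 2 := by
    rw [MulAction.is_two_pretransitive_iff]
    intro a b a' b' hab hab'
    obtain ⟨g1, hg1⟩ := MulAction.exists_smul_eq G a o
    obtain ⟨g2, hg2⟩ := MulAction.exists_smul_eq G a' o
    obtain ⟨u, hu, -⟩ := hreg (g1 • b) (g2 • b')
      (fun e => hab (MulAction.injective g1 (hg1.trans e.symm)))
      (fun e => hab' (MulAction.injective g2 (hg2.trans e.symm)))
    have huo : (u : G) • o = o := by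
      have : (u : G) ∈ MulAction.stabilizer G o := hstab.symm ▸ hQB u.2
      exact this
    exact ⟨g2⁻¹ * u * g1, by rw [mul_smul, mul_smul, hg1, huo, inv_smul_eq_iff, hg2],
      by rw [mul_smul, mul_smul, hu, inv_smul_smul]⟩
  have hcore : ∀ g : G, (∀ y : G ⧸ B, g • y = y) → g = 1 := by
    intro g hg0
    have hker : (MulAction.toPermHom G (G ⧸ B)).ker = ⊥ := by
      refine ((MonoidHom.normal_ker _).eq_bot_or_eq_top).resolve_right fun e => ?_
      have htop : B = ⊤ := by
        rw [← hstab, eq_top_iff]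
        intro x _
        have hx : x ∈ (MulAction.toPermHom G (G ⧸ B)).ker := e ▸ Subgroup.mem_top x
        exact Equiv.ext_iff.1 (MonoidHom.mem_ker.1 hx) o
      rw [htop, Subgroup.index_top] at hidx
      omega
    have : g ∈ (MulAction.toPermHom G (G ⧸ B)).ker := MonoidHom.mem_ker.2 (Equiv.ext hg0)
    rwa [hker, Subgroup.mem_bot] at this
  have hthree : ∀ g : G, ∀ a b c : G ⧸ B, a ≠ b → b ≠ c → a ≠ c →
      g • a = a → g • b = b → g • c = c → g = 1 := by
    intro g a b c hab hbc hac ga gb gc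
    obtain ⟨x, hx⟩ := MulAction.exists_smul_eq G a o
    suffices x * g * x⁻¹ = 1 by simpa using this
    have hga : (x * g * x⁻¹) • o = o := by rw [← hx, mul_smul, mul_smul, inv_smul_smul, ga]
    have hgb : (x * g * x⁻¹) • (x • b) = x • b := by rw [mul_smul, mul_smul, inv_smul_smul, gb]
    have hgc : (x * g * x⁻¹) • (x • c) = x • c := by rw [mul_smul, mul_smul, inv_smul_smul, gc]
    have hb' : x • b ≠ o := fun e => hab (MulAction.injective x (hx.trans e.symm))
    have hc' : x • c ≠ o := fun e => hac (MulAction.injective x (hx.trans e.symm))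
    generalize x * g * x⁻¹ = k at hga hgb hgc ⊢
    have hkB : k ∈ B := hstab ▸ hga
    obtain ⟨u, hu, huniq⟩ := hreg (x • b) (x • c) hb' hc'
    have hu1 : (u : G) ≠ 1 := fun e => hbc (MulAction.injective x (by show x • b = x • c; rw [← hu, e, one_smul]))
    have hku : k * u * k⁻¹ = u := by
      have hk2 := huniq ⟨k * u * k⁻¹, hQn k hkB u u.2⟩ (by
        show (k * u * k⁻¹) • (x • b) = x • c
        rw [mul_smul, mul_smul, inv_smul_eq_iff.2 hgb.symm, hu, hgc])
      exact congrArg Subtype.val hk2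
    have hkQ : k ∈ Q := by
      rw [← hC u u.2 hu1]
      exact mem_centralizer_singleton.2 (mul_inv_eq_iff_eq_mul.1 hku)
    exact hfree _ hb' k hkQ hgb
  have hnontriv : ∃ g : G, g ≠ 1 ∧ ∃ a b : G ⧸ B, a ≠ b ∧ g • a = a ∧ g • b = b := by
    obtain ⟨y, hy⟩ := Fintype.exists_ne_of_one_lt_card (by rw [hΩ]; omega) o
    have hbig : ¬ Function.Injective (fun k : ↥B => (k : G) • y) := by
      intro hinj
      have := Nat.card_le_card_of_injective _ hinj
      rw [hBcard, Nat.card_eq_fintype_card (α := G ⧸ B), hΩ] at this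
      nlinarith
    simp only [Function.Injective, not_forall] at hbig
    obtain ⟨k1, k2, e, hne⟩ := hbig
    refine ⟨(k2 : G)⁻¹ * k1, fun h => hne (Subtype.ext (inv_mul_eq_one.1 h).symm), o, y, hy.symm,
      ?_, ?_⟩
    · have : ((k2 : G)⁻¹ * k1) ∈ MulAction.stabilizer G o :=
        hstab.symm ▸ B.mul_mem (B.inv_mem k2.2) k1.2
      exact this
    · rw [mul_smul, e, inv_smul_smul]
  have hreg' : ∀ N : Subgroup G, N.Normal → MulAction.IsPretransitive N (G ⧸ B) →
      ∃ a : G ⧸ B, MulAction.stabilizer N a ≠ ⊥ := by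
    intro N hNn hNt
    rcases hNn.eq_bot_or_eq_top with e | e
    · subst e
      exfalso
      obtain ⟨y, hy⟩ := Fintype.exists_ne_of_one_lt_card (by rw [hΩ]; omega) o
      obtain ⟨⟨n, hn⟩, hny⟩ := hNt.exists_smul_eq o y
      rw [Subgroup.mem_bot] at hn
      subst hn
      exact hy (by rw [← hny]; exact (one_smul G o))
    · subst e
      refine ⟨o, fun e => ?_⟩
      obtain ⟨g, hg1, a, b, -, ga, -⟩ := hnontriv
      obtain ⟨x, hx⟩ := MulAction.exists_smul_eq G a o
      have hmem : (⟨x * g * x⁻¹, Subgroup.mem_top _⟩ : (⊤ : Subgroup G)) ∈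
          MulAction.stabilizer (⊤ : Subgroup G) o := by
        show (x * g * x⁻¹) • o = o
        rw [← hx, mul_smul, mul_smul, inv_smul_smul, ga]
      rw [e, Subgroup.mem_bot] at hmem
      exact hg1 (conj_eq_one_iff.1 (congrArg Subtype.val hmem))
  have hZ : Cfsg.IsZassenhausGroup G (G ⧸ B) :=
    ⟨⟨fun {g g'} hgg => by
      have := hcore (g'⁻¹ * g) fun y => by rw [mul_smul, hgg, inv_smul_smul]
      exact (inv_mul_eq_one.1 this).symm⟩, h2t, hthree, hnontriv, hreg'⟩
  rcases Cfsg.Agent.S0731.result hZ o Q (hstab.symm ▸ hQB)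
      (by rw [hstab]; exact Subgroup.normal_subgroupOf_iff hQB |>.2 fun a x ha hx => hQn x hx a ha)
      ⟨⟨fun a b => Subtype.ext (hcomm a a.2 b b.2)⟩⟩ hreg with ⟨h3, hbot⟩ | ⟨F, hF1, hF2, hF, hiso⟩
  · exfalso
    haveI := h3
    haveI : Nonempty (Fin 3 ↪ G ⧸ B) := Function.Embedding.nonempty_of_card_le
      (by rw [Fintype.card_fin, hΩ]; omega)
    obtain ⟨t0⟩ := (inferInstance : Nonempty (Fin 3 ↪ G ⧸ B))
    have hcard : Nat.card (Fin 3 ↪ G ⧸ B) = Nat.card G := by
      rw [← MulAction.index_stabilizer_of_transitive G t0, hbot t0, Subgroup.index_bot]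
    rw [Nat.card_eq_fintype_card (α := Fin 3 ↪ G ⧸ B), Fintype.card_embedding_eq, hΩ,
      Fintype.card_fin, hg'] at hcard
    simp only [Nat.descFactorial_succ, Nat.descFactorial_zero, mul_one, Nat.sub_zero,
      Nat.add_sub_cancel] at hcard
    rw [show q + 1 - 2 = 2 * d by omega] at hcard
    have hpos : 0 < q * d * (q + 1) := Nat.mul_pos (Nat.mul_pos Nat.card_pos hd0) (by omega)
    have e2 : 2 * d * (q * (q + 1)) = 2 * (q * d * (q + 1)) := by ring
    omega
  · exact ⟨F, hF1, hF2, Nat.odd_iff.2 (FiniteField.odd_card_of_char_ne_two hF), hiso⟩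

end Cfsg.Lib.BSW
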