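import Cfsg.Agent.Lib.BSW.Final
import Mathlib.Tactic.LinearCombination
import Mathlib.Algebra.Order.Field.Rat
import Mathlib.Algebra.Group.Conj
import Mathlib.Tactic.IntervalCases
import Mathlib.GroupTheory.SpecificGroups.Cyclic

/-!
# Brauer–Suzuki–Wall: the cases `k ≤ 2`, by counting
-/

set_option autoImplicit false
set_option linter.unusedSectionVars false
set_option linter.style.haveILetI false

namespace Cfsg.Lib.BSW

universe u

namespace Ctx

variable {G : Type u} [Group G] (c : Ctx G) [Fintype G] [DecidableEq G]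

theorem mem_R_of_prime {r : ℕ} (hr : r.Prime) (hrk : ¬ r ∣ 2 * c.k) {x : G}
    (hx : orderOf x = r) : x ∈ c.R := by
  refine c.mem_R.2 ⟨fun h => ?_, fun g hgx => ?_⟩
  · have h2 : r ∣ 2 := by rw [← hx]; exact orderOf_dvd_of_pow_eq_one (by rw [pow_two, h])
    exact hrk (h2.trans (dvd_mul_right 2 _))
  · refine hrk ?_
    rw [← c.card_K, ← hx, show orderOf x = orderOf (g * x * g⁻¹) from
      (orderOf_injective (MulAut.conj g).toMonoidHom (MulAut.conj g).injective x).symm,
      ← Nat.card_zpowers]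
    exact Subgroup.card_dvd_of_le (Subgroup.zpowers_le.2 hgx)

theorem odd_normalizer {P : Subgroup G} (hP : P ≠ ⊥) (hR : ∀ a ∈ P, a ≠ 1 → a ∈ c.R)
    (hni : ∀ a ∈ P, a ≠ 1 → ¬ IsInverted a) :
    Odd (Nat.card (Subgroup.normalizer (P : Set G))) := by
  rw [← Nat.not_even_iff_odd, even_iff_two_dvd]
  intro h2
  obtain ⟨⟨u, hu⟩, huo⟩ := exists_prime_orderOf_dvd_card'
    (G := ↥(Subgroup.normalizer (P : Set G))) 2 h2
  rw [Subgroup.orderOf_mk] at huo
  have hu1 : u ≠ 1 := fun e => by rw [e, orderOf_one] at huo; omega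
  have hu2 : u * u = 1 := by rw [← pow_two, ← huo, pow_orderOf_eq_one]
  obtain ⟨a, ha, ha1⟩ := (Subgroup.bot_or_exists_ne_one P).resolve_left hP
  refine hni a ha ha1 ⟨u, hu1, hu2, (inverts_of_no_fixed hu2
    (fun b hb => conj_mem_of_mem_normalizer hu hb) fun b hb hub => ?_).1 a ha⟩
  by_contra hb1
  exact (c.mem_R.1 (c.R_centralizer (hR b hb hb1) hub hu1)).1 hu2

/-- The conjugates of the nontrivial part of a centraliser. -/
noncomputable def fam (_c : Ctx G) (z : G) : Finset G := by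
  classical
  exact Finset.univ.filter fun w =>
    w ≠ 1 ∧ ∃ x : G, x * w * x⁻¹ ∈ Subgroup.centralizer ({z} : Set G)

theorem mem_fam {z w : G} :
    w ∈ c.fam z ↔ w ≠ 1 ∧ ∃ x : G, x * w * x⁻¹ ∈ Subgroup.centralizer ({z} : Set G) := by
  classical
  simp [fam]

theorem fam_sub {z w : G} (hz : z ∈ c.R) (hi : IsInverted z) (hw : w ∈ c.fam z) :
    w ∈ c.R ∧ IsInverted w ∧ Nat.card (Subgroup.centralizer ({w} : Set G)) =
      Nat.card (Subgroup.centralizer ({z} : Set G)) := by
  obtain ⟨hw1, x, hx⟩ := c.mem_fam.1 hw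
  have hne : x * w * x⁻¹ ≠ 1 := fun e => hw1 (conj_eq_one_iff.1 e)
  obtain ⟨hi', hC⟩ := c.inverted_centralizer hz hi hx hne
  have e : x⁻¹ * (x * w * x⁻¹) * x⁻¹⁻¹ = w := by group
  refine ⟨e ▸ c.R_conj (c.mem_R_of_mem_centralizer hz hx hne) x⁻¹,
    e ▸ inverted_conj hi' x⁻¹, ?_⟩
  rw [← card_centralizer_conj w x, hC]

theorem fam_conj {z : G} (g : G) : c.fam (g * z * g⁻¹) = c.fam z := by
  ext w
  simp only [mem_fam]
  refine and_congr_right fun _ => ⟨?_, ?_⟩
  · rintro ⟨x, hx⟩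
    refine ⟨g⁻¹ * x, ?_⟩
    rw [← conj_mem_centralizer (g := g)]
    simpa [mul_assoc] using hx
  · rintro ⟨x, hx⟩
    refine ⟨g * x, ?_⟩
    have := (conj_mem_centralizer (g := g)).2 hx
    simpa [mul_assoc] using this

/-- The numerical invariants of one family. -/
theorem fam_data {z : G} (hz : z ∈ c.R) (hi : IsInverted z) :
    ∃ m e : ℕ, 0 < m ∧ 2 ∣ e ∧ e ∣ 2 * c.k ∧
      Nat.card (Subgroup.centralizer ({z} : Set G)) = e * m + 1 ∧
      (c.fam z).card * Nat.card (Subgroup.centralizer ({z} : Set G)) = Nat.card G * m ∧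
      Nat.card (Subgroup.normalizer
        ((Subgroup.centralizer ({z} : Set G) : Subgroup G) : Set G)) =
        Nat.card (Subgroup.centralizer ({z} : Set G)) * e := by
  classical
  obtain ⟨g, hg⟩ := c.exists_tInverted hi
  set z' := g * z * g⁻¹ with hz'
  have hzR' : z' ∈ c.R := c.R_conj hz g
  have hcard : ∀ y : G, y ∈ c.R → IsInverted y → (c.fam y).card =
      (Subgroup.normalizer ((Subgroup.centralizer ({y} : Set G) : Subgroup G) : Set G)).index *
        (Nat.card (Subgroup.centralizer ({y} : Set G)) - 1) := fun y hy hyi =>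
    card_conj_centralizer (fun a ha ha1 => (c.inverted_centralizer hy hyi ha ha1).2) _
      fun w => c.mem_fam
  set a := Nat.card (Subgroup.centralizer ({z} : Set G)) with hadef
  have ha' : Nat.card (Subgroup.centralizer ({z'} : Set G)) = a := card_centralizer_conj z g
  have ha1 : 1 < a := by
    rw [hadef, Finite.one_lt_card_iff_nontrivial]
    exact ⟨⟨z, mem_centralizer_singleton.2 rfl⟩, 1, fun e => c.R_ne_one hz (congrArg Subtype.val e)⟩
  obtain ⟨-, hN'⟩ := c.normalizer_t hzR' hg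
  set e := Nat.card ↥(Subgroup.normalizer
    ((Subgroup.centralizer ({z'} : Set G) : Subgroup G) : Set G) ⊓ c.H) with hedef
  rw [ha'] at hN'
  have h1 := hcard z hz hi
  have h2 := hcard z' hzR' (inverted_conj hi g)
  rw [ha', hz', c.fam_conj, h1] at h2
  rw [← hz'] at h2
  have hidx := Nat.eq_of_mul_eq_mul_right (by omega) h2
  set N := Subgroup.normalizer ((Subgroup.centralizer ({z} : Set G) : Subgroup G) : Set G) with hNdef
  set N' := Subgroup.normalizer ((Subgroup.centralizer ({z'} : Set G) : Subgroup G) : Set G)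
  have hN : Nat.card N = a * e := by
    have h3 := N.index_mul_card
    rw [← N'.index_mul_card, ← hidx, hN'] at h3
    exact Nat.eq_of_mul_eq_mul_left (Nat.pos_of_ne_zero Subgroup.index_ne_zero_of_finite) h3
  -- the family is a union of classes of size `|G| / a`
  obtain ⟨s, hs⟩ : ∃ s, Nat.card G = s * a :=
    ⟨_, ((Subgroup.centralizer ({z} : Set G)).index_mul_card).symm⟩
  have hdvd : s ∣ (c.fam z).card := by
    rw [Finset.card_eq_sum_card_fiberwise (f := fun w => ConjClasses.mk w)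
      (t := (c.fam z).image fun w => ConjClasses.mk w)
      (fun w hw => Finset.mem_image_of_mem _ hw)]
    refine Finset.dvd_sum fun C hC => ?_
    obtain ⟨w, hw, rfl⟩ := Finset.mem_image.1 hC
    have hset : (c.fam z).filter (fun x => ConjClasses.mk x = ConjClasses.mk w) =
        Finset.univ.filter fun x => IsConj w x := by
      ext x
      simp only [Finset.mem_filter, Finset.mem_univ, true_and, ConjClasses.mk_eq_mk_iff_isConj]
      refine ⟨fun h => h.2.symm, fun h => ⟨?_, h.symm⟩⟩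
      obtain ⟨y, rfl⟩ := isConj_iff.1 h
      obtain ⟨hw1, x, hx⟩ := c.mem_fam.1 hw
      exact c.mem_fam.2 ⟨fun e => hw1 (conj_eq_one_iff.1 e), x * y⁻¹, by simpa [mul_assoc] using hx⟩
    rw [hset]
    have hcl : (Finset.univ.filter fun x => IsConj w x).card =
        (Subgroup.centralizer ({w} : Set G)).index := by
      rw [card_conj_TI (Subgroup.centralizer ({w} : Set G)) {w}]
      · simp
      · intro x hx b hb
        simp only [Finset.mem_singleton] at hb ⊢
        rw [hb, mem_centralizer_singleton.1 hx, mul_inv_cancel_right]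
      · intro x b hb hxb
        simp only [Finset.mem_singleton] at hb hxb
        rw [hb] at hxb
        exact mem_centralizer_singleton.2 (mul_inv_eq_iff_eq_mul.1 hxb)
      · intro x
        simp only [Finset.mem_filter, Finset.mem_univ, true_and, Finset.mem_singleton]
        exact ⟨fun h => isConj_iff.1 h.symm, fun h => (isConj_iff.2 h).symm⟩
    rw [hcl]
    have h4 := (Subgroup.centralizer ({w} : Set G)).index_mul_card
    rw [(c.fam_sub hz hi hw).2.2, hs] at h4
    exact dvd_of_eq (Nat.eq_of_mul_eq_mul_right (by omega) h4).symm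
  obtain ⟨m, hm⟩ := hdvd
  have hi0 : 0 < N.index := Nat.pos_of_ne_zero Subgroup.index_ne_zero_of_finite
  have hkey : a - 1 = e * m := by
    refine Nat.eq_of_mul_eq_mul_left (Nat.mul_pos hi0 (show 0 < a by omega)) ?_
    rw [h1] at hm
    have h3 := N.index_mul_card
    rw [hN, hs] at h3
    calc N.index * a * (a - 1) = N.index * (a - 1) * a := by ring
      _ = s * m * a := by rw [hm]
      _ = s * a * m := by ring
      _ = N.index * a * (e * m) := by rw [← h3]; ring
  have hm0 : 0 < m := by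
    rcases Nat.eq_zero_or_pos m with h | h
    · rw [h, mul_zero] at hkey; omega
    · exact h
  refine ⟨m, e, hm0, ?_, ?_, by omega, ?_, hN⟩
  · rw [hedef, ← c.orderOf_t, ← Nat.card_zpowers]
    exact Subgroup.card_dvd_of_le (Subgroup.zpowers_le.2 (c.t_mem_E hzR' hg))
  · rw [hedef, ← c.card_K]
    exact Subgroup.card_dvd_of_le (c.E_le_K hzR' hg)
  · rw [hm, hs]; ring

theorem exists_finish_rep {z : G} (hz : z ∈ c.R) (hi : IsInverted z) :
    ∃ z' ∈ c.R, c.t * z' * c.t⁻¹ = z'⁻¹ ∧ c.fam z' = c.fam z ∧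
      Nat.card (Subgroup.centralizer ({z'} : Set G)) =
        Nat.card (Subgroup.centralizer ({z} : Set G)) := by
  obtain ⟨g, hg⟩ := c.exists_tInverted hi
  exact ⟨_, c.R_conj hz g, hg, c.fam_conj g, card_centralizer_conj z g⟩

theorem finish_plus' {z : G} (hz : z ∈ c.R) (hi : IsInverted z)
    (hA : Nat.card (Subgroup.centralizer ({z} : Set G)) = 4 * c.k + 1) {m e : ℕ}
    (hm : (c.fam z).card * Nat.card (Subgroup.centralizer ({z} : Set G)) = Nat.card G * m)
    (hme : Nat.card (Subgroup.centralizer ({z} : Set G)) = e * m + 1) (he : e = 2 * c.k)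
    (hI : c.nInv = (4 * c.k + 1) * (2 * c.k + 1)) : Concl G := by
  obtain ⟨z', hzR', ht, hfam, hA'⟩ := c.exists_finish_rep hz hi
  obtain ⟨m', e', -, -, -, h1, h2, h3⟩ := c.fam_data hzR' ⟨c.t, c.t_ne, c.t_sq, ht⟩
  have hA'' := hA'.trans hA
  rw [hfam, hA', hm] at h2
  have hmm : m' = m := (Nat.eq_of_mul_eq_mul_left Nat.card_pos h2).symm
  have hee : e' = e := by
    have h5 : e' * m = e * m := by
      rw [hmm, hA', hme] at h1; omega
    refine Nat.eq_of_mul_eq_mul_right ?_ h5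
    rcases Nat.eq_zero_or_pos m with h | h
    · rw [h, mul_zero] at hme; have := c.k_pos; omega
    · exact h
  refine c.finish_plus hzR' ht hA'' ?_ hI
  rw [(c.normalizer_t hzR' ht).2] at h3
  rw [Nat.eq_of_mul_eq_mul_left Nat.card_pos h3, hee, he]

theorem fam_disjoint {z w : G} (hz : z ∈ c.R) (hzi : IsInverted z) (hw : w ∈ c.R)
    (hwi : IsInverted w) (hwz : w ∉ c.fam z) :
    Disjoint (c.fam z) (c.fam w) ∧
      Nat.Coprime (Nat.card (Subgroup.centralizer ({z} : Set G)))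
        (Nat.card (Subgroup.centralizer ({w} : Set G))) := by
  have key : ∀ y x : G, y ≠ 1 → y ∈ Subgroup.centralizer ({w} : Set G) →
      x * y * x⁻¹ ∈ Subgroup.centralizer ({z} : Set G) → False := by
    intro y x hy1 hy hx
    refine hwz (c.mem_fam.2 ⟨c.R_ne_one hw, x, ?_⟩)
    have hne : x * y * x⁻¹ ≠ 1 := fun e => hy1 (conj_eq_one_iff.1 e)
    rw [← (c.inverted_centralizer hz hzi hx hne).2]
    refine conj_mem_centralizer.2 ?_
    exact mem_centralizer_singleton.2 (mem_centralizer_singleton.1 hy).symm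
  refine ⟨Finset.disjoint_left.2 fun a ha hb => ?_, Nat.coprime_of_dvd fun p hp hpz hpw => ?_⟩
  · obtain ⟨ha1, x, hx⟩ := c.mem_fam.1 ha
    obtain ⟨-, y, hy⟩ := c.mem_fam.1 hb
    refine key _ (x * y⁻¹) (fun e => ha1 (conj_eq_one_iff.1 e)) hy ?_
    rwa [show x * y⁻¹ * (y * a * y⁻¹) * (x * y⁻¹)⁻¹ = x * a * x⁻¹ by group]
  · haveI : Fact p.Prime := ⟨hp⟩
    obtain ⟨⟨y, hy⟩, hyo⟩ := exists_prime_orderOf_dvd_card'
      (G := ↥(Subgroup.centralizer ({w} : Set G))) p hpw
    rw [Subgroup.orderOf_mk] at hyo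
    obtain ⟨x, hx⟩ := c.family_prime hz hzi hp hpz (by rw [hyo])
    exact key y x (fun e => hp.one_lt.ne' (by rw [← hyo, e, orderOf_one])) hy hx

/-- The inverted elements of `R`. -/
noncomputable def V : Finset G := by
  classical
  exact c.R.filter fun z => IsInverted z

theorem mem_V {z : G} : z ∈ c.V ↔ z ∈ c.R ∧ IsInverted z := by
  classical
  simp [V]

theorem fam_sub_V {z : G} (hz : z ∈ c.V) : c.fam z ⊆ c.V := fun _ hw =>
  let h := c.fam_sub (c.mem_V.1 hz).1 (c.mem_V.1 hz).2 hw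
  c.mem_V.2 ⟨h.1, h.2.1⟩

theorem mem_fam_self {z : G} (hz : z ∈ c.V) : z ∈ c.fam z :=
  c.mem_fam.2 ⟨c.R_ne_one (c.mem_V.1 hz).1, 1, by simp [mem_centralizer_singleton]⟩

theorem sum_fam_n {z : G} (hz : z ∈ c.V) :
    ∑ w ∈ c.fam z, c.n w =
      (c.fam z).card * Nat.card (Subgroup.centralizer ({z} : Set G)) := by
  rw [Finset.sum_congr rfl fun w hw => ?_, Finset.sum_const, smul_eq_mul]
  obtain ⟨h1, h2, h3⟩ := c.fam_sub (c.mem_V.1 hz).1 (c.mem_V.1 hz).2 hw
  rw [(c.n_le h1).2.2 h2, h3]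

theorem sum_V_n {M : ℕ} (h : ∑ z ∈ c.V, c.n z = Nat.card G * M) :
    4 * c.k * M + 1 + 2 * c.k + 2 * c.k * c.T.card = c.nInv := by
  have h2 : ∑ z ∈ c.R, c.n z = Nat.card G * M := by
    rw [← h]
    symm
    refine Finset.sum_subset (fun z hz => (c.mem_V.1 hz).1) fun z hz hzV => ?_
    exact (c.n_le hz).2.1.2 fun hi => hzV (c.mem_V.2 ⟨hz, hi⟩)
  have h3 := c.sum_R_n
  rw [h2, c.card_G] at h3
  refine Nat.eq_of_mul_eq_mul_left c.nInv_pos ?_
  rw [← h3]; ring

theorem dens_lt {S : Finset G} (hS : S ⊆ c.R) {r : ℚ} (hr : (S.card : ℚ) = (Nat.card G : ℚ) * r) :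
    4 * (c.k : ℚ) * r < 2 * c.k + 1 := by
  have h := Finset.card_le_card hS
  have h2 := c.card_R
  have h3 : (S.card : ℚ) < (2 * c.k + 1) * c.nInv := by
    have : S.card < (2 * c.k + 1) * c.nInv := by omega
    exact_mod_cast this
  rw [hr, c.card_G] at h3
  push_cast at h3
  have hI : (0 : ℚ) < c.nInv := by exact_mod_cast c.nInv_pos
  by_contra hno
  push Not at hno
  nlinarith

theorem fam_ratio {z : G} {m : ℕ}
    (hm : (c.fam z).card * Nat.card (Subgroup.centralizer ({z} : Set G)) = Nat.card G * m) :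
    ((c.fam z).card : ℚ) =
      (Nat.card G : ℚ) * ((m : ℚ) / Nat.card (Subgroup.centralizer ({z} : Set G))) := by
  have h : ((c.fam z).card : ℚ) * (Nat.card (Subgroup.centralizer ({z} : Set G)) : ℕ) =
      (Nat.card G : ℚ) * m := by exact_mod_cast hm
  rw [mul_div_assoc', eq_div_iff (Nat.cast_ne_zero.2 Nat.card_pos.ne')]
  exact h

theorem zero_fam_one (hk : c.k = 1) (hI : c.nInv = 3) (hV : c.V = ∅) : Concl G := by
  haveI : Fact (Nat.Prime 3) := ⟨Nat.prime_three⟩
  have hg : Nat.card G = 12 := by rw [c.card_G, hk, hI]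
  obtain ⟨x, hx⟩ := exists_prime_orderOf_dvd_card' (G := G) 3 (by rw [hg]; norm_num)
  have hR : ∀ y ∈ Subgroup.zpowers x, y ≠ 1 → y ∈ c.R ∧
      Subgroup.centralizer ({y} : Set G) = Subgroup.zpowers x := by
    intro y hy hy1
    have hyo : orderOf y = 3 := by
      have hd : orderOf y ∣ 3 := hx ▸ Nat.card_zpowers x ▸
        (Nat.card_zpowers y ▸ Subgroup.card_dvd_of_le (Subgroup.zpowers_le.2 hy))
      exact ((Nat.dvd_prime Nat.prime_three).1 hd).resolve_left
        fun e => hy1 (orderOf_eq_one_iff.1 e)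
    have hyR := c.mem_R_of_prime Nat.prime_three (by rw [hk]; norm_num) hyo
    refine ⟨hyR, (Subgroup.eq_of_le_of_card_ge (fun a ha => ?_) ?_).symm⟩
    · rw [mem_centralizer_singleton]
      obtain ⟨i, rfl⟩ := Subgroup.mem_zpowers_iff.1 ha
      obtain ⟨j, rfl⟩ := Subgroup.mem_zpowers_iff.1 hy
      exact ((Commute.refl x).zpow_zpow i j).eq
    · rw [Nat.card_zpowers, hx, ← hI]
      exact Nat.le_of_dvd c.nInv_pos (c.card_centralizer_dvd hyR)
  have hne : Subgroup.zpowers x ≠ ⊥ := fun e => by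
    rw [Subgroup.zpowers_eq_bot] at e
    rw [e, orderOf_one] at hx
    omega
  have hodd := c.odd_normalizer hne (fun a ha ha1 => (hR a ha ha1).1) fun a ha ha1 hi => by
    have := c.mem_V.2 ⟨(hR a ha ha1).1, hi⟩
    simp [hV] at this
  refine ⟨Subgroup.zpowers x, ⊥, ?_, fun y hy hy1 => (hR y hy hy1).2, ?_, ?_, inf_bot_eq _, ?_,
    fun X hX hX1 => absurd (le_bot_iff.1 hX) hX1⟩
  · rw [Nat.card_zpowers, hx, hg]
  · exact ⟨⟨fun a b => Subsingleton.elim _ _⟩⟩
  · rw [Nat.card_zpowers, hx, Subgroup.card_bot]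
  · rw [sup_bot_eq]
    refine (Subgroup.eq_of_le_of_card_ge Subgroup.le_normalizer ?_).symm
    rw [Nat.card_zpowers, hx]
    have hd : Nat.card (Subgroup.normalizer ((Subgroup.zpowers x : Subgroup G) : Set G)) ∣ 12 :=
      hg ▸ Subgroup.card_subgroup_dvd_card _
    have hle := Nat.le_of_dvd (by norm_num) hd
    rw [Nat.odd_iff] at hodd
    interval_cases (Nat.card (Subgroup.normalizer ((Subgroup.zpowers x : Subgroup G) : Set G))) <;>
      omega

theorem one_concl (hk : c.k = 1) : Concl G := by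
  classical
  have hT : c.T.card = 0 := by have := c.card_T; omega
  rcases c.V.eq_empty_or_nonempty with hV | ⟨z, hz⟩
  · have h := c.sum_V_n (M := 0) (by rw [hV]; simp)
    exact c.zero_fam_one hk (by rw [hk, hT] at h; omega) hV
  obtain ⟨hzR, hzi⟩ := c.mem_V.1 hz
  obtain ⟨m, e, hm0, he, he2, ha, hm, -⟩ := c.fam_data hzR hzi
  have he' : e = 2 := Nat.dvd_antisymm (by simpa [hk] using he2) he
  subst he'
  by_cases hall : c.V ⊆ c.fam z
  · exfalso
    have hV : c.V = c.fam z := Finset.Subset.antisymm hall (c.fam_sub_V hz)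
    have h := c.sum_V_n (M := m) (by rw [hV, c.sum_fam_n hz, hm])
    rw [hk, hT] at h
    have hd := c.card_centralizer_dvd hzR
    rw [ha, show c.nInv = 1 + (2 * m + 1) * 2 by omega] at hd
    have := Nat.le_of_dvd one_pos ((Nat.dvd_add_left (dvd_mul_right _ 2)).1 hd)
    omega
  obtain ⟨w, hw, hwz⟩ := Finset.not_subset.1 hall
  obtain ⟨hwR, hwi⟩ := c.mem_V.1 hw
  obtain ⟨n, e, hn0, he, he2, hb, hn, -⟩ := c.fam_data hwR hwi
  have he' : e = 2 := Nat.dvd_antisymm (by simpa [hk] using he2) he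
  subst he'
  obtain ⟨hdis, hco⟩ := c.fam_disjoint hzR hzi hwR hwi hwz
  have hsubR : ∀ y ∈ c.V, c.fam y ⊆ c.R := fun y hy a ha => (c.mem_V.1 (c.fam_sub_V hy ha)).1
  have hr := c.dens_lt (S := c.fam z ∪ c.fam w) (Finset.union_subset (hsubR z hz) (hsubR w hw))
    (r := (m : ℚ) / (2 * m + 1 : ℕ) + (n : ℚ) / (2 * n + 1 : ℕ)) (by
      rw [Finset.card_union_of_disjoint hdis, Nat.cast_add, c.fam_ratio hm, c.fam_ratio hn, ha, hb]
      ring)
  rw [hk] at hr
  push_cast at hr
  rw [ha, hb] at hco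
  have hmn : (m = 1 ∧ n = 2) ∨ (m = 2 ∧ n = 1) := by
    have hne : m ≠ n := by
      rintro rfl
      rw [Nat.coprime_self] at hco
      omega
    have hb1 : ∀ j : ℕ, 0 < j → (1 : ℚ) / 3 ≤ (j : ℚ) / (2 * j + 1) ∧
        (2 ≤ j → (2 : ℚ) / 5 ≤ (j : ℚ) / (2 * j + 1)) ∧
        (3 ≤ j → (3 : ℚ) / 7 ≤ (j : ℚ) / (2 * j + 1)) := by
      intro j hj
      have h1 : (1 : ℚ) ≤ j := by exact_mod_cast hj
      refine ⟨?_, fun h => ?_, fun h => ?_⟩
      all_goals rw [div_le_div_iff₀ (by norm_num) (by positivity)]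
      · linarith
      · have : (2 : ℚ) ≤ j := by exact_mod_cast h
        linarith
      · have : (3 : ℚ) ≤ j := by exact_mod_cast h
        linarith
    by_contra hno
    have : (3 ≤ m) ∨ (3 ≤ n) := by omega
    rcases this with h | h
    · have := (hb1 m hm0).2.2 h
      have := (hb1 n hn0).1
      linarith
    · have := (hb1 n hn0).2.2 h
      have := (hb1 m hm0).1
      linarith
  have hVU : c.V = c.fam z ∪ c.fam w := by
    refine Finset.Subset.antisymm (fun y hy => ?_)
      (Finset.union_subset (c.fam_sub_V hz) (c.fam_sub_V hw))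
    by_contra hno
    rw [Finset.mem_union, not_or] at hno
    obtain ⟨hyR, hyi⟩ := c.mem_V.1 hy
    obtain ⟨o, e, ho0, he, he2, hc', ho, -⟩ := c.fam_data hyR hyi
    have he' : e = 2 := Nat.dvd_antisymm (by simpa [hk] using he2) he
    subst he'
    obtain ⟨hd1, -⟩ := c.fam_disjoint hzR hzi hyR hyi hno.1
    obtain ⟨hd2, -⟩ := c.fam_disjoint hwR hwi hyR hyi hno.2
    have hr3 := c.dens_lt (S := c.fam z ∪ c.fam w ∪ c.fam y)
      (Finset.union_subset (Finset.union_subset (hsubR z hz) (hsubR w hw)) (hsubR y hy))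
      (r := (m : ℚ) / (2 * m + 1 : ℕ) + (n : ℚ) / (2 * n + 1 : ℕ) + (o : ℚ) / (2 * o + 1 : ℕ)) (by
        rw [Finset.card_union_of_disjoint (Finset.disjoint_union_left.2 ⟨hd1, hd2⟩),
          Finset.card_union_of_disjoint hdis, Nat.cast_add, Nat.cast_add, c.fam_ratio hm,
          c.fam_ratio hn, c.fam_ratio ho, ha, hb, hc']
        ring)
    rw [hk] at hr3
    push_cast at hr3
    have h3 : (1 : ℚ) / 3 ≤ (o : ℚ) / (2 * o + 1) := by
      rw [div_le_div_iff₀ (by norm_num) (by positivity)]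
      have : (1 : ℚ) ≤ o := by exact_mod_cast ho0
      linarith
    rcases hmn with ⟨rfl, rfl⟩ | ⟨rfl, rfl⟩ <;> norm_num at hr3 <;> linarith
  have hsum := c.sum_V_n (M := m + n) (by
    rw [hVU, Finset.sum_union hdis, c.sum_fam_n hz, c.sum_fam_n hw, hm, hn]; ring)
  rw [hk, hT] at hsum
  have hI : c.nInv = (4 * c.k + 1) * (2 * c.k + 1) := by rw [hk]; omega
  rcases hmn with ⟨rfl, rfl⟩ | ⟨rfl, rfl⟩
  · exact c.finish_plus' hwR hwi (by rw [hb, hk]) hn hb (by rw [hk]) hI
  · exact c.finish_plus' hzR hzi (by rw [ha, hk]) hm ha (by rw [hk]) hI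

theorem no_thirteen (hk : c.k = 2) (hI : c.nInv = 13) (hV : c.V = ∅) : False := by
  haveI : Fact (Nat.Prime 13) := ⟨by norm_num⟩
  have hg : Nat.card G = 104 := by rw [c.card_G, hk, hI]
  obtain ⟨P⟩ := (inferInstance : Nonempty (Sylow 13 G))
  have hPc : Nat.card (P : Subgroup G) = 13 := by
    rw [P.card_eq_multiplicity, hg, show (104 : ℕ) = 13 * 8 by norm_num,
      Nat.factorization_mul (by norm_num) (by norm_num), Finsupp.add_apply,
      Nat.Prime.factorization_self (by norm_num), Nat.factorization_eq_zero_of_not_dvd (by norm_num)]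
    rfl
  have hne : (P : Subgroup G) ≠ ⊥ := fun e => by rw [e, Subgroup.card_bot] at hPc; omega
  have hR : ∀ a ∈ (P : Subgroup G), a ≠ 1 → a ∈ c.R := by
    intro a ha ha1
    refine c.mem_R_of_prime (r := 13) (by norm_num) (by rw [hk]; norm_num) ?_
    have hd : orderOf a ∣ 13 := hPc ▸ Nat.card_zpowers a ▸
      Subgroup.card_dvd_of_le (Subgroup.zpowers_le.2 ha)
    exact ((Nat.dvd_prime (by norm_num)).1 hd).resolve_left fun e => ha1 (orderOf_eq_one_iff.1 e)
  have hodd := c.odd_normalizer hne hR fun a ha ha1 hi => by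
    have := c.mem_V.2 ⟨hR a ha ha1, hi⟩
    simp [hV] at this
  have h1 := card_sylow_modEq_one 13 G
  rw [P.card_eq_index_normalizer] at h1
  change (Subgroup.normalizer ((P : Subgroup G) : Set G)).index ≡ 1 [MOD 13] at h1
  have h2 := (Subgroup.normalizer ((P : Subgroup G) : Set G)).index_mul_card
  have h3 : 13 ∣ Nat.card (Subgroup.normalizer ((P : Subgroup G) : Set G)) := by
    have h := Subgroup.card_dvd_of_le (Subgroup.le_normalizer (H := (P : Subgroup G)))
    rwa [hPc] at h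
  rw [hg] at h2
  obtain ⟨d, hd⟩ := h3
  rw [hd] at h2 hodd
  rw [Nat.ModEq] at h1
  have hid : (Subgroup.normalizer ((P : Subgroup G) : Set G)).index * d = 8 := by nlinarith
  have hle := Nat.le_of_dvd (show 0 < 8 by norm_num) ⟨d, hid.symm⟩
  rw [Nat.odd_iff] at hodd
  interval_cases hx : (Subgroup.normalizer ((P : Subgroup G) : Set G)).index <;> omega

/-- The Sylow subgroups for a prime `r` prime to the inverted centraliser. -/
theorem outside_family {z : G} (hz : z ∈ c.R) (hzi : IsInverted z) (hVz : c.V ⊆ c.fam z)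
    {r : ℕ} (hr : r.Prime) (hrA : ¬ r ∣ Nat.card (Subgroup.centralizer ({z} : Set G)))
    (hrk : ¬ r ∣ 2 * c.k) {x : G} (hx : orderOf x = r) :
    x ∈ c.R ∧ ¬ IsInverted x ∧
      Nat.Coprime (Nat.card (Subgroup.centralizer ({z} : Set G)))
        (Nat.card (Subgroup.centralizer ({x} : Set G))) := by
  have hxR := c.mem_R_of_prime hr hrk hx
  have hnot : ∀ g : G, g * x * g⁻¹ ∉ Subgroup.centralizer ({z} : Set G) := by
    intro g hg
    refine hrA (hx ▸ ?_)
    rw [show orderOf x = orderOf (g * x * g⁻¹) from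
      (orderOf_injective (MulAut.conj g).toMonoidHom (MulAut.conj g).injective x).symm,
      ← Nat.card_zpowers]
    exact Subgroup.card_dvd_of_le (Subgroup.zpowers_le.2 hg)
  refine ⟨hxR, fun hi => ?_, Nat.coprime_of_dvd fun p hp hpz hpx => ?_⟩
  · obtain ⟨-, g, hg⟩ := c.mem_fam.1 (hVz (c.mem_V.2 ⟨hxR, hi⟩))
    exact hnot g hg
  · haveI : Fact p.Prime := ⟨hp⟩
    obtain ⟨⟨w, hw⟩, hwo⟩ := exists_prime_orderOf_dvd_card'
      (G := ↥(Subgroup.centralizer ({x} : Set G))) p hpx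
    rw [Subgroup.orderOf_mk] at hwo
    obtain ⟨g, hg⟩ := c.family_prime hz hzi hp hpz (by rw [hwo])
    refine hnot g ?_
    have hw1 : w ≠ 1 := fun e => hp.one_lt.ne' (by rw [← hwo, e, orderOf_one])
    rw [← (c.inverted_centralizer hz hzi hg fun e => hw1 (conj_eq_one_iff.1 e)).2]
    exact conj_mem_centralizer.2
      (mem_centralizer_singleton.2 (mem_centralizer_singleton.1 hw).symm)

theorem sylow_prime_order {r : ℕ} [Fact r.Prime] (P : Sylow r G)
    (hP : Nat.card (P : Subgroup G) = r) {a : G} (ha : a ∈ (P : Subgroup G)) (ha1 : a ≠ 1) :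
    orderOf a = r := by
  have hd : orderOf a ∣ Nat.card (P : Subgroup G) :=
    Nat.card_zpowers a ▸ Subgroup.card_dvd_of_le (Subgroup.zpowers_le.2 ha)
  rw [hP] at hd
  exact ((Nat.dvd_prime Fact.out).1 hd).resolve_left fun e => ha1 (orderOf_eq_one_iff.1 e)

theorem no_nine (hk : c.k = 2) (hI : c.nInv = 45) {z : G} (hz : z ∈ c.R) (hzi : IsInverted z)
    (hA : Nat.card (Subgroup.centralizer ({z} : Set G)) = 9) (hVz : c.V ⊆ c.fam z) : False := by
  haveI : Fact (Nat.Prime 5) := ⟨by norm_num⟩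
  haveI : Fact (Nat.Prime 3) := ⟨Nat.prime_three⟩
  have hg : Nat.card G = 360 := by rw [c.card_G, hk, hI]
  obtain ⟨P⟩ := (inferInstance : Nonempty (Sylow 5 G))
  have hPc : Nat.card (P : Subgroup G) = 5 := by
    rw [P.card_eq_multiplicity, hg, show (360 : ℕ) = 5 * 72 by norm_num,
      Nat.factorization_mul (by norm_num) (by norm_num), Finsupp.add_apply,
      Nat.Prime.factorization_self (by norm_num), Nat.factorization_eq_zero_of_not_dvd (by norm_num)]
    rfl
  have hne : (P : Subgroup G) ≠ ⊥ := fun e => by rw [e, Subgroup.card_bot] at hPc; omega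
  have hout : ∀ a ∈ (P : Subgroup G), a ≠ 1 → a ∈ c.R ∧ ¬ IsInverted a ∧
      Nat.Coprime 9 (Nat.card (Subgroup.centralizer ({a} : Set G))) := fun a ha ha1 => by
    have h := c.outside_family hz hzi hVz (r := 5) (by norm_num) (by rw [hA]; norm_num)
      (by rw [hk]; norm_num) (sylow_prime_order P hPc ha ha1)
    rw [hA] at h
    exact h
  have hodd := c.odd_normalizer hne (fun a ha ha1 => (hout a ha ha1).1)
    fun a ha ha1 => (hout a ha ha1).2.1
  have h3 : ¬ 3 ∣ Nat.card (Subgroup.normalizer ((P : Subgroup G) : Set G)) := by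
    intro h
    obtain ⟨⟨w, hw⟩, hwo⟩ := exists_prime_orderOf_dvd_card'
      (G := ↥(Subgroup.normalizer ((P : Subgroup G) : Set G))) 3 h
    rw [Subgroup.orderOf_mk] at hwo
    obtain ⟨a, ha, ha1⟩ := (Subgroup.bot_or_exists_ne_one _).resolve_left hne
    have hao := sylow_prime_order P hPc ha ha1
    have hgen : Subgroup.zpowers a = (P : Subgroup G) :=
      Subgroup.eq_of_le_of_card_ge (Subgroup.zpowers_le.2 ha) (by rw [Nat.card_zpowers, hao, hPc])
    obtain ⟨i, hi⟩ : ∃ i : ℕ, a ^ i = w * a * w⁻¹ := by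
      have h := conj_mem_of_mem_normalizer hw ha
      rw [← hgen] at h
      exact mem_powers_iff_mem_zpowers.2 h
    have hpow : ∀ j : ℕ, w ^ j * a * (w ^ j)⁻¹ = a ^ (i ^ j) := by
      intro j
      induction j with
      | zero => simp
      | succ j ih =>
        calc w ^ (j + 1) * a * (w ^ (j + 1))⁻¹ = w * (w ^ j * a * (w ^ j)⁻¹) * w⁻¹ := by
              rw [pow_succ']; group
          _ = w * a ^ (i ^ j) * w⁻¹ := by rw [ih]
          _ = (w * a * w⁻¹) ^ (i ^ j) := by rw [conj_pow]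
          _ = a ^ (i ^ (j + 1)) := by rw [← hi, ← pow_mul, pow_succ']
    have h5 : a ^ (i ^ 3) = a ^ 1 := by
      rw [← hpow 3, ← hwo, pow_orderOf_eq_one]; simp
    rw [pow_eq_pow_iff_modEq, hao] at h5
    have hi5 : i % 5 = 1 := by
      have h6 : (i % 5) ^ 3 % 5 = 1 := by rw [← Nat.pow_mod]; exact h5
      have h7 : i % 5 < 5 := Nat.mod_lt _ (by norm_num)
      interval_cases h8 : i % 5 <;> simp_all
    have hcomm : w * a = a * w := by
      have : w * a * w⁻¹ = a := by
        rw [← hi, ← pow_mod_orderOf, hao, hi5, pow_one]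
      exact mul_inv_eq_iff_eq_mul.1 this
    have hd : 3 ∣ Nat.card (Subgroup.centralizer ({a} : Set G)) := by
      rw [← hwo, ← Nat.card_zpowers]
      exact Subgroup.card_dvd_of_le (Subgroup.zpowers_le.2 (mem_centralizer_singleton.2 hcomm))
    exact Nat.Prime.not_coprime_iff_dvd.2 ⟨3, Nat.prime_three, by norm_num, hd⟩
      (hout a ha ha1).2.2
  have h1 := card_sylow_modEq_one 5 G
  rw [P.card_eq_index_normalizer] at h1
  change (Subgroup.normalizer ((P : Subgroup G) : Set G)).index ≡ 1 [MOD 5] at h1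
  have h2 := (Subgroup.normalizer ((P : Subgroup G) : Set G)).index_mul_card
  have h5 : 5 ∣ Nat.card (Subgroup.normalizer ((P : Subgroup G) : Set G)) := by
    have h := Subgroup.card_dvd_of_le (Subgroup.le_normalizer (H := (P : Subgroup G)))
    rwa [hPc] at h
  rw [hg] at h2
  obtain ⟨d, hd⟩ := h5
  rw [hd] at h2 hodd h3
  rw [Nat.ModEq] at h1
  have hid : (Subgroup.normalizer ((P : Subgroup G) : Set G)).index * d = 72 := by nlinarith
  have hd72 : d ∣ 72 := ⟨_, (mul_comm d _).trans hid |>.symm⟩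
  have hle := Nat.le_of_dvd (show 0 < 72 by norm_num) hd72
  rw [Nat.odd_iff] at hodd
  interval_cases d <;> omega

theorem order_168 (hk : c.k = 2) (hI : c.nInv = 21) {z : G} (hz : z ∈ c.R) (hzi : IsInverted z)
    (hA : Nat.card (Subgroup.centralizer ({z} : Set G)) = 3) (hVz : c.V ⊆ c.fam z) :
    Concl G := by
  haveI : Fact (Nat.Prime 7) := ⟨by norm_num⟩
  haveI : Fact (Nat.Prime 3) := ⟨Nat.prime_three⟩
  have hg : Nat.card G = 168 := by rw [c.card_G, hk, hI]
  obtain ⟨P⟩ := (inferInstance : Nonempty (Sylow 7 G))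
  have hPc : Nat.card (P : Subgroup G) = 7 := by
    rw [P.card_eq_multiplicity, hg, show (168 : ℕ) = 7 * 24 by norm_num,
      Nat.factorization_mul (by norm_num) (by norm_num), Finsupp.add_apply,
      Nat.Prime.factorization_self (by norm_num), Nat.factorization_eq_zero_of_not_dvd (by norm_num)]
    rfl
  have hne : (P : Subgroup G) ≠ ⊥ := fun e => by rw [e, Subgroup.card_bot] at hPc; omega
  have hout : ∀ a ∈ (P : Subgroup G), a ≠ 1 → a ∈ c.R ∧ ¬ IsInverted a ∧
      Nat.Coprime 3 (Nat.card (Subgroup.centralizer ({a} : Set G))) := fun a ha ha1 => by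
    have h := c.outside_family hz hzi hVz (r := 7) (by norm_num) (by rw [hA]; norm_num)
      (by rw [hk]; norm_num) (sylow_prime_order P hPc ha ha1)
    rw [hA] at h
    exact h
  have hC : ∀ a ∈ (P : Subgroup G), a ≠ 1 →
      Subgroup.centralizer ({a} : Set G) = (P : Subgroup G) := by
    intro a ha ha1
    obtain ⟨haR, -, hco⟩ := hout a ha ha1
    have hd : Nat.card (Subgroup.centralizer ({a} : Set G)) ∣ 7 := by
      have h := c.card_centralizer_dvd haR
      rw [hI] at h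
      exact hco.symm.dvd_of_dvd_mul_left (show _ ∣ 3 * 7 from h)
    refine (Subgroup.eq_of_le_of_card_ge ?_ (by rw [hPc]; exact Nat.le_of_dvd (by norm_num) hd)).symm
    haveI : IsCyclic ↥(P : Subgroup G) := isCyclic_of_prime_card hPc
    intro b hb
    have := (IsCyclic.commutative (α := ↥(P : Subgroup G))).is_comm.comm ⟨b, hb⟩ ⟨a, ha⟩
    exact mem_centralizer_singleton.2 (congrArg Subtype.val this)
  have hodd := c.odd_normalizer hne (fun a ha ha1 => (hout a ha ha1).1)
    fun a ha ha1 => (hout a ha ha1).2.1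
  set N := Subgroup.normalizer ((P : Subgroup G) : Set G) with hN
  have hNc : Nat.card N = 21 := by
    have h1 := card_sylow_modEq_one 7 G
    rw [P.card_eq_index_normalizer] at h1
    change N.index ≡ 1 [MOD 7] at h1
    have h2 := N.index_mul_card
    have h7 : 7 ∣ Nat.card N := by
      have h := Subgroup.card_dvd_of_le (Subgroup.le_normalizer (H := (P : Subgroup G)))
      rwa [hPc] at h
    rw [hg] at h2
    obtain ⟨d, hd⟩ := h7
    rw [hd] at h2 hodd ⊢
    rw [Nat.ModEq] at h1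
    have hid : N.index * d = 24 := by nlinarith
    have hd24 : d ∣ 24 := ⟨_, (mul_comm d _).trans hid |>.symm⟩
    have hle := Nat.le_of_dvd (show 0 < 24 by norm_num) hd24
    rw [Nat.odd_iff] at hodd
    interval_cases d <;> omega
  obtain ⟨⟨w, hwN⟩, hwo⟩ := exists_prime_orderOf_dvd_card' (G := ↥N) 3 (by rw [hNc]; norm_num)
  rw [Subgroup.orderOf_mk] at hwo
  have hw1 : w ≠ 1 := fun e => by rw [e, orderOf_one] at hwo; omega
  have hwV : w ∈ c.fam z :=
    c.mem_fam.2 ⟨hw1, c.family_prime hz hzi Nat.prime_three (by rw [hA]) (by rw [hwo])⟩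
  obtain ⟨hwR, hwi, hwC⟩ := c.fam_sub hz hzi hwV
  rw [hA] at hwC
  set D := Subgroup.centralizer ({w} : Set G) with hD
  obtain ⟨m, e, hm0, he, he2, ha, -, hNw⟩ := c.fam_data hwR hwi
  rw [hwC] at ha
  have he' : e = 2 := by
    have h1 : e ≤ 2 := by nlinarith
    have h2 : e ≠ 0 := by rintro rfl; omega
    omega
  subst he'
  obtain ⟨u, hu1, hu, huw⟩ := hwi
  obtain ⟨-, hN2, huA⟩ := c.normalizer_two hwR hu1 hu huw (by rw [hNw, mul_comm])
  obtain ⟨hinv, hab⟩ := c.inverter hwR hu1 hu huw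
  have hDgen : D = Subgroup.zpowers w :=
    (Subgroup.eq_of_le_of_card_ge (Subgroup.zpowers_le.2 (mem_centralizer_singleton.2 rfl))
      (by rw [Nat.card_zpowers, hwo, hwC])).symm
  refine ⟨(P : Subgroup G), D, ?_, hC, ⟨⟨fun a b => Subtype.ext (hab a.1 a.2 b.1 b.2)⟩⟩, ?_,
    Subgroup.inf_eq_bot_of_coprime (by rw [hPc, hwC]; norm_num), ?_, fun X hX hX1 => ⟨?_, u,
      orderOf_eq_prime (by rw [pow_two, hu]) hu1, huA, hinv, hN2⟩⟩
  · rw [hPc, hg]
  · rw [hPc, hwC]
  · have hle : (P : Subgroup G) ⊔ D ≤ N :=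
      sup_le Subgroup.le_normalizer (hDgen ▸ Subgroup.zpowers_le.2 hwN)
    refine (Subgroup.eq_of_le_of_card_ge hle ?_).symm
    rw [hNc]
    refine Nat.le_of_dvd Nat.card_pos ?_
    exact Nat.Coprime.mul_dvd_of_dvd_of_dvd (m := 3) (n := 7) (by norm_num)
      (by
        have h := Subgroup.card_dvd_of_le (le_sup_right : D ≤ (P : Subgroup G) ⊔ D)
        rwa [hwC] at h)
      (by
        have h := Subgroup.card_dvd_of_le (le_sup_left : (P : Subgroup G) ≤ (P : Subgroup G) ⊔ D)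
        rwa [hPc] at h)
  · refine congrArg (fun S : Subgroup G => Subgroup.normalizer (S : Set G))
      (Subgroup.eq_of_le_of_card_ge hX ?_)
    rw [hwC]
    have hd : Nat.card X ∣ 3 := hwC ▸ Subgroup.card_dvd_of_le hX
    rcases (Nat.dvd_prime Nat.prime_three).1 hd with h | h
    · exact absurd (Subgroup.card_eq_one.1 h) hX1
    · rw [h]

set_option maxHeartbeats 2000000 in
theorem two_concl (hk : c.k = 2) : Concl G := by
  classical
  have hT : c.T.card = 2 := by have := c.card_T; omega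
  rcases c.V.eq_empty_or_nonempty with hV | ⟨z, hz⟩
  · have h := c.sum_V_n (M := 0) (by rw [hV]; simp)
    exact (c.no_thirteen hk (by rw [hk, hT] at h; omega) hV).elim
  have hopt : ∀ e : ℕ, 2 ∣ e → e ∣ 2 * c.k → e = 2 ∨ e = 4 := by
    intro e h1 h2
    rw [hk] at h2
    have := Nat.le_of_dvd (by norm_num) h2
    interval_cases e <;> omega
  obtain ⟨hzR, hzi⟩ := c.mem_V.1 hz
  obtain ⟨m, e, hm0, he0, he2, ha, hm, -⟩ := c.fam_data hzR hzi
  by_cases hall : c.V ⊆ c.fam z
  · have hV : c.V = c.fam z := Finset.Subset.antisymm hall (c.fam_sub_V hz)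
    have h := c.sum_V_n (M := m) (by rw [hV, c.sum_fam_n hz, hm])
    rw [hk, hT] at h
    have hd := c.card_centralizer_dvd hzR
    rw [ha] at hd
    rcases hopt e he0 he2 with rfl | rfl
    · rw [show c.nInv = 9 + (2 * m + 1) * 4 by omega, Nat.dvd_add_left (dvd_mul_right _ 4)] at hd
      have := Nat.le_of_dvd (by norm_num) hd
      have hm4 : m ≤ 4 := by omega
      interval_cases m
      · exact c.order_168 hk (by omega) hzR hzi ha hall
      · omega
      · omega
      · exact (c.no_nine hk (by omega) hzR hzi ha hall).elim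
    · rw [show c.nInv = 11 + (4 * m + 1) * 2 by omega, Nat.dvd_add_left (dvd_mul_right _ 2)] at hd
      have := Nat.le_of_dvd (by norm_num) hd
      have hm4 : m ≤ 2 := by omega
      interval_cases m <;> omega
  obtain ⟨w, hw, hwz⟩ := Finset.not_subset.1 hall
  obtain ⟨hwR, hwi⟩ := c.mem_V.1 hw
  obtain ⟨n, f, hn0, hf0, hf2, hb, hn, -⟩ := c.fam_data hwR hwi
  obtain ⟨hdis, hco⟩ := c.fam_disjoint hzR hzi hwR hwi hwz
  have hcard_dvd : (e * m + 1) * (f * n + 1) ∣ c.nInv := by
    rw [← ha, ← hb]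
    exact hco.mul_dvd_of_dvd_of_dvd (c.card_centralizer_dvd hzR) (c.card_centralizer_dvd hwR)
  rw [ha, hb] at hco
  have hsubR : ∀ y ∈ c.V, c.fam y ⊆ c.R := fun y hy a ha => (c.mem_V.1 (c.fam_sub_V hy ha)).1
  have hr := c.dens_lt (S := c.fam z ∪ c.fam w) (Finset.union_subset (hsubR z hz) (hsubR w hw))
    (r := (m : ℚ) / (e * m + 1 : ℕ) + (n : ℚ) / (f * n + 1 : ℕ)) (by
      rw [Finset.card_union_of_disjoint hdis, Nat.cast_add, c.fam_ratio hm, c.fam_ratio hn, ha, hb]
      ring)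
  rw [hk] at hr
  push_cast at hr
  -- lower bounds for the densities
  have hb2 : ∀ j : ℕ, 0 < j → ((1 : ℚ) / 3 ≤ (j : ℚ) / (2 * j + 1)) ∧
      (2 ≤ j → (2 : ℚ) / 5 ≤ (j : ℚ) / (2 * j + 1)) ∧
      (3 ≤ j → (3 : ℚ) / 7 ≤ (j : ℚ) / (2 * j + 1)) ∧
      ((1 : ℚ) / 5 ≤ (j : ℚ) / (4 * j + 1)) ∧
      (2 ≤ j → (2 : ℚ) / 9 ≤ (j : ℚ) / (4 * j + 1)) ∧
      (3 ≤ j → (3 : ℚ) / 13 ≤ (j : ℚ) / (4 * j + 1)) := by
    intro j hj
    have h1 : (1 : ℚ) ≤ j := by exact_mod_cast hj
    refine ⟨?_, fun h => ?_, fun h => ?_, ?_, fun h => ?_, fun h => ?_⟩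
    all_goals rw [div_le_div_iff₀ (by norm_num) (by positivity)]
    · linarith
    · have : (2 : ℚ) ≤ j := by exact_mod_cast h
      linarith
    · have : (3 : ℚ) ≤ j := by exact_mod_cast h
      linarith
    · linarith
    · have : (2 : ℚ) ≤ j := by exact_mod_cast h
      linarith
    · have : (3 : ℚ) ≤ j := by exact_mod_cast h
      linarith
  have hthird : ∀ y ∈ c.V, y ∈ c.fam z ∪ c.fam w := by
    intro y hy
    by_contra hno
    rw [Finset.mem_union, not_or] at hno
    obtain ⟨hyR, hyi⟩ := c.mem_V.1 hy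
    obtain ⟨o, j, ho0, hj0, hj2, hc', ho, -⟩ := c.fam_data hyR hyi
    obtain ⟨hd1, hco1⟩ := c.fam_disjoint hzR hzi hyR hyi hno.1
    obtain ⟨hd2, hco2⟩ := c.fam_disjoint hwR hwi hyR hyi hno.2
    rw [ha, hc'] at hco1
    rw [hb, hc'] at hco2
    have hr3 := c.dens_lt (S := c.fam z ∪ c.fam w ∪ c.fam y)
      (Finset.union_subset (Finset.union_subset (hsubR z hz) (hsubR w hw)) (hsubR y hy))
      (r := (m : ℚ) / (e * m + 1 : ℕ) + (n : ℚ) / (f * n + 1 : ℕ) + (o : ℚ) / (j * o + 1 : ℕ)) (by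
        rw [Finset.card_union_of_disjoint (Finset.disjoint_union_left.2 ⟨hd1, hd2⟩),
          Finset.card_union_of_disjoint hdis, Nat.cast_add, Nat.cast_add, c.fam_ratio hm,
          c.fam_ratio hn, c.fam_ratio ho, ha, hb, hc']
        ring)
    rw [hk] at hr3
    push_cast at hr3
    obtain ⟨p1, -, -, p4, p5, p6⟩ := hb2 m hm0
    obtain ⟨q1, -, -, q4, q5, q6⟩ := hb2 n hn0
    obtain ⟨o1, -, -, o4, o5, o6⟩ := hb2 o ho0
    rcases hopt e he0 he2 with rfl | rfl <;> rcases hopt f hf0 hf2 with rfl | rfl <;>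
      rcases hopt j hj0 hj2 with rfl | rfl <;> push_cast at hr3 <;>
      try (exfalso; linarith)
    have hmn : m ≠ n := by rintro rfl; rw [Nat.coprime_self] at hco; omega
    have hmo : m ≠ o := by rintro rfl; rw [Nat.coprime_self] at hco1; omega
    have hno' : n ≠ o := by rintro rfl; rw [Nat.coprime_self] at hco2; omega
    rcases (by omega : (m = 1 ∧ n = 2 ∧ 3 ≤ o) ∨ (m = 1 ∧ o = 2 ∧ 3 ≤ n) ∨
      (n = 1 ∧ m = 2 ∧ 3 ≤ o) ∨ (n = 1 ∧ o = 2 ∧ 3 ≤ m) ∨ (o = 1 ∧ m = 2 ∧ 3 ≤ n) ∨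
      (o = 1 ∧ n = 2 ∧ 3 ≤ m) ∨ (2 ≤ m ∧ 2 ≤ n ∧ 2 ≤ o) ∨ (3 ≤ m ∧ 3 ≤ n) ∨ (3 ≤ m ∧ 3 ≤ o) ∨
      (3 ≤ n ∧ 3 ≤ o)) with
      ⟨-, h2, h3⟩ | ⟨-, h2, h3⟩ | ⟨-, h2, h3⟩ | ⟨-, h2, h3⟩ | ⟨-, h2, h3⟩ | ⟨-, h2, h3⟩ |
      ⟨h1, h2, h3⟩ | ⟨h2, h3⟩ | ⟨h2, h3⟩ | ⟨h2, h3⟩
    · have := q5 h2.ge; have := o6 h3; linarith
    · have := o5 h2.ge; have := q6 h3; linarith
    · have := p5 h2.ge; have := o6 h3; linarith
    · have := o5 h2.ge; have := p6 h3; linarith
    · have := p5 h2.ge; have := q6 h3; linarith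
    · have := q5 h2.ge; have := p6 h3; linarith
    · have := p5 h1; have := q5 h2; have := o5 h3; linarith
    · have := p6 h2; have := q6 h3; linarith
    · have := p6 h2; have := o6 h3; linarith
    · have := q6 h2; have := o6 h3; linarith
  have hVU : c.V = c.fam z ∪ c.fam w := Finset.Subset.antisymm hthird
    (Finset.union_subset (c.fam_sub_V hz) (c.fam_sub_V hw))
  have hsum := c.sum_V_n (M := m + n) (by
    rw [hVU, Finset.sum_union hdis, c.sum_fam_n hz, c.sum_fam_n hw, hm, hn]; ring)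
  rw [hk, hT] at hsum
  obtain ⟨p1, p2, p3, p4, p5, p6⟩ := hb2 m hm0
  obtain ⟨q1, q2, q3, q4, q5, q6⟩ := hb2 n hn0
  have hmn : e = f → m ≠ n := by
    rintro rfl rfl
    rw [Nat.coprime_self] at hco
    rcases hopt e he0 he2 with rfl | rfl <;> omega
  have hle := Nat.le_of_dvd c.nInv_pos hcard_dvd
  have hIeq : c.nInv = 13 + 8 * (m + n) := by omega
  rcases hopt e he0 he2 with rfl | rfl <;> rcases hopt f hf0 hf2 with rfl | rfl
  · exfalso
    push_cast at hr
    rcases (by have := hmn rfl; omega : 2 ≤ m ∨ 2 ≤ n) with h | h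
    · have := p2 h; linarith
    · have := q2 h; linarith
  · push_cast at hr
    have hm2 : m ≤ 2 := by
      by_contra h
      have := p3 (by omega)
      linarith
    rcases (by omega : m = 1 ∨ m = 2) with rfl | rfl
    · exfalso
      have hn4 : n ≤ 4 := by omega
      rw [hIeq] at hcard_dvd
      interval_cases n <;> norm_num at hcard_dvd
    · have hn2 : n ≤ 2 := by
        by_contra h
        have := q6 (by omega)
        norm_num at hr
        linarith
      rcases (by omega : n = 1 ∨ n = 2) with rfl | rfl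
      · norm_num at hco
      · exact c.finish_plus' hwR hwi (by rw [hb, hk]) hn hb (by rw [hk]) (by rw [hk]; omega)
  · push_cast at hr
    have hn2' : n ≤ 2 := by
      by_contra h
      have := q3 (by omega)
      linarith
    rcases (by omega : n = 1 ∨ n = 2) with rfl | rfl
    · exfalso
      have hm4 : m ≤ 4 := by omega
      rw [hIeq] at hcard_dvd
      interval_cases m <;> norm_num at hcard_dvd
    · have hm2 : m ≤ 2 := by
        by_contra h
        have := p6 (by omega)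
        norm_num at hr
        linarith
      rcases (by omega : m = 1 ∨ m = 2) with rfl | rfl
      · norm_num at hco
      · exact c.finish_plus' hzR hzi (by rw [ha, hk]) hm ha (by rw [hk]) (by rw [hk]; omega)
  · exfalso
    have h := hmn rfl
    rcases (by omega : (2 ≤ m ∧ 1 ≤ n) ∨ (1 ≤ m ∧ 2 ≤ n)) with ⟨h1, h2⟩ | ⟨h1, h2⟩ <;> nlinarith

theorem concl_small (hk : c.k ≤ 2) : Concl G := by
  have := c.k_pos
  rcases (by omega : c.k = 1 ∨ c.k = 2) with h | h
  exacts [c.one_concl h, c.two_concl h]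

end Ctx

end Cfsg.Lib.BSW
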