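import Cfsg.Agent.Lib.BSW.Coherent
import Mathlib.Tactic.LinearCombination

/-!
# Brauer–Suzuki–Wall: the degree of the common constituent
-/

set_option autoImplicit false
set_option linter.unusedSectionVars false
set_option linter.style.haveILetI false

namespace Cfsg.Lib.BSW

open Cfsg Cfsg.Lib.Char
open scoped ComplexConjugate

universe u

/-- The Diophantine part. -/
theorem bsw_arith (k I : ℕ) (hk : 3 ≤ k) (hco : Nat.Coprime (2 * k) I) (q A v : ℤ) (N : ℕ)
    (hN : 1 ≤ N) (hN2 : k ≤ 2 * N + 2) (hq0 : q ≠ 0) (hq1 : q + 1 ≠ 0)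
    (h1 : q + A - 2 = 2 * k * v) (h2 : (v + 1 + A) % 2 = 0)
    (heq : (I : ℤ) * (q - A) ^ 2 = 8 * (k : ℤ) ^ 2 * (q * (q + 1)))
    (hb : 1 + A ^ 2 + (N : ℤ) * (1 + A) ^ 2 ≤ 4 * k) :
    (k = 3 ∧ A = -2) ∨ (A = 1 ∧ (v = 2 ∨ v = -2) ∧ 2 * (I : ℤ) = q * (q + 1)) := by
  obtain ⟨hco2, hcok⟩ := Nat.coprime_mul_iff_left.1 hco
  have hI2 : (I : ℤ) % 2 = 1 := by
    have := Nat.coprime_two_left.1 hco2
    rw [Nat.odd_iff] at this
    omega
  set B : ℤ := 1 - A with hB
  have hd : (I : ℤ) * ((k : ℤ) * v + B) ^ 2 = 2 * (k : ℤ) ^ 2 * (q * (q + 1)) := by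
    have : q - A = 2 * ((k : ℤ) * v + B) := by rw [hB]; linarith
    rw [this] at heq
    linarith
  have hkB : (k : ℤ) ∣ B := by
    have hc : IsCoprime ((k : ℤ) ^ 2) (I : ℤ) :=
      (Nat.Coprime.isCoprime hcok).pow_left
    have : (k : ℤ) ^ 2 ∣ ((k : ℤ) * v + B) ^ 2 :=
      hc.dvd_of_dvd_mul_left ⟨2 * (q * (q + 1)), by rw [hd]; ring⟩
    have := (Int.pow_dvd_pow_iff two_ne_zero).1 this
    simpa using (dvd_add_right (dvd_mul_right (k : ℤ) v)).1 this
  obtain ⟨m, hm⟩ := hkB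
  have hA : A = 1 - k * m := by rw [← hm, hB]; ring
  have hk' : (3 : ℤ) ≤ k := by exact_mod_cast hk
  have hN' : (1 : ℤ) ≤ N := by exact_mod_cast hN
  have hN2' : (k : ℤ) ≤ 2 * N + 2 := by exact_mod_cast hN2
  subst hA
  have h5 : 0 ≤ (N : ℤ) * (1 + (1 - k * m)) ^ 2 := mul_nonneg (by linarith) (sq_nonneg _)
  have hm01 : m = 0 ∨ m = 1 := by
    by_contra hno
    push Not at hno
    have hcases : m ≤ -1 ∨ 2 ≤ m := by omega
    rcases hcases with h | h
    · have e : (k : ℤ) * m ≤ -k := by nlinarith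
      nlinarith
    · have e : 2 * (k : ℤ) ≤ k * m := by nlinarith
      nlinarith
  rcases hm01 with rfl | rfl
  · refine Or.inr ⟨by ring, ?_⟩
    have hq : q = 1 + 2 * k * v := by linarith
    obtain ⟨w, rfl⟩ : ∃ w, v = 2 * w := ⟨v / 2, by omega⟩
    have he : (I : ℤ) * w ^ 2 = (1 + 4 * k * w) * (1 + 2 * k * w) := by
      rw [hB, hq] at hd
      refine mul_left_cancel₀ (show (4 * (k : ℤ) ^ 2) ≠ 0 by positivity) ?_
      linear_combination hd
    have hw : IsUnit (w ^ 2) := by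
      have c1 : IsCoprime (w ^ 2) (1 + 4 * k * w) :=
        IsCoprime.pow_left ⟨-(4 * k), 1, by ring⟩
      have c2 : IsCoprime (w ^ 2) (1 + 2 * k * w) :=
        IsCoprime.pow_left ⟨-(2 * k), 1, by ring⟩
      exact (c1.mul_right c2).isUnit_of_dvd' dvd_rfl ⟨(I : ℤ), by rw [← he, mul_comm]⟩
    have hw1 : w = 1 ∨ w = -1 := Int.isUnit_iff.1 (isUnit_pow_iff two_ne_zero |>.1 hw)
    refine ⟨by omega, ?_⟩
    rw [hq]
    rcases hw1 with rfl | rfl <;> linarith
  · have hk4 : k ≤ 4 := by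
      by_contra hno
      have h5k : (5 : ℤ) ≤ k := by exact_mod_cast Nat.lt_of_not_le hno
      nlinarith
    interval_cases k
    · exact Or.inl ⟨rfl, by norm_num⟩
    · exfalso
      push_cast at h1 h2 hd hB
      obtain ⟨j, rfl⟩ : ∃ j, v = 2 * j := ⟨v / 2, by omega⟩
      have hq : q = 5 + 16 * j := by linarith
      rw [hq, hB] at hd
      have h6 : (I : ℤ) * (1 + 2 * j) ^ 2 = 2 * ((5 + 16 * j) * (6 + 16 * j)) := by linarith
      have h7 : Even ((I : ℤ) * (1 + 2 * j) ^ 2) := h6 ▸ even_two_mul _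
      rcases Int.even_mul.1 h7 with h8 | h8
      · rw [Int.even_iff] at h8; omega
      · have h9 := (Int.even_pow.1 h8).1
        rw [Int.even_iff] at h9; omega

namespace Ctx

variable {G : Type u} [Group G] (c : Ctx G) [Fintype G] [DecidableEq G]

/-- A constituent common to all even characters. -/
def Common (X : IrrCharacter G) (δ : ℤ) : Prop :=
  X ≠ trivChar ∧ (δ = 1 ∨ δ = -1) ∧ ∀ l : c.Ev, l ≠ 1 → c.cf l X = δ

theorem apply_inv_K (X : IrrCharacter G) {y : G} (hy : y ∈ c.K) :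
    (X : G → ℂ) y⁻¹ = (X : G → ℂ) y := by
  rw [← c.inv_s y hy, X.2.isClassFunction]

theorem conj_X_K (X : IrrCharacter G) {y : G} (hy : y ∈ c.K) :
    conj ((X : G → ℂ) y) = (X : G → ℂ) y := by
  rw [← X.2.isCharacter.apply_inv, c.apply_inv_K X hy]

theorem common_sum {X : IrrCharacter G} {δ : ℤ} (h : c.Common X δ) (l : c.Ev) (hl : l ≠ 1) :
    ∑ y ∈ c.Kf, c.ev l y * (X : G → ℂ) y = ∑ y ∈ c.Kf, (X : G → ℂ) y - 2 * c.k * δ := by
  haveI := Fintype.ofFinite ↥c.H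
  have h1 := c.cf_spec l X
  rw [h.2.2 l hl, c.inner_Phi_class l X.2.isClassFunction,
    Finset.sum_congr rfl fun y hy => by rw [c.conj_X_K X (c.mem_Kf.1 hy)],
    c.sum_phi_mul l _ fun y hy => c.apply_inv_K X hy] at h1
  have := c.k_ne_zero
  field_simp at h1
  linear_combination -(1 / 2 : ℂ) * h1

theorem common_fourier {X : IrrCharacter G} {δ : ℤ} (h : c.Common X δ) {a : G} (ha : a ∈ c.K) :
    (c.k : ℂ) * ((X : G → ℂ) a + (X : G → ℂ) (a * c.t)) =
      ∑ y ∈ c.Kf, (X : G → ℂ) y + (∑ y ∈ c.Kf, (X : G → ℂ) y - 2 * c.k * δ) *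
        ((∑ l : c.Ev, c.ev l a⁻¹) - 1) := by
  classical
  have e1 : ∑ l : c.Ev, c.ev l a⁻¹ * ∑ y ∈ c.Kf, c.ev l y * (X : G → ℂ) y =
      (c.k : ℂ) * ((X : G → ℂ) a + (X : G → ℂ) (a * c.t)) := by
    simp only [Finset.mul_sum]
    rw [Finset.sum_comm, Finset.sum_congr rfl fun y hy => show
      ∑ l : c.Ev, c.ev l a⁻¹ * (c.ev l y * (X : G → ℂ) y) =
        (if y = a ∨ y = a * c.t then (c.k : ℂ) else 0) * (X : G → ℂ) y by
      rw [Finset.sum_congr rfl fun l _ => show c.ev l a⁻¹ * (c.ev l y * (X : G → ℂ) y) =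
        c.ev l (a⁻¹ * y) * (X : G → ℂ) y by
          rw [c.ev_mul l (c.K.inv_mem ha) (c.mem_Kf.1 hy)]; ring,
        ← Finset.sum_mul, c.sum_Ev (c.K.mul_mem (c.K.inv_mem ha) (c.mem_Kf.1 hy))]
      simp only [inv_mul_eq_iff_eq_mul, mul_one]]
    simp only [ite_mul, zero_mul]
    rw [← Finset.sum_filter, show c.Kf.filter (fun y => y = a ∨ y = a * c.t) = {a, a * c.t} by
      ext y
      simp only [Finset.mem_filter, Finset.mem_insert, Finset.mem_singleton, c.mem_Kf]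
      exact ⟨fun h => h.2, fun h => ⟨by
        rcases h with rfl | rfl
        exacts [ha, c.K.mul_mem ha c.t_mem], h⟩⟩,
      Finset.sum_pair (fun e => c.t_ne (left_eq_mul.1 e))]
    ring
  have e2 : ∑ l : c.Ev, c.ev l a⁻¹ = 1 + ∑ l ∈ Finset.univ.erase (1 : c.Ev), c.ev l a⁻¹ := by
    rw [← Finset.add_sum_erase _ (fun l : c.Ev => c.ev l a⁻¹) (Finset.mem_univ 1),
      c.ev_one _ (c.K.inv_mem ha)]
  rw [← e1, e2, ← Finset.add_sum_erase _
    (fun l : c.Ev => c.ev l a⁻¹ * ∑ y ∈ c.Kf, c.ev l y * (X : G → ℂ) y) (Finset.mem_univ 1),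
    c.ev_one _ (c.K.inv_mem ha), one_mul]
  have e3 : ∑ y ∈ c.Kf, c.ev 1 y * (X : G → ℂ) y = ∑ y ∈ c.Kf, (X : G → ℂ) y :=
    Finset.sum_congr rfl fun y hy => by rw [c.ev_one y (c.mem_Kf.1 hy), one_mul]
  have e4 : ∑ l ∈ Finset.univ.erase (1 : c.Ev),
      c.ev l a⁻¹ * ∑ y ∈ c.Kf, c.ev l y * (X : G → ℂ) y =
      (∑ l ∈ Finset.univ.erase (1 : c.Ev), c.ev l a⁻¹) *
        (∑ y ∈ c.Kf, (X : G → ℂ) y - 2 * c.k * δ) := by
    rw [Finset.sum_mul]
    exact Finset.sum_congr rfl fun l hl => by rw [c.common_sum h l (Finset.ne_of_mem_erase hl)]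
  rw [e3, e4]
  ring

theorem common_total {X : IrrCharacter G} {δ : ℤ} (h : c.Common X δ) :
    ∑ y ∈ c.Kf, (X : G → ℂ) y = (X : G → ℂ) 1 + (X : G → ℂ) c.t + 2 * ((c.k : ℂ) - 1) * δ := by
  classical
  have e := c.common_fourier h c.K.one_mem
  rw [one_mul, inv_one, c.sum_Ev c.K.one_mem, if_pos (Or.inl rfl)] at e
  refine mul_left_cancel₀ c.k_ne_zero ?_
  linear_combination -e

theorem common_T {X : IrrCharacter G} {δ : ℤ} (h : c.Common X δ) :
    ∑ y ∈ c.T, (X : G → ℂ) y = 2 * ((c.k : ℂ) - 1) * δ := by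
  classical
  have hK : c.Kf = insert 1 (insert c.t c.T) := by
    ext y
    simp only [Finset.mem_insert, c.mem_Kf, c.mem_T]
    constructor
    · intro hy
      by_cases h : y * y = 1
      · rcases (c.K_sq hy).1 h with h | h <;> simp [h]
      · exact Or.inr (Or.inr ⟨h, hy⟩)
    · rintro (rfl | rfl | ⟨-, h⟩)
      exacts [c.K.one_mem, c.t_mem, h]
  have e := c.common_total h
  rw [hK, Finset.sum_insert (by simp [c.mem_T, c.t_ne.symm]),
    Finset.sum_insert (by simp [c.mem_T, c.t_sq])] at e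
  linear_combination e

theorem card_H_sub_K : ∑ _y ∈ c.Kf, (1 : ℂ) = 2 * (c.k : ℂ) := by
  simp [c.card_Kf]

theorem common_int {X : IrrCharacter G} {δ : ℤ} (h : c.Common X δ) :
    ∃ (x a m c1 : ℤ), (X : G → ℂ) 1 = x ∧ 0 < x ∧ (X : G → ℂ) c.t = a ∧
      x + a + 2 * ((c.k : ℤ) - 1) * δ = 2 * c.k * c1 ∧ c1 + a = 2 * m := by
  classical
  haveI := Fintype.ofFinite ↥c.H
  haveI := Fintype.ofFinite ↥c.K
  obtain ⟨x, hx0, hx⟩ := X.2.exists_degree
  obtain ⟨a, ha⟩ := exists_int_invol X.2.isCharacter c.t_sq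
  obtain ⟨m0, h0⟩ := (X.2.isCharacter.comp c.K.subtype).exists_nat_classInner
    (isCharacter_one (G := ↥c.K))
  obtain ⟨m1, h1⟩ := (X.2.isCharacter.comp c.H.subtype).exists_nat_classInner
    (isCharacter_one (G := ↥c.H))
  have hk := c.k_ne_zero
  have e0 : ∑ y ∈ c.Kf, (X : G → ℂ) y = 2 * c.k * (m0 : ℂ) := by
    rw [Finset.sum_subtype c.Kf (fun x => c.mem_Kf) (fun y => (X : G → ℂ) y), ← h0, classInner,
      c.card_K]
    simp only [map_one, mul_one]
    push_cast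
    field_simp
    rfl
  have e1 : ∑ y ∈ c.Kf, ((X : G → ℂ) y - a) + 4 * c.k * (a : ℂ) = 4 * c.k * (m1 : ℂ) := by
    have e := c.sum_H (fun y => if y ∈ c.K then (X : G → ℂ) y - a else 0) fun y hy => by simp [hy]
    rw [Finset.sum_congr rfl fun (y : G) (hy : y ∈ c.Kf) => show _ = (X : G → ℂ) y - a by
      simp [c.mem_Kf.1 hy]] at e
    rw [← e, ← h1, classInner, c.card_H', Finset.sum_congr rfl fun (y : ↥c.H) _ => show
      (if (y : G) ∈ c.K then (X : G → ℂ) y - a else 0) = (X : G → ℂ) y - a by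
        by_cases hy : (y : G) ∈ c.K
        · rw [if_pos hy]
        · rw [if_neg hy]
          obtain ⟨u1, u2⟩ := c.sq_of_H_notK y.2 hy
          obtain ⟨g, hg⟩ := isConj_iff.1 (c.conj _ c.t u1 u2 c.t_ne c.t_sq)
          rw [← X.2.isClassFunction y.1 g, hg, ha, sub_self]]
    simp only [map_one, mul_one]
    rw [Finset.sum_sub_distrib, Finset.sum_const, Finset.card_univ, ← Nat.card_eq_fintype_card,
      nsmul_eq_mul, c.card_H']
    field_simp
    simp
  rw [Finset.sum_sub_distrib, Finset.sum_const, c.card_Kf, nsmul_eq_mul, e0] at e1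
  rw [c.common_total h, hx, ha] at e0
  refine ⟨x, a, m1, m0, by exact_mod_cast hx, by exact_mod_cast hx0, ha, ?_, ?_⟩
  · exact_mod_cast e0
  · rw [← Int.cast_inj (α := ℂ)]
    push_cast at e1 ⊢
    refine mul_left_cancel₀ (mul_ne_zero (two_ne_zero : (2 : ℂ) ≠ 0) hk) ?_
    linear_combination e1

theorem cf_inv (l : c.Ev) (χ : IrrCharacter G) : c.cf l⁻¹ χ = c.cf l χ := by
  have e : c.Phi l⁻¹ = c.Phi l := by
    have : (fun h : ↥c.H => c.phi l⁻¹ h) = fun h : ↥c.H => c.phi l h := by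
      funext h
      by_cases hh : (h : G) ∈ c.K
      · rw [c.phi_of_mem l⁻¹ hh, c.phi_of_mem l hh]
        have e0 : (l⁻¹)⁻¹ = l := inv_inv l
        rw [e0]; ring
      · rw [c.phi_of_notMem l⁻¹ hh, c.phi_of_notMem l hh]
    rw [Phi, Phi, this]
  have h := c.cf_spec l⁻¹ χ
  rw [e, c.cf_spec l χ] at h
  exact_mod_cast h.symm

variable [Fintype (IrrCharacter G)] [DecidableEq (IrrCharacter G)]

theorem other_constituent {X : IrrCharacter G} {δ : ℤ} (h : c.Common X δ) {l : c.Ev}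
    (hl : l * l ≠ 1) :
    ∃ Y : IrrCharacter G, Y ≠ trivChar ∧ Y ≠ X ∧ (c.cf l Y = 1 ∨ c.cf l Y = -1) ∧
      c.supp l = {X, Y} := by
  refine c.two_constituents hl h.1 ?_
  rw [h.2.2 l (c.ne_one_of_nonreal hl)]
  rcases h.2.1 with e | e <;> simp [e]

theorem Phi_eq {X : IrrCharacter G} {δ : ℤ} (h : c.Common X δ) {l : c.Ev} (hl : l * l ≠ 1)
    {Y : IrrCharacter G} (hYX : Y ≠ X) (hs : c.supp l = {X, Y}) (g : G) :
    c.Phi l g = 1 + (δ : ℂ) * (X : G → ℂ) g + (c.cf l Y : ℂ) * (Y : G → ℂ) g := by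
  rw [← c.sum_supp_apply l (c.ne_one_of_nonreal hl) g, hs, Finset.sum_pair hYX.symm,
    h.2.2 l (c.ne_one_of_nonreal hl)]
  ring

theorem degree_equation {X : IrrCharacter G} {δ : ℤ} (h : c.Common X δ) {x a : ℤ}
    (hx : (X : G → ℂ) 1 = x) (ha : (X : G → ℂ) c.t = a) (hk : 3 ≤ c.k) :
    δ * x + 1 ≠ 0 ∧
      (c.nInv : ℤ) * (δ * x - δ * a) ^ 2 = 8 * (c.k : ℤ) ^ 2 * (δ * x * (δ * x + 1)) := by
  obtain ⟨l, hl⟩ := c.exists_nonreal hk
  obtain ⟨Y, -, hYX, hy, hs⟩ := c.other_constituent h hl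
  have d := c.Phi_eq h hl hYX hs 1
  have t := c.Phi_eq h hl hYX hs c.t
  have p := c.sum_supp_pair l (c.ne_one_of_nonreal hl)
  rw [hs, Finset.sum_pair hYX.symm, h.2.2 l (c.ne_one_of_nonreal hl), hx, ha] at p
  rw [c.Phi_one, hx] at d
  rw [c.Phi_sq_one l c.t_sq, ha] at t
  have hne : (δ : ℂ) * x + 1 ≠ 0 := fun e => by
    have : (c.cf l Y : ℂ) * (Y : G → ℂ) 1 = 0 := by linear_combination -d - e
    rcases mul_eq_zero.1 this with e' | e'
    · rcases hy with e'' | e'' <;> simp [e''] at e'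
    · exact Y.2.apply_one_ne_zero e'
  refine ⟨fun e => hne (by exact_mod_cast e), ?_⟩
  have hx0 : (x : ℂ) ≠ 0 := hx ▸ X.2.apply_one_ne_zero
  have hy1 := Y.2.apply_one_ne_zero
  have hI : (c.nInv : ℂ) ≠ 0 := Nat.cast_ne_zero.2 c.nInv_pos.ne'
  rw [← Int.cast_inj (α := ℂ)]
  push_cast
  generalize (c.nInv : ℂ) = I at p hI ⊢
  generalize (c.k : ℂ) = k at p ⊢
  generalize (Y : G → ℂ) 1 = y at d p hy1
  generalize (Y : G → ℂ) c.t = yt at t p
  rcases h.2.1 with e | e <;> rcases hy with e' | e' <;> simp only [e, e'] at * <;>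
    push_cast at * <;> field_simp at p <;>
    first
    | (have ey : y = -1 - x := by linear_combination -d
       have et : yt = -1 - a := by linear_combination -t
       subst ey et; linear_combination p)
    | (have ey : y = -1 - x := by linear_combination -d
       have et : yt = -1 - a := by linear_combination -t
       subst ey et; linear_combination -p)
    | (have ey : y = 1 + x := by linear_combination d
       have et : yt = 1 + a := by linear_combination t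
       subst ey et; linear_combination p)
    | (have ey : y = 1 + x := by linear_combination d
       have et : yt = 1 + a := by linear_combination t
       subst ey et; linear_combination -p)
    | (have ey : y = -1 + x := by linear_combination -d
       have et : yt = -1 + a := by linear_combination -t
       subst ey et; linear_combination p)
    | (have ey : y = -1 + x := by linear_combination -d
       have et : yt = -1 + a := by linear_combination -t
       subst ey et; linear_combination -p)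
    | (have ey : y = 1 - x := by linear_combination d
       have et : yt = 1 - a := by linear_combination t
       subst ey et; linear_combination p)
    | (have ey : y = 1 - x := by linear_combination d
       have et : yt = 1 - a := by linear_combination t
       subst ey et; linear_combination -p)

theorem column_bound {X : IrrCharacter G} {δ : ℤ} (h : c.Common X δ) {a : ℤ}
    (ha : (X : G → ℂ) c.t = a) (hk : 3 ≤ c.k) :
    ∃ N : ℕ, 1 ≤ N ∧ c.k ≤ 2 * N + 2 ∧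
      1 + (δ * a) ^ 2 + (N : ℤ) * (1 + δ * a) ^ 2 ≤ 4 * c.k := by
  classical
  set L := Finset.univ.filter fun l : c.Ev => l * l ≠ 1 with hL
  have hmem : ∀ l, l ∈ L → l * l ≠ 1 := fun l hl => (Finset.mem_filter.1 hl).2
  choose Yf hY1 hYX hy hs using fun l : {l : c.Ev // l * l ≠ 1} => c.other_constituent h l.2
  let Y : c.Ev → IrrCharacter G := fun l => if hl : l * l ≠ 1 then Yf ⟨l, hl⟩ else trivChar
  have hYe : ∀ (l : c.Ev) (hl : l * l ≠ 1), Y l = Yf ⟨l, hl⟩ := fun l hl => dif_pos hl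
  have hfib : ∀ χ ∈ L.image Y, (L.filter fun l => Y l = χ).card ≤ 2 := by
    intro χ hχ
    obtain ⟨l0, hl0, rfl⟩ := Finset.mem_image.1 hχ
    refine le_trans (Finset.card_le_card (t := {l0, l0⁻¹}) ?_) Finset.card_le_two
    intro m hm
    obtain ⟨hmL, hmY⟩ := Finset.mem_filter.1 hm
    have hm' := hmem m hmL
    have hl0' := hmem l0 hl0
    rw [hYe m hm', hYe l0 hl0'] at hmY
    have e := c.sum_supp_cf (c.ne_one_of_nonreal hm') (c.ne_one_of_nonreal hl0')
    rw [hs ⟨m, hm'⟩, Finset.sum_pair (hYX _).symm, h.2.2 m (c.ne_one_of_nonreal hm'),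
      h.2.2 l0 (c.ne_one_of_nonreal hl0')] at e
    have u1 := hy ⟨m, hm'⟩
    have u2 := hy ⟨l0, hl0'⟩
    simp only at u1 u2 e hmY
    rw [← hmY] at u2
    simp only [Finset.mem_insert, Finset.mem_singleton]
    by_contra hno
    push Not at hno
    rw [if_neg hno.1, if_neg hno.2] at e
    rcases h.2.1 with e0 | e0 <;> rcases u1 with e1 | e1 <;> rcases u2 with e2 | e2 <;>
      simp [e0, e1, e2] at e
  refine ⟨(L.image Y).card, ?_, ?_, ?_⟩
  · obtain ⟨l, hl⟩ := c.exists_nonreal hk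
    exact Finset.card_pos.2 ⟨_, Finset.mem_image_of_mem _ (Finset.mem_filter.2
      ⟨Finset.mem_univ l, hl⟩)⟩
  · have h1 : L.card ≤ 2 * (L.image Y).card :=
      Finset.card_le_mul_card_image L 2 hfib
    have hh : c.k ≤ L.card + 2 := by
      rw [hL]; convert c.card_nonreal
    omega
  · choose m hm using fun χ : IrrCharacter G => exists_int_invol χ.2.isCharacter c.t_sq
    have hcol : ∑ χ : IrrCharacter G, m χ * m χ = 4 * (c.k : ℤ) := by
      rw [← Int.cast_inj (α := ℂ)]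
      have e := column_orthogonality c.t c.t
      rw [if_pos (IsConj.refl _), c.card_H'] at e
      push_cast
      rw [← e]
      refine Finset.sum_congr (by ext; simp) fun χ _ => ?_
      rw [hm χ]; simp
    have hmY : ∀ χ ∈ L.image Y, m χ * m χ = (1 + δ * a) ^ 2 ∧ χ ≠ trivChar ∧ χ ≠ X := by
      intro χ hχ
      obtain ⟨l, hl, rfl⟩ := Finset.mem_image.1 hχ
      have hl' := hmem l hl
      rw [hYe l hl']
      refine ⟨?_, hY1 _, hYX _⟩
      have t := c.Phi_eq h hl' (hYX ⟨l, hl'⟩) (hs ⟨l, hl'⟩) c.t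
      rw [c.Phi_sq_one l c.t_sq, ha, hm (Yf ⟨l, hl'⟩)] at t
      have t' : (0 : ℤ) = 1 + δ * a + c.cf l (Yf ⟨l, hl'⟩) * m (Yf ⟨l, hl'⟩) := by
        exact_mod_cast t
      have u : c.cf l (Yf ⟨l, hl'⟩) = 1 ∨ c.cf l (Yf ⟨l, hl'⟩) = -1 := hy ⟨l, hl'⟩
      rcases u with e | e <;> rw [e] at t'
      · rw [show m (Yf ⟨l, hl'⟩) = -(1 + δ * a) by linarith]; ring
      · rw [show m (Yf ⟨l, hl'⟩) = 1 + δ * a by linarith]; ring
    have hX : (X : G → ℂ) c.t = m X := hm X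
    have hma : m X * m X = (δ * a) ^ 2 := by
      have : m X = a := by rw [ha] at hX; exact_mod_cast hX.symm
      rcases h.2.1 with e | e <;> simp [this, e, pow_two]
    have hm1 : m trivChar = 1 := by
      have := hm (trivChar : IrrCharacter G)
      rw [trivChar_apply] at this
      exact_mod_cast this.symm
    have hle : ∑ χ ∈ insert trivChar (insert X (L.image Y)), m χ * m χ ≤ 4 * (c.k : ℤ) :=
      hcol ▸ Finset.sum_le_sum_of_subset_of_nonneg (Finset.subset_univ _)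
        (fun χ _ _ => mul_self_nonneg _)
    rw [Finset.sum_insert, Finset.sum_insert, Finset.sum_congr rfl fun χ hχ => (hmY χ hχ).1,
      Finset.sum_const, nsmul_eq_mul, hma, hm1] at hle
    · linarith
    · exact fun hc => (hmY X hc).2.2 rfl
    · rw [Finset.mem_insert]
      rintro (e | e)
      exacts [h.1 e.symm, (hmY _ e).2.1 rfl]

theorem common_data {X : IrrCharacter G} {δ : ℤ} (h : c.Common X δ) (hk : 3 ≤ c.k) :
    (c.k = 3 ∧ (δ : ℂ) * (X : G → ℂ) c.t = -2) ∨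
      ((X : G → ℂ) 1 = ((4 * (c.k : ℤ) + δ : ℤ) : ℂ) ∧ (X : G → ℂ) c.t = (δ : ℂ) ∧
        (c.nInv : ℤ) = (4 * (c.k : ℤ) + δ) * (2 * (c.k : ℤ) + δ)) := by
  obtain ⟨x, a, m, c1, hx, hx0, ha, e1, e2⟩ := c.common_int h
  obtain ⟨hq1, heq⟩ := c.degree_equation h hx ha hk
  obtain ⟨N, hN, hN2, hb⟩ := c.column_bound h ha hk
  have hq0 : δ * x ≠ 0 := by rcases h.2.1 with e | e <;> simp [e, hx0.ne']
  have hv1 : δ * x + δ * a - 2 = 2 * c.k * (δ * c1 - 1) := by
    rcases h.2.1 with rfl | rfl <;> linarith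
  have hv2 : (δ * c1 - 1 + 1 + δ * a) % 2 = 0 := by
    rcases h.2.1 with rfl | rfl <;> omega
  rcases bsw_arith c.k c.nInv hk c.coprime_two_k_nInv _ _ _ N hN hN2 hq0 hq1 hv1 hv2 heq hb with
    ⟨h3, hA⟩ | ⟨hA, hv, hI⟩
  · exact Or.inl ⟨h3, by rw [ha]; exact_mod_cast hA⟩
  · right
    have hk' : (3 : ℤ) ≤ c.k := by exact_mod_cast hk
    rcases h.2.1 with rfl | rfl <;> rcases hv with hv | hv <;> rw [hv] at hv1
    · have ex : x = 4 * c.k + 1 := by linarith
      subst ex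
      refine ⟨hx, by rw [ha]; exact_mod_cast (show a = 1 by linarith), ?_⟩
      linarith
    · exfalso; nlinarith
    · exfalso; nlinarith
    · have ex : x = 4 * c.k - 1 := by linarith
      subst ex
      refine ⟨by rw [hx]; norm_num [sub_eq_add_neg],
        by rw [ha]; exact_mod_cast (show a = -1 by linarith), ?_⟩
      linarith

theorem exists_exceptional (hk : 3 ≤ c.k) :
    ∃ (X : IrrCharacter G) (δ : ℤ), c.Common X δ ∧
      (X : G → ℂ) 1 = ((4 * (c.k : ℤ) + δ : ℤ) : ℂ) ∧ (X : G → ℂ) c.t = (δ : ℂ) ∧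
      (c.nInv : ℤ) = (4 * (c.k : ℤ) + δ) * (2 * (c.k : ℤ) + δ) ∧
      ∃ (l : c.Ev) (Y : IrrCharacter G), (Y : G → ℂ) 1 = ((4 * (c.k : ℤ) + 2 * δ : ℤ) : ℂ) ∧
        ∀ g : G, c.Phi l g = 1 + (δ : ℂ) * (X : G → ℂ) g - (δ : ℂ) * (Y : G → ℂ) g := by
  classical
  obtain ⟨X, δ, hX⟩ := c.exists_common hk
  have hX' : c.Common X δ := hX
  suffices ∃ (X : IrrCharacter G) (δ : ℤ), c.Common X δ ∧
      (X : G → ℂ) 1 = ((4 * (c.k : ℤ) + δ : ℤ) : ℂ) ∧ (X : G → ℂ) c.t = (δ : ℂ) ∧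
      (c.nInv : ℤ) = (4 * (c.k : ℤ) + δ) * (2 * (c.k : ℤ) + δ) by
    obtain ⟨X, δ, hC, hx, ht, hI⟩ := this
    refine ⟨X, δ, hC, hx, ht, hI, ?_⟩
    obtain ⟨l, hl⟩ := c.exists_nonreal hk
    obtain ⟨Y, -, hYX, hy, hs⟩ := c.other_constituent hC hl
    have d := c.Phi_eq hC hl hYX hs 1
    rw [c.Phi_one, hx] at d
    obtain ⟨y, hy0, hy1⟩ := Y.2.exists_degree
    rw [hy1] at d
    have d' : (0 : ℤ) = 1 + δ * (4 * (c.k : ℤ) + δ) + c.cf l Y * (y : ℤ) := by exact_mod_cast d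
    have hk' : (3 : ℤ) ≤ c.k := by exact_mod_cast hk
    have hε : c.cf l Y = -δ ∧ (y : ℤ) = 4 * (c.k : ℤ) + 2 * δ := by
      rcases hC.2.1 with rfl | rfl <;> rcases hy with e | e <;> rw [e] at d' ⊢ <;> omega
    refine ⟨l, Y, by rw [hy1]; exact_mod_cast hε.2, fun g => ?_⟩
    rw [c.Phi_eq hC hl hYX hs g, hε.1]
    push_cast
    ring
  rcases c.common_data hX' hk with ⟨h3, hA⟩ | hd
  swap
  · exact ⟨X, δ, hX', hd⟩
  obtain ⟨l, hl⟩ := c.exists_nonreal hk
  obtain ⟨Y, hY1, hYX, hy, hs⟩ := c.other_constituent hX' hl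
  have hcover : ∀ m : c.Ev, m ≠ 1 → m = l ∨ m = l⁻¹ := by
    intro m hm
    by_contra hno
    push Not at hno
    have hc : ({1, l, l⁻¹, m} : Finset c.Ev).card ≤ 3 :=
      le_of_le_of_eq (Finset.card_le_univ _) (by rw [← Nat.card_eq_fintype_card, c.card_Ev, h3])
    have hli : (1 : c.Ev) ≠ l⁻¹ := fun e => c.ne_one_of_nonreal hl
      ((inv_inv l).symm.trans ((congrArg Inv.inv e.symm).trans (inv_one (G := c.Ev))))
    rw [Finset.card_insert_of_notMem (by
        simp [(c.ne_one_of_nonreal hl).symm, hm.symm, hli]),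
      Finset.card_insert_of_notMem (by
        simp [c.ne_inv_of_nonreal hl, hno.1.symm]),
      Finset.card_insert_of_notMem (by simp [hno.2.symm]), Finset.card_singleton] at hc
    omega
  have hY' : c.Common Y (c.cf l Y) :=
    ⟨hY1, hy, fun m hm => by rcases hcover m hm with rfl | rfl <;> simp [c.cf_inv]⟩
  have ht := c.Phi_eq hX' hl hYX hs c.t
  rw [c.Phi_sq_one l c.t_sq, hA] at ht
  rcases c.common_data hY' hk with ⟨-, hA'⟩ | hd
  · rw [hA'] at ht
    norm_num at ht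
  · exact ⟨Y, _, hY', hd⟩

end Ctx

end Cfsg.Lib.BSW
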