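import Mathlib.GroupTheory.FixedPointFree
import Mathlib.GroupTheory.Index
import Mathlib.GroupTheory.OrderOfElement
import Mathlib.GroupTheory.Sylow
import Mathlib.Algebra.BigOperators.Group.Finset.Sigma

/-!
# General tools for the Brauer–Suzuki–Wall theorem
-/

set_option autoImplicit false
set_option linter.unusedSectionVars false

namespace Cfsg.Lib.BSW

universe u v

variable {G : Type u} [Group G]

theorem mem_centralizer_singleton {x y : G} :
    x ∈ Subgroup.centralizer ({y} : Set G) ↔ x * y = y * x := by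
  rw [Subgroup.mem_centralizer_singleton_iff]

theorem conj_mem_centralizer {x y g : G} :
    g * x * g⁻¹ ∈ Subgroup.centralizer ({g * y * g⁻¹} : Set G) ↔
      x ∈ Subgroup.centralizer ({y} : Set G) := by
  simp only [mem_centralizer_singleton]
  rw [show g * x * g⁻¹ * (g * y * g⁻¹) = g * (x * y) * g⁻¹ by group,
    show g * y * g⁻¹ * (g * x * g⁻¹) = g * (y * x) * g⁻¹ by group]
  simp

theorem centralizer_conj (y g : G) :
    (Subgroup.centralizer ({y} : Set G)).map (MulAut.conj g).toMonoidHom =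
      Subgroup.centralizer ({g * y * g⁻¹} : Set G) := by
  ext z
  constructor
  · rintro ⟨x, hx, rfl⟩
    exact conj_mem_centralizer.2 hx
  · intro hz
    refine ⟨g⁻¹ * z * g, ?_, by simp [mul_assoc]⟩
    have : z = g * (g⁻¹ * z * g) * g⁻¹ := by group
    rw [this] at hz
    exact conj_mem_centralizer.1 hz

theorem card_centralizer_conj (y g : G) :
    Nat.card (Subgroup.centralizer ({g * y * g⁻¹} : Set G)) =
      Nat.card (Subgroup.centralizer ({y} : Set G)) := by
  rw [← centralizer_conj]
  exact Subgroup.card_map_of_injective (MulAut.conj g).injective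

/-- An element normalising a finite subgroup, given by one inclusion. -/
theorem mem_normalizer_of_conj [Finite G] {A : Subgroup G} {x : G}
    (h : ∀ a ∈ A, x * a * x⁻¹ ∈ A) : x ∈ Subgroup.normalizer (A : Set G) := by
  have he : A.map (MulAut.conj x).toMonoidHom = A := by
    refine Subgroup.eq_of_le_of_card_ge ?_ ?_
    · rintro _ ⟨a, ha, rfl⟩
      exact h a ha
    · rw [Subgroup.card_map_of_injective (MulAut.conj x).injective]
  rw [Subgroup.mem_normalizer_iff]
  intro a
  refine ⟨fun ha => h a ha, fun ha => ?_⟩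
  rw [← he] at ha
  obtain ⟨b, hb, hab⟩ := ha
  have : b = a := by simpa using hab
  rwa [← this]

theorem conj_mem_of_mem_normalizer {A : Subgroup G} {x a : G}
    (hx : x ∈ Subgroup.normalizer (A : Set G)) (ha : a ∈ A) : x * a * x⁻¹ ∈ A :=
  (Subgroup.mem_normalizer_iff.1 hx a).1 ha

/-- A normalising involution without nontrivial fixed points inverts. -/
theorem inverts_of_no_fixed [Finite G] {A : Subgroup G} {u : G} (hu : u * u = 1)
    (hn : ∀ a ∈ A, u * a * u⁻¹ ∈ A) (hf : ∀ a ∈ A, u * a = a * u → a = 1) :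
    (∀ a ∈ A, u * a * u⁻¹ = a⁻¹) ∧ (∀ a ∈ A, ∀ b ∈ A, a * b = b * a) := by
  let φ : ↥A →* ↥A :=
    { toFun := fun a => ⟨u * a.1 * u⁻¹, hn a.1 a.2⟩
      map_one' := by ext; simp
      map_mul' := fun a b => by ext; simp [mul_assoc] }
  have hi : u⁻¹ = u := inv_eq_of_mul_eq_one_right hu
  have h1 : MonoidHom.FixedPointFree φ := by
    intro a ha
    have e : u * a.1 * u⁻¹ = a.1 := congrArg Subtype.val ha
    refine Subtype.ext (hf a.1 a.2 ?_)
    calc u * a.1 = u * a.1 * u⁻¹ * u := by group
      _ = a.1 * u := by rw [e]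
  have h2 : Function.Involutive φ := by
    intro a
    ext
    show u * (u * a.1 * u⁻¹) * u⁻¹ = a.1
    rw [hi]
    calc u * (u * a.1 * u) * u = u * u * a.1 * (u * u) := by group
      _ = a.1 := by rw [hu]; simp
  refine ⟨fun a ha => ?_, fun a ha b hb => ?_⟩
  · have h := congrFun (h1.coe_eq_inv_of_involutive h2) ⟨a, ha⟩
    exact congrArg Subtype.val h
  · exact congrArg Subtype.val (h1.commute_all_of_involutive h2 ⟨a, ha⟩ ⟨b, hb⟩).eq

/-- Centralisers inside an abelian centraliser. -/
theorem centralizer_eq_of_abelian {y a : G}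
    (hy : ∀ p ∈ Subgroup.centralizer ({y} : Set G), ∀ q ∈ Subgroup.centralizer ({y} : Set G),
      p * q = q * p)
    (ha : ∀ p ∈ Subgroup.centralizer ({a} : Set G), ∀ q ∈ Subgroup.centralizer ({a} : Set G),
      p * q = q * p)
    (hay : a ∈ Subgroup.centralizer ({y} : Set G)) :
    Subgroup.centralizer ({a} : Set G) = Subgroup.centralizer ({y} : Set G) := by
  have hya : y ∈ Subgroup.centralizer ({a} : Set G) :=
    mem_centralizer_singleton.2 (mem_centralizer_singleton.1 hay).symm
  ext x
  exact ⟨fun hx => mem_centralizer_singleton.2 (ha x hx y hya),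
    fun hx => mem_centralizer_singleton.2 (hy x hx a hay)⟩

/-- Sums over the conjugates of a trivial-intersection set. -/
theorem sum_conj_TI [Fintype G] [DecidableEq G] {M : Type v} [AddCommMonoid M] (L : Subgroup G)
    (T U : Finset G) (hnorm : ∀ x ∈ L, ∀ a ∈ T, x * a * x⁻¹ ∈ T)
    (hTI : ∀ x : G, ∀ a ∈ T, x * a * x⁻¹ ∈ T → x ∈ L)
    (hU : ∀ z, z ∈ U ↔ ∃ x : G, x * z * x⁻¹ ∈ T) (f : G → M)
    (hf : ∀ g h : G, f (h * g * h⁻¹) = f g) :
    ∑ z ∈ U, f z = L.index • ∑ a ∈ T, f a := by
  classical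
  haveI : Fintype (G ⧸ L) := Fintype.ofFinite _
  symm
  calc L.index • ∑ a ∈ T, f a
      = ∑ _c : G ⧸ L, ∑ a ∈ T, f a := by
        rw [Finset.sum_const, Finset.card_univ, Subgroup.index, Nat.card_eq_fintype_card]
    _ = ∑ p ∈ (Finset.univ : Finset (G ⧸ L)) ×ˢ T, f p.2 := by rw [Finset.sum_product]
    _ = ∑ z ∈ U, f z := by
        refine Finset.sum_bij (fun p _ => p.1.out * p.2 * p.1.out⁻¹) ?_ ?_ ?_ ?_
        · rintro ⟨c, a⟩ hp
          simp only [Finset.mem_product] at hp
          exact (hU _).2 ⟨c.out⁻¹, by simpa [mul_assoc] using hp.2⟩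
        · rintro ⟨c, a⟩ hp ⟨d, b⟩ hq e
          simp only [Finset.mem_product] at hp hq
          simp only at e
          have hb : d.out⁻¹ * c.out * a * (d.out⁻¹ * c.out)⁻¹ = b := by
            calc d.out⁻¹ * c.out * a * (d.out⁻¹ * c.out)⁻¹
                = d.out⁻¹ * (c.out * a * c.out⁻¹) * d.out := by group
              _ = d.out⁻¹ * (d.out * b * d.out⁻¹) * d.out := by rw [e]
              _ = b := by group
          have hcd : c = d := by
            have := hTI _ a hp.2 (hb.symm ▸ hq.2)
            have h2 : (QuotientGroup.mk d.out : G ⧸ L) = QuotientGroup.mk c.out :=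
              QuotientGroup.eq.2 this
            simpa using h2.symm
          subst hcd
          simp only [inv_mul_cancel, one_mul, inv_one, mul_one] at hb
          rw [hb]
        · intro z hz
          obtain ⟨x, hx⟩ := (hU z).1 hz
          obtain ⟨h, hh⟩ := QuotientGroup.mk_out_eq_mul L x⁻¹
          refine ⟨(QuotientGroup.mk x⁻¹, (h : G)⁻¹ * (x * z * x⁻¹) * (h : G)), ?_, ?_⟩
          · simp only [Finset.mem_product, Finset.mem_univ, true_and]
            simpa using hnorm _ (L.inv_mem h.2) _ hx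
          · simp only
            rw [hh]
            group
        · rintro ⟨c, a⟩ _
          exact (hf a _).symm

theorem card_conj_TI [Fintype G] [DecidableEq G] (L : Subgroup G) (T U : Finset G)
    (hnorm : ∀ x ∈ L, ∀ a ∈ T, x * a * x⁻¹ ∈ T)
    (hTI : ∀ x : G, ∀ a ∈ T, x * a * x⁻¹ ∈ T → x ∈ L)
    (hU : ∀ z, z ∈ U ↔ ∃ x : G, x * z * x⁻¹ ∈ T) : U.card = L.index * T.card := by
  have := sum_conj_TI L T U hnorm hTI hU (fun _ => (1 : ℕ)) (fun _ _ => rfl)
  simpa using this

/-- The nontrivial elements of a subgroup, as a finset. -/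
noncomputable def sharp [Fintype G] (A : Subgroup G) : Finset G := by
  classical
  exact Finset.univ.filter fun x => x ∈ A ∧ x ≠ 1

theorem mem_sharp [Fintype G] {A : Subgroup G} {x : G} : x ∈ sharp A ↔ x ∈ A ∧ x ≠ 1 := by
  classical
  simp [sharp]

theorem card_sharp [Fintype G] (A : Subgroup G) : (sharp A).card + 1 = Nat.card A := by
  classical
  have h : Nat.card A = (Finset.univ.filter fun x : G => x ∈ A).card := by
    rw [← Nat.card_eq_finsetCard]
    exact Nat.card_congr (Equiv.subtypeEquivRight fun x => by simp)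
  have h2 : sharp A = (Finset.univ.filter fun x : G => x ∈ A).erase 1 := by
    ext x; simp [mem_sharp, and_comm]
  rw [h, h2, Finset.card_erase_of_mem (by simp [A.one_mem])]
  have : 0 < (Finset.univ.filter fun x : G => x ∈ A).card :=
    Finset.card_pos.2 ⟨1, by simp [A.one_mem]⟩
  omega

/-- Conjugates of the centraliser of `y`: the nontrivial elements form a TI set. -/
theorem card_conj_centralizer [Fintype G] [DecidableEq G] {y : G}
    (hab : ∀ a ∈ Subgroup.centralizer ({y} : Set G), a ≠ 1 →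
      Subgroup.centralizer ({a} : Set G) = Subgroup.centralizer ({y} : Set G))
    (U : Finset G)
    (hU : ∀ z, z ∈ U ↔ z ≠ 1 ∧ ∃ x : G, x * z * x⁻¹ ∈ Subgroup.centralizer ({y} : Set G)) :
    U.card = (Subgroup.normalizer ((Subgroup.centralizer ({y} : Set G) : Subgroup G) : Set G)).index *
      (Nat.card (Subgroup.centralizer ({y} : Set G)) - 1) := by
  set A := Subgroup.centralizer ({y} : Set G) with hA
  rw [card_conj_TI (Subgroup.normalizer (A : Set G)) (sharp A) U]
  · have := card_sharp A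
    congr 1
    omega
  · intro x hx a ha
    rw [mem_sharp] at ha ⊢
    exact ⟨conj_mem_of_mem_normalizer hx ha.1, by simpa using ha.2⟩
  · intro x a ha hxa
    rw [mem_sharp] at ha hxa
    refine mem_normalizer_of_conj fun b hb => ?_
    rw [← hab a ha.1 ha.2] at hb
    rw [← hab _ hxa.1 hxa.2]
    exact conj_mem_centralizer.2 hb
  · intro z
    rw [hU]
    constructor
    · rintro ⟨hz, x, hx⟩
      exact ⟨x, mem_sharp.2 ⟨hx, by simpa using hz⟩⟩
    · rintro ⟨x, hx⟩
      rw [mem_sharp] at hx
      exact ⟨fun h => hx.2 (by simp [h]), x, hx.1⟩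

/-- A set covered by self-normalising abelian centralisers is a single family of conjugates. -/
theorem malnormal_cover [Fintype G] [DecidableEq G] (S : Finset G) (hS1 : (1 : G) ∉ S)
    (hSc : ∀ z ∈ S, ∀ x : G, x * z * x⁻¹ ∈ S)
    (hab : ∀ y ∈ S, ∀ p ∈ Subgroup.centralizer ({y} : Set G),
      ∀ q ∈ Subgroup.centralizer ({y} : Set G), p * q = q * p)
    (hmem : ∀ y ∈ S, ∀ a ∈ Subgroup.centralizer ({y} : Set G), a ≠ 1 → a ∈ S)
    (hnorm : ∀ y ∈ S, ∀ x ∈ Subgroup.normalizer
      ((Subgroup.centralizer ({y} : Set G) : Subgroup G) : Set G),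
      x ∈ Subgroup.centralizer ({y} : Set G))
    {y : G} (hy : y ∈ S) :
    S.card + (Subgroup.centralizer ({y} : Set G)).index = Nat.card G ∧
      ∀ z ∈ S, ∃ x : G, x * z * x⁻¹ ∈ Subgroup.centralizer ({y} : Set G) := by
  classical
  set U : G → Finset G := fun w => Finset.univ.filter fun z =>
    z ≠ 1 ∧ ∃ x : G, x * z * x⁻¹ ∈ Subgroup.centralizer ({w} : Set G) with hUdef
  have hmemU : ∀ w z, z ∈ U w ↔
      z ≠ 1 ∧ ∃ x : G, x * z * x⁻¹ ∈ Subgroup.centralizer ({w} : Set G) := fun w z => by simp [U]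
  have hne1 : ∀ w ∈ S, w ≠ 1 := fun w hw h => hS1 (h ▸ hw)
  have hcard : ∀ w ∈ S, (U w).card + (Subgroup.centralizer ({w} : Set G)).index = Nat.card G ∧
      2 * (Subgroup.centralizer ({w} : Set G)).index ≤ Nat.card G := by
    intro w hw
    have hn : Subgroup.normalizer ((Subgroup.centralizer ({w} : Set G) : Subgroup G) : Set G) =
        Subgroup.centralizer ({w} : Set G) :=
      le_antisymm (fun x hx => hnorm w hw x hx) Subgroup.le_normalizer
    have hc := card_conj_centralizer (y := w) (fun a ha ha1 =>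
      centralizer_eq_of_abelian (hab w hw) (hab a (hmem w hw a ha ha1)) ha) (U w) (hmemU w)
    rw [hn] at hc
    have h2 : 1 < Nat.card (Subgroup.centralizer ({w} : Set G)) := by
      rw [Finite.one_lt_card_iff_nontrivial]
      exact ⟨⟨w, mem_centralizer_singleton.2 rfl⟩, 1, fun e => hne1 w hw (congrArg Subtype.val e)⟩
    have h3 := (Subgroup.centralizer ({w} : Set G)).index_mul_card
    refine ⟨?_, ?_⟩
    · rw [hc, ← h3]
      obtain ⟨c, hc'⟩ := Nat.exists_eq_add_of_lt h2
      rw [hc']
      simp only [Nat.add_sub_cancel]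
      ring
    · rw [← h3]
      have := Nat.mul_le_mul_left (Subgroup.centralizer ({w} : Set G)).index h2
      omega
  have hsub : ∀ w ∈ S, U w ⊆ S := by
    intro w hw z hz
    obtain ⟨hz1, x, hx⟩ := (hmemU w z).1 hz
    have := hSc _ (hmem w hw _ hx (by simpa using hz1)) x⁻¹
    simpa [mul_assoc] using this
  have hall : ∀ z ∈ S, ∃ x : G, x * z * x⁻¹ ∈ Subgroup.centralizer ({y} : Set G) := by
    intro z hz
    by_contra hno
    have hdisj : Disjoint (U y) (U z) := by
      rw [Finset.disjoint_left]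
      intro a ha hb
      obtain ⟨ha1, p, hp⟩ := (hmemU y a).1 ha
      obtain ⟨-, q, hq⟩ := (hmemU z a).1 hb
      have hpS := hmem y hy _ hp (by simpa using ha1)
      have hqS := hmem z hz _ hq (by simpa using ha1)
      have e1 := centralizer_eq_of_abelian (hab y hy) (hab _ hpS) hp
      have e2 := centralizer_eq_of_abelian (hab z hz) (hab _ hqS) hq
      have hz' : z ∈ Subgroup.centralizer ({q * a * q⁻¹} : Set G) := by
        rw [e2]; exact mem_centralizer_singleton.2 rfl
      refine hno ⟨p * q⁻¹, ?_⟩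
      rw [← e1]
      have : q⁻¹ * z * q⁻¹⁻¹ ∈ Subgroup.centralizer ({q⁻¹ * (q * a * q⁻¹) * q⁻¹⁻¹} : Set G) :=
        conj_mem_centralizer.2 hz'
      rw [show q⁻¹ * (q * a * q⁻¹) * q⁻¹⁻¹ = a by group] at this
      rw [show p * q⁻¹ * z * (p * q⁻¹)⁻¹ = p * (q⁻¹ * z * q⁻¹⁻¹) * p⁻¹ by group]
      exact conj_mem_centralizer.2 this
    have h1 := Finset.card_union_of_disjoint hdisj
    have h2 : (U y ∪ U z).card ≤ (Finset.univ.erase (1 : G)).card := by
      refine Finset.card_le_card fun a ha => Finset.mem_erase.2 ⟨?_, Finset.mem_univ _⟩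
      rcases Finset.mem_union.1 ha with h | h
      exacts [((hmemU y a).1 h).1, ((hmemU z a).1 h).1]
    rw [Finset.card_erase_of_mem (Finset.mem_univ _), Finset.card_univ,
      ← Nat.card_eq_fintype_card] at h2
    have h3 := hcard y hy
    have h4 := hcard z hz
    have h5 : 0 < Nat.card G := Nat.card_pos
    omega
  refine ⟨?_, hall⟩
  have : S = U y := Finset.Subset.antisymm
    (fun z hz => (hmemU y z).2 ⟨hne1 z hz, hall z hz⟩) (hsub y hy)
  rw [this]
  exact (hcard y hy).1

end Cfsg.Lib.BSW
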