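import Cfsg.Agent.Lib.BSW.Phi

/-!
# Brauer–Suzuki–Wall: the common constituent
-/

set_option autoImplicit false
set_option linter.unusedSectionVars false
set_option linter.style.haveILetI false

namespace Cfsg.Lib.BSW

open Cfsg Cfsg.Lib.Char
open scoped ComplexConjugate

universe u

/-- Small sums of integer squares. -/
theorem sum_sq_small {ι : Type*} (s : Finset ι) (n : ι → ℤ) (m : ℕ) (hm : m < 4)
    (h : ∑ i ∈ s, n i * n i = m) :
    (∀ i ∈ s, n i = 0 ∨ n i = 1 ∨ n i = -1) ∧ (s.filter fun i => n i ≠ 0).card = m := by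
  have h1 : ∀ i ∈ s, n i = 0 ∨ n i = 1 ∨ n i = -1 := by
    intro i hi
    have hle : n i * n i ≤ m := h ▸ Finset.single_le_sum (f := fun i => n i * n i)
      (fun j _ => mul_self_nonneg _) hi
    have hm' : (m : ℤ) ≤ 3 := by exact_mod_cast Nat.lt_succ_iff.1 hm
    have : -2 < n i ∧ n i < 2 := by constructor <;> nlinarith
    omega
  refine ⟨h1, ?_⟩
  have h2 : ∑ i ∈ s, n i * n i = ((s.filter fun i => n i ≠ 0).card : ℤ) := by
    rw [Finset.card_filter, Nat.cast_sum]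
    refine Finset.sum_congr rfl fun i hi => ?_
    rcases h1 i hi with e | e | e <;> simp [e]
  exact_mod_cast h2.symm.trans h

namespace Ctx

variable {G : Type u} [Group G] (c : Ctx G) [Fintype G] [DecidableEq G]

/-- The trivial character. -/
noncomputable def trivChar : IrrCharacter G := ⟨fun _ => 1, isIrrCharacter_one⟩

theorem trivChar_apply (g : G) : ((trivChar : IrrCharacter G) : G → ℂ) g = 1 := rfl

theorem exists_cf (l : c.Ev) (χ : IrrCharacter G) :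
    ∃ n : ℤ, classInner (c.Phi l) (χ : G → ℂ) = n :=
  (isGeneralizedCharacter_iff.1 (c.Phi_generalized l)).2 χ χ.2

/-- The multiplicity of `χ`. -/
noncomputable def cf (l : c.Ev) (χ : IrrCharacter G) : ℤ := (c.exists_cf l χ).choose

theorem cf_spec (l : c.Ev) (χ : IrrCharacter G) :
    classInner (c.Phi l) (χ : G → ℂ) = (c.cf l χ : ℂ) := (c.exists_cf l χ).choose_spec

theorem cf_triv (l : c.Ev) (hl : l ≠ 1) : c.cf l trivChar = 1 := by
  haveI := Fintype.ofFinite ↥c.H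
  have h := c.cf_spec l trivChar
  rw [c.inner_Phi_class l (fun _ _ => rfl)] at h
  simp only [trivChar_apply, map_one, mul_one, c.sum_phi l hl] at h
  rw [inv_mul_cancel₀ (mul_ne_zero (by norm_num) c.k_ne_zero)] at h
  exact_mod_cast h.symm

theorem sum_cf_apply (l : c.Ev) [Fintype (IrrCharacter G)] (g : G) :
    ∑ χ : IrrCharacter G, (c.cf l χ : ℂ) * (χ : G → ℂ) g = c.Phi l g := by
  conv_rhs => rw [eq_sum_classInner (c.Phi_class l)]
  rw [Finset.sum_apply]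
  refine Finset.sum_congr (by ext; simp) fun χ _ => ?_
  rw [Pi.smul_apply, smul_eq_mul, c.cf_spec]

theorem sum_cf_cf [Fintype (IrrCharacter G)] [DecidableEq c.Ev] (l m : c.Ev) (hl : l ≠ 1)
    (hm : m ≠ 1) :
    ∑ χ : IrrCharacter G, c.cf l χ * c.cf m χ =
      2 + (if l = m then 1 else 0) + (if l = m⁻¹ then 1 else 0) := by
  have h : classInner (c.Phi l) (c.Phi m) =
      ∑ χ : IrrCharacter G, ((c.cf l χ : ℂ) * (c.cf m χ : ℂ)) := by
    rw [classInner_eq_sum (c.Phi_class l)]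
    refine Finset.sum_congr (by ext; simp) fun χ _ => ?_
    simp [c.cf_spec]
  rw [c.inner_Phi l m hl hm] at h
  rw [← Int.cast_inj (α := ℂ)]
  push_cast
  exact h.symm

theorem ne_one_of_nonreal {l : c.Ev} (hl : l * l ≠ 1) : l ≠ 1 :=
  fun e => hl (by rw [e]; exact one_mul (1 : c.Ev))

theorem ne_inv_of_nonreal {l : c.Ev} (hl : l * l ≠ 1) : l ≠ l⁻¹ :=
  fun e => hl ((congrArg (fun x => x * l) e).trans (inv_mul_cancel l))

variable [Fintype (IrrCharacter G)] [DecidableEq (IrrCharacter G)]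

/-- The nontrivial constituents. -/
noncomputable def supp (l : c.Ev) : Finset (IrrCharacter G) :=
  (Finset.univ.erase trivChar).filter fun χ => c.cf l χ ≠ 0

theorem mem_supp {l : c.Ev} {χ : IrrCharacter G} :
    χ ∈ c.supp l ↔ χ ≠ trivChar ∧ c.cf l χ ≠ 0 := by simp [supp]

theorem sum_cf_split {R : Type*} [CommRing R] (l : c.Ev) (hl : l ≠ 1) (f : IrrCharacter G → R) :
    ∑ χ : IrrCharacter G, (c.cf l χ : R) * f χ =
      f trivChar + ∑ χ ∈ c.supp l, (c.cf l χ : R) * f χ := by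
  rw [← Finset.add_sum_erase _ _ (Finset.mem_univ trivChar), c.cf_triv l hl, supp,
    Finset.sum_filter_of_ne (p := fun χ => c.cf l χ ≠ 0) fun χ _ h e =>
      h (by rw [e, Int.cast_zero, zero_mul])]
  simp

theorem supp_nonreal {l : c.Ev} (hl : l * l ≠ 1) :
    (c.supp l).card = 2 ∧ ∀ χ, χ ≠ trivChar → c.cf l χ = 0 ∨ c.cf l χ = 1 ∨ c.cf l χ = -1 := by
  classical
  have h := c.sum_cf_cf l l (c.ne_one_of_nonreal hl) (c.ne_one_of_nonreal hl)
  rw [if_pos rfl, if_neg (c.ne_inv_of_nonreal hl), ← Finset.add_sum_erase _ _ (Finset.mem_univ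
    trivChar), c.cf_triv l (c.ne_one_of_nonreal hl)] at h
  obtain ⟨h1, h2⟩ := sum_sq_small (Finset.univ.erase trivChar) (c.cf l) 2 (by norm_num)
    (by push_cast; linarith)
  exact ⟨h2, fun χ hχ => h1 χ (Finset.mem_erase.2 ⟨hχ, Finset.mem_univ _⟩)⟩

theorem supp_real {l : c.Ev} (hl : l * l = 1) (hl1 : l ≠ 1) :
    (c.supp l).card = 3 ∧ ∀ χ, χ ≠ trivChar → c.cf l χ = 0 ∨ c.cf l χ = 1 ∨ c.cf l χ = -1 := by
  classical
  have h := c.sum_cf_cf l l hl1 hl1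
  rw [if_pos rfl, if_pos (eq_inv_of_mul_eq_one_left (a := l) (b := l) hl),
    ← Finset.add_sum_erase _ _ (Finset.mem_univ trivChar), c.cf_triv l hl1] at h
  obtain ⟨h1, h2⟩ := sum_sq_small (Finset.univ.erase trivChar) (c.cf l) 3 (by norm_num)
    (by push_cast; linarith)
  exact ⟨h2, fun χ hχ => h1 χ (Finset.mem_erase.2 ⟨hχ, Finset.mem_univ _⟩)⟩

theorem sum_supp_cf {l m : c.Ev} [DecidableEq c.Ev] (hl : l ≠ 1) (hm : m ≠ 1) :
    1 + ∑ χ ∈ c.supp l, c.cf l χ * c.cf m χ =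
      2 + (if l = m then 1 else 0) + (if l = m⁻¹ then 1 else 0) := by
  rw [← c.sum_cf_cf l m hl hm]
  have h := c.sum_cf_split (R := ℤ) l hl (c.cf m)
  simp only [Int.cast_id] at h
  rw [h, c.cf_triv m hm]

theorem sum_supp_apply (l : c.Ev) (hl : l ≠ 1) (g : G) :
    1 + ∑ χ ∈ c.supp l, (c.cf l χ : ℂ) * (χ : G → ℂ) g = c.Phi l g := by
  rw [← c.sum_cf_apply l g, c.sum_cf_split l hl fun χ => (χ : G → ℂ) g, trivChar_apply]

theorem sum_supp_pair (l : c.Ev) (hl : l ≠ 1) :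
    (c.nInv : ℂ) ^ 2 * (1 + ∑ χ ∈ c.supp l, (c.cf l χ : ℂ) * ((χ : G → ℂ) c.t ^ 2 /
      (χ : G → ℂ) 1)) = 8 * (c.k : ℂ) ^ 2 * c.nInv := by
  rw [← c.pair_Phi l hl, sum_invol_pair_eq (c.Phi_class l)]
  have h := c.sum_cf_split l hl fun χ => (χ : G → ℂ) c.t ^ 2 / (χ : G → ℂ) 1
  simp only [trivChar_apply, one_pow, div_one] at h
  rw [← h, Finset.mul_sum]
  refine Finset.sum_congr (by ext; simp) fun χ _ => ?_
  rw [c.cf_spec, c.sum_invol _ χ.2.isClassFunction, nsmul_eq_mul]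
  ring

theorem two_constituents {l : c.Ev} (hl : l * l ≠ 1) {X : IrrCharacter G} (hX1 : X ≠ trivChar)
    (hX : c.cf l X ≠ 0) :
    ∃ Y : IrrCharacter G, Y ≠ trivChar ∧ Y ≠ X ∧ (c.cf l Y = 1 ∨ c.cf l Y = -1) ∧
      c.supp l = {X, Y} := by
  obtain ⟨h2, hval⟩ := c.supp_nonreal hl
  have hm : X ∈ c.supp l := c.mem_supp.2 ⟨hX1, hX⟩
  have he : ((c.supp l).erase X).card = 1 := by rw [Finset.card_erase_of_mem hm, h2]
  obtain ⟨Y, hY⟩ := Finset.card_eq_one.1 he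
  have hY' : Y ∈ (c.supp l).erase X := hY ▸ Finset.mem_singleton_self Y
  obtain ⟨hYX, hYs⟩ := Finset.mem_erase.1 hY'
  obtain ⟨hY1, hY0⟩ := c.mem_supp.1 hYs
  refine ⟨Y, hY1, hYX, (hval Y hY1).resolve_left hY0, ?_⟩
  rw [← Finset.insert_erase hm, hY]

/-- All nonreal even characters share a constituent. -/
theorem common_nonreal (hk : 3 ≤ c.k) :
    ∃ (X : IrrCharacter G) (δ : ℤ), X ≠ trivChar ∧ (δ = 1 ∨ δ = -1) ∧
      ∀ l : c.Ev, l * l ≠ 1 → c.cf l X = δ := by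
  classical
  obtain ⟨l1, hl1⟩ := c.exists_nonreal hk
  obtain ⟨hc, hv⟩ := c.supp_nonreal hl1
  obtain ⟨A, B, hAB, hs⟩ := Finset.card_eq_two.1 hc
  obtain ⟨hA1, hA0⟩ := c.mem_supp.1 (hs ▸ Finset.mem_insert_self A _ : A ∈ c.supp l1)
  obtain ⟨hB1, hB0⟩ := c.mem_supp.1 (hs ▸ (by simp) : B ∈ c.supp l1)
  have ha := (hv A hA1).resolve_left hA0
  have hb := (hv B hB1).resolve_left hB0
  by_cases hallA : ∀ l : c.Ev, l * l ≠ 1 → c.cf l A = c.cf l1 A
  · exact ⟨A, _, hA1, ha, hallA⟩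
  by_cases hallB : ∀ l : c.Ev, l * l ≠ 1 → c.cf l B = c.cf l1 B
  · exact ⟨B, _, hB1, hb, hallB⟩
  exfalso
  push Not at hallA hallB
  obtain ⟨m, hm, hmA⟩ := hallA
  obtain ⟨n, hn, hnB⟩ := hallB
  have h1m := c.sum_supp_cf (c.ne_one_of_nonreal hl1) (c.ne_one_of_nonreal hm)
  have h1n := c.sum_supp_cf (c.ne_one_of_nonreal hl1) (c.ne_one_of_nonreal hn)
  rw [hs, Finset.sum_pair hAB] at h1m h1n
  have hvm := (c.supp_nonreal hm).2
  have hvn := (c.supp_nonreal hn).2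
  have hm' : c.cf m A = 0 ∧ c.cf m B = c.cf l1 B := by
    rcases hvm A hA1 with e1 | e1 | e1 <;> rcases hvm B hB1 with e2 | e2 | e2 <;>
      rcases ha with e3 | e3 <;> rcases hb with e4 | e4 <;>
      simp only [e1, e2, e3, e4] at h1m hmA ⊢ <;> (try split_ifs at h1m) <;> first | omega | simp
  have hn' : c.cf n B = 0 ∧ c.cf n A = c.cf l1 A := by
    rcases hvn A hA1 with e1 | e1 | e1 <;> rcases hvn B hB1 with e2 | e2 | e2 <;>
      rcases ha with e3 | e3 <;> rcases hb with e4 | e4 <;>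
      simp only [e1, e2, e3, e4] at h1n hnB ⊢ <;> (try split_ifs at h1n) <;> first | omega | simp
  obtain ⟨Zm, hZm1, hZmB, hzm, hsm⟩ := c.two_constituents hm hB1 (hm'.2 ▸ hB0)
  obtain ⟨Zn, hZn1, hZnA, hzn, hsn⟩ := c.two_constituents hn hA1 (hn'.2 ▸ hA0)
  have hmn : m ≠ n := fun e => hB0 (by rw [← hm'.2, e, hn'.1])
  have hmn' : m ≠ n⁻¹ := by
    intro e
    have h := c.sum_supp_cf (c.ne_one_of_nonreal hm) (c.ne_one_of_nonreal hn)
    rw [hsm, Finset.sum_pair hZmB.symm, hn'.1, if_neg hmn, if_pos e] at h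
    rcases hzm with e1 | e1 <;> rcases hvn Zm hZm1 with e2 | e2 | e2 <;>
      simp only [e1, e2] at h <;> omega
  have hmn2 := c.sum_supp_cf (c.ne_one_of_nonreal hm) (c.ne_one_of_nonreal hn)
  rw [hsm, Finset.sum_pair hZmB.symm, hn'.1, if_neg hmn, if_neg hmn'] at hmn2
  have hzz : c.cf n Zm = c.cf m Zm := by
    rcases hzm with e1 | e1 <;> rcases hvn Zm hZm1 with e2 | e2 | e2 <;>
      simp only [e1, e2] at hmn2 ⊢ <;> omega
  have hZ : Zm = Zn := by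
    have hmem : Zm ∈ c.supp n :=
      c.mem_supp.2 ⟨hZm1, by rw [hzz]; rcases hzm with e | e <;> simp [e]⟩
    rw [hsn, Finset.mem_insert, Finset.mem_singleton] at hmem
    refine hmem.resolve_left fun e => ?_
    rw [e, hm'.1] at hzm
    simp at hzm
  have d1 := c.sum_supp_apply l1 (c.ne_one_of_nonreal hl1) 1
  have d2 := c.sum_supp_apply m (c.ne_one_of_nonreal hm) 1
  have d3 := c.sum_supp_apply n (c.ne_one_of_nonreal hn) 1
  rw [hs, Finset.sum_pair hAB, c.Phi_one] at d1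
  rw [hsm, Finset.sum_pair hZmB.symm, c.Phi_one, hm'.2] at d2
  rw [hsn, Finset.sum_pair hZnA.symm, c.Phi_one, hn'.2, ← hZ, hzz] at d3
  obtain ⟨a, -, hadeg⟩ := A.2.exists_degree
  have : (1 : ℤ) + 2 * (c.cf l1 A * (a : ℤ)) = 0 := by
    rw [← Int.cast_inj (α := ℂ)]
    push_cast
    rw [hadeg] at d1 d3
    linear_combination d1 + d3 - d2
  omega

/-- All nontrivial even characters share a constituent. -/
theorem exists_common (hk : 3 ≤ c.k) :
    ∃ (X : IrrCharacter G) (δ : ℤ), X ≠ trivChar ∧ (δ = 1 ∨ δ = -1) ∧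
      ∀ l : c.Ev, l ≠ 1 → c.cf l X = δ := by
  classical
  obtain ⟨X, δ, hX1, hδ, hX⟩ := c.common_nonreal hk
  by_cases hex : ∃ w : c.Ev, w * w = 1 ∧ w ≠ 1
  swap
  · exact ⟨X, δ, hX1, hδ, fun l hl => hX l fun e => hex ⟨l, e, hl⟩⟩
  obtain ⟨w, hw, hw1⟩ := hex
  have hall : ∀ (Y : IrrCharacter G) (ε : ℤ), (∀ l : c.Ev, l * l ≠ 1 → c.cf l Y = ε) →
      c.cf w Y = ε → ∀ l : c.Ev, l ≠ 1 → c.cf l Y = ε := by
    intro Y ε hY hwY l hl
    by_cases h : l * l = 1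
    · rw [c.real_unique h hl hw hw1, hwY]
    · exact hY l h
  by_cases hwX : c.cf w X = δ
  · exact ⟨X, δ, hX1, hδ, hall X δ hX hwX⟩
  obtain ⟨hw3, hwv⟩ := c.supp_real hw hw1
  have key : ∀ l : c.Ev, l * l ≠ 1 → ∃ Y : IrrCharacter G, Y ≠ trivChar ∧ Y ≠ X ∧
      (c.cf l Y = 1 ∨ c.cf l Y = -1) ∧ c.supp l = {X, Y} ∧ c.cf w Y = c.cf l Y ∧
      c.cf w X = 0 := by
    intro l hl
    have hne : c.cf l X ≠ 0 := by rw [hX l hl]; rcases hδ with e | e <;> simp [e]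
    obtain ⟨Y, hY1, hYX, hy, hs⟩ := c.two_constituents hl hX1 hne
    refine ⟨Y, hY1, hYX, hy, hs, ?_⟩
    have h := c.sum_supp_cf (c.ne_one_of_nonreal hl) hw1
    have hlw : l ≠ w := fun e => hl (e ▸ hw)
    have hlw' : l ≠ w⁻¹ := fun e =>
      hlw (e.trans (eq_inv_of_mul_eq_one_left (a := w) (b := w) hw).symm)
    rw [hs, Finset.sum_pair hYX.symm, hX l hl, if_neg hlw, if_neg hlw'] at h
    rcases hwv X hX1 with e1 | e1 | e1 <;> rcases hwv Y hY1 with e2 | e2 | e2 <;>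
      rcases hδ with e3 | e3 <;> rcases hy with e4 | e4 <;>
      simp only [e1, e2, e3, e4] at h hwX ⊢ <;> first | omega | (simp at hwX; done) | simp
  obtain ⟨l1, hl1⟩ := c.exists_nonreal hk
  obtain ⟨Y1, hY11, hY1X, hy1, hs1, hwY1, hwX0⟩ := key l1 hl1
  by_cases hone : ∀ l : c.Ev, l * l ≠ 1 → Y1 ∈ c.supp l
  · refine ⟨Y1, c.cf w Y1, hY11, hwY1 ▸ hy1, hall Y1 _ (fun l hl => ?_) rfl⟩
    obtain ⟨Y, -, -, -, hs, hwY, -⟩ := key l hl
    have h := hone l hl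
    rw [hs, Finset.mem_insert, Finset.mem_singleton] at h
    rw [h.resolve_left hY1X, hwY]
  exfalso
  push Not at hone
  obtain ⟨l2, hl2, hl2Y⟩ := hone
  obtain ⟨Y2, hY21, hY2X, hy2, hs2, hwY2, -⟩ := key l2 hl2
  have hY12 : Y1 ≠ Y2 := fun e => hl2Y (by rw [hs2, e]; simp)
  have hY1w : Y1 ∈ c.supp w := c.mem_supp.2
    ⟨hY11, by rw [hwY1]; rcases hy1 with e | e <;> simp [e]⟩
  have hY2w : Y2 ∈ (c.supp w).erase Y1 := Finset.mem_erase.2 ⟨hY12.symm, c.mem_supp.2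
    ⟨hY21, by rw [hwY2]; rcases hy2 with e | e <;> simp [e]⟩⟩
  have hcard : (((c.supp w).erase Y1).erase Y2).card = 1 := by
    rw [Finset.card_erase_of_mem hY2w, Finset.card_erase_of_mem hY1w, hw3]
  obtain ⟨Z, hZ⟩ := Finset.card_eq_one.1 hcard
  have hsw : ∀ f : IrrCharacter G → ℂ, ∑ χ ∈ c.supp w, f χ = f Y1 + (f Y2 + f Z) := by
    intro f
    rw [← Finset.add_sum_erase _ _ hY1w, ← Finset.add_sum_erase _ _ hY2w, hZ, Finset.sum_singleton]
  have hZ' : Z ∈ ((c.supp w).erase Y1).erase Y2 := hZ ▸ Finset.mem_singleton_self Z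
  obtain ⟨hZ2, hZ1⟩ := Finset.mem_erase.1 hZ'
  obtain ⟨hZne, hZ0⟩ := c.mem_supp.1 (Finset.mem_erase.1 hZ1).2
  have hz := (hwv Z hZne).resolve_left hZ0
  have hm1 := c.ne_one_of_nonreal hl1
  have hm2 := c.ne_one_of_nonreal hl2
  have dA := c.sum_supp_apply l1 hm1 1
  have dB := c.sum_supp_apply l2 hm2 1
  have dW := c.sum_supp_apply w hw1 1
  have tA := c.sum_supp_apply l1 hm1 c.t
  have tB := c.sum_supp_apply l2 hm2 c.t
  have tW := c.sum_supp_apply w hw1 c.t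
  have pA := c.sum_supp_pair l1 hm1
  have pW := c.sum_supp_pair w hw1
  rw [hs1, Finset.sum_pair hY1X.symm, c.Phi_one, hX l1 hl1, ← hwY1] at dA
  rw [hs2, Finset.sum_pair hY2X.symm, c.Phi_one, hX l2 hl2, ← hwY2] at dB
  rw [hsw, c.Phi_one] at dW
  rw [hs1, Finset.sum_pair hY1X.symm, c.Phi_sq_one _ c.t_sq, hX l1 hl1, ← hwY1] at tA
  rw [hs2, Finset.sum_pair hY2X.symm, c.Phi_sq_one _ c.t_sq, hX l2 hl2, ← hwY2] at tB
  rw [hsw, c.Phi_sq_one _ c.t_sq] at tW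
  rw [hs1, Finset.sum_pair hY1X.symm, hX l1 hl1, ← hwY1] at pA
  rw [hsw] at pW
  have hsq : ∀ a : ℤ, (a = 1 ∨ a = -1) → ∀ v d : ℂ,
      (a : ℂ) * (v ^ 2 / d) = ((a : ℂ) * v) ^ 2 / ((a : ℂ) * d) := by
    rintro a (rfl | rfl) v d <;> push_cast
    · simp
    · rw [neg_one_mul, neg_one_mul, neg_one_mul, neg_sq, div_neg]
  rw [hsq δ hδ, hsq _ (hwY1 ▸ hy1)] at pA
  rw [hsq _ (hwY1 ▸ hy1), hsq _ (hwY2 ▸ hy2), hsq _ hz] at pW
  have hne : ∀ (a : ℤ) (χ : IrrCharacter G), (a = 1 ∨ a = -1) →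
      (a : ℂ) * (χ : G → ℂ) 1 ≠ 0 := by
    rintro a χ (rfl | rfl) <;> simp [χ.2.apply_one_ne_zero]
  have nq := hne δ X hδ
  have ny := hne _ Y1 (hwY1 ▸ hy1)
  have nz := hne _ Z hz
  have hI : (c.nInv : ℂ) ≠ 0 := Nat.cast_ne_zero.2 c.nInv_pos.ne'
  generalize (δ : ℂ) * (X : G → ℂ) 1 = q at dA dB nq pA
  generalize (δ : ℂ) * (X : G → ℂ) c.t = A at tA tB pA
  generalize (c.cf w Y1 : ℂ) * (Y1 : G → ℂ) 1 = y at dA dW ny pA pW
  generalize (c.cf w Y1 : ℂ) * (Y1 : G → ℂ) c.t = yt at tA tW pA pW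
  generalize (c.cf w Y2 : ℂ) * (Y2 : G → ℂ) 1 = y' at dB dW pW
  generalize (c.cf w Y2 : ℂ) * (Y2 : G → ℂ) c.t = yt' at tB tW pW
  generalize (c.cf w Z : ℂ) * (Z : G → ℂ) 1 = z at dW nz pW
  generalize (c.cf w Z : ℂ) * (Z : G → ℂ) c.t = zt at tW pW
  have e1 : y = -1 - q := by linear_combination dA
  have e2 : y' = -1 - q := by linear_combination dB
  have e3 : yt = -1 - A := by linear_combination tA
  have e4 : yt' = -1 - A := by linear_combination tB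
  have e5 : z = 1 + 2 * q := by linear_combination dW - e1 - e2
  have e6 : zt = 1 + 2 * A := by linear_combination tW - e3 - e4
  subst e1 e2 e3 e4 e5 e6
  have hr : (c.nInv : ℂ) ^ 2 * (1 + (A ^ 2 / q + (-1 - A) ^ 2 / (-1 - q))) ≠ 0 := by
    rw [pA]; exact mul_ne_zero (mul_ne_zero (by norm_num) (pow_ne_zero 2 c.k_ne_zero)) hI
  have heq := mul_left_cancel₀ (pow_ne_zero 2 hI) (pA.trans pW.symm)
  have hAq : A = q := by
    have h2 : (A - q) ^ 2 = 0 := by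
      have nz' : 1 + q * 2 ≠ 0 := by rwa [mul_comm q 2]
      field_simp at heq
      linear_combination -heq
    exact sub_eq_zero.1 (pow_eq_zero_iff two_ne_zero |>.1 h2)
  subst hAq
  apply hr
  field_simp
  ring

end Ctx

end Cfsg.Lib.BSW
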