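import Cfsg.Agent.Lib.BSW.Setup
import Mathlib.GroupTheory.PGroup

/-!
# Brauer–Suzuki–Wall: centralisers outside `K`, products of two involutions
-/

set_option autoImplicit false
set_option linter.unusedSectionVars false
set_option linter.style.haveILetI false

namespace Cfsg.Lib.BSW

open Cfsg.Lib.Char (involFinset mem_involFinset conj_mem_involFinset)

universe u v

/-- `z` is inverted by an involution. -/
def IsInverted {G : Type u} [Group G] (z : G) : Prop :=
  ∃ u : G, u ≠ 1 ∧ u * u = 1 ∧ u * z * u⁻¹ = z⁻¹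

namespace Ctx

variable {G : Type u} [Group G] (c : Ctx G) [Fintype G] [DecidableEq G]

theorem R_ne_one {z : G} (hz : z ∈ c.R) : z ≠ 1 :=
  fun e => (c.mem_R.1 hz).1 (by rw [e, one_mul])

theorem R_conj {z : G} (hz : z ∈ c.R) (x : G) : x * z * x⁻¹ ∈ c.R := by
  rw [mem_R] at hz ⊢
  refine ⟨fun h => hz.1 ((conj_sq_iff x z).1 h), fun y hy => hz.2 (y * x) ?_⟩
  simpa [mul_assoc] using hy

theorem R_inv {z : G} (hz : z ∈ c.R) : z⁻¹ ∈ c.R := by
  rw [mem_R] at hz ⊢
  refine ⟨fun h => hz.1 ?_, fun x hx => hz.2 x ?_⟩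
  · rw [← mul_inv_rev, inv_eq_one] at h
    exact h
  · have := c.K.inv_mem hx
    simpa [mul_assoc] using this

/-- Prime divisors of `2k` do not divide the number of involutions. -/
theorem coprime_two_k_nInv : Nat.Coprime (2 * c.k) c.nInv := by
  refine Nat.coprime_of_dvd fun p hp hpk hpI => ?_
  haveI : Fact p.Prime := ⟨hp⟩
  obtain ⟨⟨y, hyK⟩, hy⟩ := exists_prime_orderOf_dvd_card' (G := ↥c.K) p (c.card_K.symm ▸ hpk)
  rw [Subgroup.orderOf_mk] at hy
  obtain ⟨P, hP⟩ := (IsPGroup.of_card (p := p) (n := 1)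
    (G := ↥(Subgroup.zpowers y)) (by rw [Nat.card_zpowers, hy, pow_one])).exists_le_sylow
  have hy1 : y ≠ 1 := fun e => hp.one_lt.ne' (by rw [← hy, e, orderOf_one])
  haveI : Nontrivial ↥(P : Subgroup G) :=
    ⟨⟨y, hP (Subgroup.mem_zpowers y)⟩, 1, fun e => hy1 (congrArg Subtype.val e)⟩
  haveI := P.isPGroup'.center_nontrivial
  obtain ⟨⟨w0, hw0⟩, hwo⟩ := exists_prime_orderOf_dvd_card'
    (G := ↥(Subgroup.center ↥(P : Subgroup G))) p (by
      obtain ⟨n, hn⟩ := IsPGroup.iff_card.1 (P.isPGroup'.to_subgroup (Subgroup.center _))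
      have : 1 < Nat.card (Subgroup.center ↥(P : Subgroup G)) := Finite.one_lt_card
      rw [hn] at this ⊢
      exact dvd_pow_self p (by rintro rfl; simp at this))
  rw [Subgroup.orderOf_mk, ← Subgroup.orderOf_coe] at hwo
  set w : G := (w0 : G) with hw
  have hw1 : w ≠ 1 := fun e => hp.one_lt.ne' (by rw [← hwo, e, orderOf_one])
  have hle : (P : Subgroup G) ≤ Subgroup.centralizer ({w} : Set G) := fun x hx =>
    mem_centralizer_singleton.2 (congrArg Subtype.val (Subgroup.mem_center_iff.1 hw0 ⟨x, hx⟩))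
  have hyw : w * y = y * w :=
    (mem_centralizer_singleton.1 (hle (hP (Subgroup.mem_zpowers y)))).symm
  have hdvd : Nat.card (Subgroup.centralizer ({w} : Set G)) ∣ 4 * c.k := by
    by_cases hw2 : w * w = 1
    · obtain ⟨x, hx⟩ := isConj_iff.1 (c.conj w c.t hw1 hw2 c.t_ne c.t_sq)
      rw [← card_centralizer_conj w x, hx, c.card_H, c.card_K]
      exact ⟨1, by ring⟩
    · have hy2 : y * y ≠ 1 := by
        intro h2
        have hp2 : p = 2 := by
          have := orderOf_dvd_of_pow_eq_one (by rw [pow_two]; exact h2 : y ^ 2 = 1)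
          rw [hy] at this
          exact (Nat.prime_dvd_prime_iff_eq hp Nat.prime_two).1 this
        subst hp2
        exact hw2 (by rw [← pow_two, ← hwo, pow_orderOf_eq_one])
      have hwK : w ∈ c.K := by
        rw [← c.centralizer_K hyK hy2]; exact mem_centralizer_singleton.2 hyw
      rw [c.centralizer_K hwK hw2, c.card_K]
      exact ⟨2, by ring⟩
  have h2 := (Subgroup.card_dvd_of_le hle).trans hdvd
  apply P.not_dvd_index
  obtain ⟨d, hd⟩ := h2
  have h3 := (P : Subgroup G).index_mul_card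
  rw [c.card_G, hd] at h3
  have h4 : (P : Subgroup G).index = d * c.nInv :=
    Nat.eq_of_mul_eq_mul_right Nat.card_pos (by rw [h3]; ring)
  rw [h4]
  exact hpI.mul_left d

theorem odd_nInv : Odd c.nInv := by
  rw [← Nat.not_even_iff_odd, even_iff_two_dvd]
  intro h
  exact (Nat.prime_two.coprime_iff_not_dvd.1
    (Nat.Coprime.coprime_mul_right c.coprime_two_k_nInv)) h

/-- Centralisers of elements of `R` consist of elements of `R`. -/
theorem R_centralizer {z a : G} (hz : z ∈ c.R) (ha : a * z = z * a) (ha1 : a ≠ 1) : a ∈ c.R := by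
  have key : ∀ b : G, b * z = z * b → b ≠ 1 → ∀ x : G, x * b * x⁻¹ ∉ c.K := by
    intro b hb hb1 x hx
    have hcomm : x * z * x⁻¹ * (x * b * x⁻¹) = x * b * x⁻¹ * (x * z * x⁻¹) := by
      rw [show x * z * x⁻¹ * (x * b * x⁻¹) = x * (z * b) * x⁻¹ by group,
        show x * b * x⁻¹ * (x * z * x⁻¹) = x * (b * z) * x⁻¹ by group, hb]
    have hH := c.mem_H_of_centralizer hx (fun e => hb1 (conj_eq_one_iff.1 e)) hcomm
    exact (c.mem_R.1 (c.R_conj hz x)).1 (c.sq_of_H_notK hH ((c.mem_R.1 hz).2 x)).2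
  refine c.mem_R.2 ⟨fun h => ?_, key a ha ha1⟩
  obtain ⟨x, hx⟩ := isConj_iff.1 (c.conj a c.t ha1 h c.t_ne c.t_sq)
  exact key a ha ha1 x (hx ▸ c.t_mem)

theorem not_dvd_two_k_card_centralizer {z : G} (hz : z ∈ c.R) {p : ℕ} (hp : p.Prime)
    (hp2 : p ∣ 2 * c.k) : ¬ p ∣ Nat.card (Subgroup.centralizer ({z} : Set G)) := by
  intro hd
  haveI : Fact p.Prime := ⟨hp⟩
  obtain ⟨⟨y, hyC⟩, hy⟩ := exists_prime_orderOf_dvd_card' (G := ↥(Subgroup.centralizer ({z} : Set G)))
    p hd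
  rw [Subgroup.orderOf_mk] at hy
  obtain ⟨P, hP⟩ := (IsPGroup.of_card (p := p) (n := 1)
    (G := ↥(Subgroup.zpowers y)) (by rw [Nat.card_zpowers, hy, pow_one])).exists_le_sylow
  have hy1 : y ≠ 1 := fun e => hp.one_lt.ne' (by rw [← hy, e, orderOf_one])
  haveI : Nontrivial ↥(P : Subgroup G) :=
    ⟨⟨y, hP (Subgroup.mem_zpowers y)⟩, 1, fun e => hy1 (congrArg Subtype.val e)⟩
  haveI := P.isPGroup'.center_nontrivial
  obtain ⟨⟨v, hvz⟩, hv1⟩ := exists_ne (1 : ↥(Subgroup.center ↥(P : Subgroup G)))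
  have hvy : (v : G) * y = y * v :=
    (congrArg Subtype.val (Subgroup.mem_center_iff.1 hvz ⟨y, hP (Subgroup.mem_zpowers y)⟩)).symm
  have hne : (v : G) ≠ 1 := fun e => hv1 (Subtype.ext (Subtype.ext e))
  have hvR : (v : G) ∈ c.R := c.R_centralizer (c.R_centralizer hz
    (mem_centralizer_singleton.1 hyC) hy1) hvy hne
  obtain ⟨⟨k0, hk0⟩, hk⟩ := exists_prime_orderOf_dvd_card' (G := ↥c.K) p (c.card_K.symm ▸ hp2)
  rw [Subgroup.orderOf_mk] at hk
  obtain ⟨P', hP'⟩ := (IsPGroup.of_card (p := p) (n := 1)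
    (G := ↥(Subgroup.zpowers k0)) (by rw [Nat.card_zpowers, hk, pow_one])).exists_le_sylow
  obtain ⟨g, hg⟩ := MulAction.exists_smul_eq G P' P
  have hk1 : k0 ≠ 1 := fun e => hp.one_lt.ne' (by rw [← hk, e, orderOf_one])
  have hmem : g * k0 * g⁻¹ ∈ (P : Subgroup G) := by
    rw [← hg, Sylow.coe_subgroup_smul]
    exact ⟨k0, hP' (Subgroup.mem_zpowers k0), rfl⟩
  have hcomm : g * k0 * g⁻¹ * v = v * (g * k0 * g⁻¹) :=
    congrArg Subtype.val (Subgroup.mem_center_iff.1 hvz ⟨_, hmem⟩)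
  have h := (c.mem_R.1 (c.R_centralizer hvR hcomm fun e => hk1 (conj_eq_one_iff.1 e))).2 g⁻¹
  exact h (by rw [show g⁻¹ * (g * k0 * g⁻¹) * g⁻¹⁻¹ = k0 by group]; exact hk0)

theorem coprime_two_k_centralizer {z : G} (hz : z ∈ c.R) :
    Nat.Coprime (2 * c.k) (Nat.card (Subgroup.centralizer ({z} : Set G))) :=
  Nat.coprime_of_dvd fun _ hp h => c.not_dvd_two_k_card_centralizer hz hp h

theorem orderOf_coprime {z : G} (hz : z ∈ c.R) : Nat.Coprime (2 * c.k) (orderOf z) := by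
  refine (c.coprime_two_k_centralizer hz).coprime_dvd_right ?_
  rw [← Nat.card_zpowers]
  exact Subgroup.card_dvd_of_le (Subgroup.zpowers_le.2 (mem_centralizer_singleton.2 rfl))

theorem card_centralizer_dvd {z : G} (hz : z ∈ c.R) :
    Nat.card (Subgroup.centralizer ({z} : Set G)) ∣ c.nInv := by
  have h1 := c.coprime_two_k_centralizer hz
  have h2 : Nat.Coprime (4 * c.k) (Nat.card (Subgroup.centralizer ({z} : Set G))) := by
    have := Nat.Coprime.mul_left (Nat.Coprime.coprime_mul_right h1 : Nat.Coprime 2 _) h1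
    rwa [← mul_assoc] at this
  exact h2.symm.dvd_of_dvd_mul_left (c.card_G ▸ Subgroup.card_subgroup_dvd_card _)

theorem odd_R_centralizer_card {z : G} (hz : z ∈ c.R) :
    Odd (Nat.card (Subgroup.centralizer ({z} : Set G))) :=
  c.odd_nInv.of_dvd_nat (c.card_centralizer_dvd hz)

/-- An involution inverting `z ∈ R` inverts its centraliser, which is abelian. -/
theorem inverter {z u : G} (hz : z ∈ c.R) (hu1 : u ≠ 1) (hu : u * u = 1)
    (huz : u * z * u⁻¹ = z⁻¹) :
    (∀ a ∈ Subgroup.centralizer ({z} : Set G), u * a * u⁻¹ = a⁻¹) ∧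
    (∀ a ∈ Subgroup.centralizer ({z} : Set G), ∀ b ∈ Subgroup.centralizer ({z} : Set G),
      a * b = b * a) := by
  refine inverts_of_no_fixed hu (fun a ha => ?_) fun a ha hua => ?_
  · have := (conj_mem_centralizer (g := u)).2 ha
    rw [huz] at this
    rw [mem_centralizer_singleton] at this ⊢
    exact ((Commute.inv_right_iff).1 this).eq
  · by_contra ha1
    exact (c.mem_R.1 (c.R_centralizer (c.R_centralizer hz (mem_centralizer_singleton.1 ha) ha1)
      hua hu1)).1 hu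

theorem inverted_centralizer {z : G} (hz : z ∈ c.R) (hi : IsInverted z) {a : G}
    (ha : a ∈ Subgroup.centralizer ({z} : Set G)) (ha1 : a ≠ 1) :
    IsInverted a ∧ Subgroup.centralizer ({a} : Set G) = Subgroup.centralizer ({z} : Set G) := by
  obtain ⟨u, hu1, hu, huz⟩ := hi
  obtain ⟨hinv, hab⟩ := c.inverter hz hu1 hu huz
  have haR := c.R_centralizer hz (mem_centralizer_singleton.1 ha) ha1
  exact ⟨⟨u, hu1, hu, hinv a ha⟩,
    centralizer_eq_of_abelian hab (c.inverter haR hu1 hu (hinv a ha)).2 ha⟩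

/-- The number of ordered pairs of involutions with product `z`. -/
noncomputable def n (_c : Ctx G) (z : G) : ℕ := by
  classical
  exact ((involFinset G).filter fun u => u * z * u⁻¹ = z⁻¹ ∧ u ≠ z).card

theorem mem_inverters {z u : G} :
    (u ∈ (involFinset G).filter fun u => u * z * u⁻¹ = z⁻¹ ∧ u ≠ z) ↔
      u ≠ 1 ∧ u * u = 1 ∧ u * z * u⁻¹ = z⁻¹ ∧ u ≠ z := by
  rw [Finset.mem_filter, mem_involFinset, and_assoc]

theorem n_conj (g h : G) : c.n (h * g * h⁻¹) = c.n g := by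
  classical
  have key : ∀ g h : G, ∀ u : G,
      u * g * u⁻¹ = g⁻¹ → h * u * h⁻¹ * (h * g * h⁻¹) * (h * u * h⁻¹)⁻¹ = (h * g * h⁻¹)⁻¹ := by
    intro g h u hu
    calc h * u * h⁻¹ * (h * g * h⁻¹) * (h * u * h⁻¹)⁻¹ = h * (u * g * u⁻¹) * h⁻¹ := by group
      _ = _ := by rw [hu]; group
  refine Finset.card_nbij' (fun u => h⁻¹ * u * h) (fun u => h * u * h⁻¹) ?_ ?_ ?_ ?_
  · intro u hu
    simp only [Finset.mem_coe, Finset.mem_filter] at hu ⊢
    refine ⟨by simpa using conj_mem_involFinset h⁻¹ hu.1, ?_, fun e => hu.2.2 (by rw [← e]; group)⟩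
    have := key _ h⁻¹ u hu.2.1
    simpa [mul_assoc] using this
  · intro u hu
    simp only [Finset.mem_coe, Finset.mem_filter] at hu ⊢
    exact ⟨conj_mem_involFinset h hu.1, key _ h u hu.2.1,
      fun e => hu.2.2 (by simpa using e)⟩
  · intro u _; simp only; group
  · intro u _; simp only; group

theorem n_one : c.n 1 = c.nInv := by
  classical
  rw [n, nInv, Finset.filter_true_of_mem]
  intro u hu
  exact ⟨by simp, (mem_involFinset.1 hu).1⟩

theorem n_K {y : G} (hy : y ∈ c.K) (hy1 : y ≠ 1) : c.n y = 2 * c.k := by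
  classical
  rw [n, ← c.card_K, ← Nat.card_eq_finsetCard]
  symm
  refine Nat.card_congr (Equiv.ofBijective (fun a => ⟨c.s * a.1, ?_⟩) ⟨?_, ?_⟩)
  · have hH : c.s * a.1 ∈ c.H := c.H.mul_mem c.s_mem (c.K_le a.2)
    have hk : c.s * a.1 ∉ c.K := fun h => c.s_notMem (by simpa using c.K.mul_mem h (c.K.inv_mem a.2))
    obtain ⟨h1, h2⟩ := c.sq_of_H_notK hH hk
    refine mem_inverters.2 ⟨h1, h2, ?_, fun e => hk (e ▸ hy)⟩
    exact ((c.conj_K hH hy).resolve_left fun e => hk e.2).1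
  · intro a b e
    exact Subtype.ext (mul_left_cancel (congrArg Subtype.val e))
  · rintro ⟨u, hu⟩
    obtain ⟨hu1, hu2, hu3, hu4⟩ := mem_inverters.1 hu
    have hH : u ∈ c.H := c.ti u y hy (hu3 ▸ c.K.inv_mem hy) hy1
    rcases c.mem_H_iff.1 hH with hk | hk
    · exfalso
      have hut := ((c.K_sq hk).1 hu2).resolve_left hu1
      rw [hut, c.K_comm _ c.t_mem y hy, mul_inv_cancel_right] at hu3
      exact hu4 (hut.trans (((c.K_sq hy).1 (mul_eq_one_iff_eq_inv.2 hu3)).resolve_left hy1).symm)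
    · exact ⟨⟨_, hk⟩, Subtype.ext (by simp only; rw [← mul_assoc, c.s_sq, one_mul])⟩

theorem n_le {z : G} (hz : z ∈ c.R) : c.n z ≤ Nat.card (Subgroup.centralizer ({z} : Set G)) ∧
    (c.n z = 0 ↔ ¬ IsInverted z) ∧
    (IsInverted z → c.n z = Nat.card (Subgroup.centralizer ({z} : Set G))) := by
  classical
  have h0 : ∀ u : G, u * u = 1 → u ≠ z := fun u hu e => (c.mem_R.1 hz).1 (e ▸ hu)
  have hiff : ∀ u : G, (u ∈ (involFinset G).filter fun u => u * z * u⁻¹ = z⁻¹ ∧ u ≠ z) ↔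
      u ≠ 1 ∧ u * u = 1 ∧ u * z * u⁻¹ = z⁻¹ := fun u => by
    rw [mem_inverters]
    exact ⟨fun h => ⟨h.1, h.2.1, h.2.2.1⟩, fun h => ⟨h.1, h.2.1, h.2.2, h0 u h.2.1⟩⟩
  by_cases hi : IsInverted z
  · obtain ⟨u, hu1, hu, huz⟩ := hi
    have hui : u⁻¹ = u := inv_eq_of_mul_eq_one_right hu
    obtain ⟨hinv, -⟩ := c.inverter hz hu1 hu huz
    have hn : c.n z = Nat.card (Subgroup.centralizer ({z} : Set G)) := by
      rw [n, ← Nat.card_eq_finsetCard]
      symm
      refine Nat.card_congr (Equiv.ofBijective (fun a => ⟨u * a.1, (hiff _).2 ?_⟩) ⟨?_, ?_⟩)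
      · refine ⟨fun e => ?_, ?_, ?_⟩
        · have : a.1 = u := by rw [← hui]; exact (inv_eq_of_mul_eq_one_right e).symm
          exact (c.mem_R.1 (c.R_centralizer hz (mem_centralizer_singleton.1 a.2)
            (this ▸ hu1))).1 (this ▸ hu)
        · rw [show u * a.1 * (u * a.1) = u * a.1 * u⁻¹ * a.1 by rw [hui]; group, hinv a.1 a.2,
            inv_mul_cancel]
        · calc u * a.1 * z * (u * a.1)⁻¹ = u * (a.1 * z * a.1⁻¹) * u⁻¹ := by group
            _ = z⁻¹ := by rw [mem_centralizer_singleton.1 a.2, mul_inv_cancel_right, huz]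
      · intro a b e
        exact Subtype.ext (mul_left_cancel (congrArg Subtype.val e))
      · rintro ⟨v, hv⟩
        obtain ⟨-, hv2, hv3⟩ := (hiff v).1 hv
        refine ⟨⟨u * v, mem_centralizer_singleton.2 ?_⟩,
          Subtype.ext (by simp only; rw [← mul_assoc, hu, one_mul])⟩
        calc u * v * z = u * (v * z * v⁻¹) * v := by group
          _ = (u * z * u⁻¹)⁻¹ * (u * v) := by rw [hv3]; group
          _ = z * (u * v) := by rw [huz, inv_inv]
    refine ⟨hn.le, ⟨fun h => absurd (hn ▸ h) Nat.card_pos.ne',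
      fun h => absurd ⟨u, hu1, hu, huz⟩ h⟩, fun _ => hn⟩
  · have hn : c.n z = 0 := by
      rw [n, Finset.card_eq_zero, Finset.eq_empty_iff_forall_notMem]
      exact fun u hu => hi ⟨u, (hiff u).1 hu⟩
    exact ⟨hn ▸ Nat.zero_le _, ⟨fun _ => hi, fun _ => hn⟩, fun h => absurd h hi⟩

theorem pair_sum {M : Type v} [AddCommMonoid M] (F : G → M) :
    ∑ x ∈ involFinset G, ∑ y ∈ involFinset G, F (x * y) = ∑ z, c.n z • F z := by
  classical
  rw [← Finset.sum_product', ← Finset.sum_fiberwise (involFinset G ×ˢ involFinset G)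
    (fun p => p.1 * p.2)]
  refine Finset.sum_congr rfl fun z _ => ?_
  rw [Finset.sum_congr rfl fun p hp => by rw [(Finset.mem_filter.mp hp).2], Finset.sum_const]
  congr 1
  refine Finset.card_nbij (fun p => p.1) ?_ ?_ ?_
  · intro p hp
    simp only [Finset.mem_coe, Finset.mem_filter, Finset.mem_product, mem_involFinset] at hp ⊢
    obtain ⟨⟨⟨h1, h2⟩, h3, h4⟩, rfl⟩ := hp
    refine ⟨⟨h1, h2⟩, ?_, fun e => h3 (left_eq_mul.1 e)⟩
    rw [mul_inv_rev, inv_eq_of_mul_eq_one_right h2, inv_eq_of_mul_eq_one_right h4, ← mul_assoc, h2,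
      one_mul]
  · intro p hp q hq e
    simp only [Finset.mem_coe, Finset.mem_filter] at hp hq
    simp only at e
    refine Prod.ext e ?_
    have := hp.2.trans hq.2.symm
    rw [e] at this
    exact mul_left_cancel this
  · intro u hu
    simp only [Finset.mem_coe, Finset.mem_filter, mem_involFinset] at hu
    obtain ⟨⟨h1, h2⟩, h3, h4⟩ := hu
    have hui : u⁻¹ = u := inv_eq_of_mul_eq_one_right h2
    refine ⟨(u, u * z), ?_, rfl⟩
    simp only [Finset.mem_coe, Finset.mem_filter, Finset.mem_product, mem_involFinset]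
    refine ⟨⟨⟨h1, h2⟩, fun e => h4 ?_, ?_⟩, by rw [← mul_assoc, h2, one_mul]⟩
    · rw [← inv_eq_of_mul_eq_one_right e, hui]
    · rw [show u * z * (u * z) = u * z * u⁻¹ * z by rw [hui]; group, h3, inv_mul_cancel]

/-- Sum of the pair counts against a class function. -/
theorem pair_sum_split {M : Type v} [AddCommMonoid M] (F : G → M)
    (hF : ∀ g h : G, F (h * g * h⁻¹) = F g) :
    ∑ x ∈ involFinset G, ∑ y ∈ involFinset G, F (x * y) =
      c.nInv • F 1 + c.nInv • ((2 * c.k) • F c.t) + c.nInv • ∑ z ∈ c.T, (2 * c.k) • F z +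
        ∑ z ∈ c.R, c.n z • F z := by
  rw [c.pair_sum, c.sum_univ (fun z => c.n z • F z) (fun g h => by rw [c.n_conj, hF]),
    c.n_one, c.n_K c.t_mem c.t_ne]
  congr 2
  congr 1
  refine Finset.sum_congr rfl fun z hz => ?_
  obtain ⟨h1, h2⟩ := c.mem_T.1 hz
  rw [c.n_K h2 fun e => h1 (by rw [e, one_mul])]

theorem sum_R_n :
    (∑ z ∈ c.R, c.n z) + c.nInv + 2 * c.k * c.nInv + 2 * c.k * c.nInv * c.T.card
      = c.nInv * c.nInv := by
  have h := c.pair_sum_split (fun _ => (1 : ℕ)) fun _ _ => rfl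
  simp only [Finset.sum_const, smul_eq_mul, mul_one] at h
  rw [← nInv] at h
  linarith

end Ctx

end Cfsg.Lib.BSW
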