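import Cfsg.Agent.Lib.BSW.Setup
import Cfsg.Agent.Lib.Char.Linear

/-!
# Brauer–Suzuki–Wall: linear characters of `K` trivial at the involution
-/

set_option autoImplicit false
set_option linter.unusedSectionVars false
set_option linter.style.haveILetI false

namespace Cfsg.Lib.BSW

open scoped ComplexConjugate

universe u

namespace Ctx

variable {G : Type u} [Group G] (c : Ctx G)

noncomputable instance commK : CommGroup ↥c.K :=
  { (inferInstance : Group ↥c.K) with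
    mul_comm := fun a b => Subtype.ext (c.K_comm a.1 a.2 b.1 b.2) }

/-- The subgroup generated by the involution inside `K`. -/
def TK : Subgroup ↥c.K := Subgroup.zpowers ⟨c.t, c.t_mem⟩

theorem mem_TK {y : ↥c.K} : y ∈ c.TK ↔ (y : G) = 1 ∨ (y : G) = c.t := by
  constructor
  · intro h
    obtain ⟨n, rfl⟩ := Subgroup.mem_zpowers_iff.1 h
    rcases Int.even_or_odd n with ⟨m, rfl⟩ | ⟨m, rfl⟩
    · left
      push_cast
      rw [← two_mul, zpow_mul, zpow_two, c.t_sq, one_zpow]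
    · right
      push_cast
      rw [zpow_add, zpow_mul, zpow_two, c.t_sq, one_zpow, one_mul, zpow_one]
  · rintro (h | h)
    · rw [show y = 1 from Subtype.ext h]; exact c.TK.one_mem
    · rw [show y = ⟨c.t, c.t_mem⟩ from Subtype.ext h]; exact Subgroup.mem_zpowers _

/-- The even linear characters of `K`. -/
abbrev Ev : Type u := ↥c.K ⧸ c.TK →* ℂˣ

variable [Fintype G]

theorem card_Q : Nat.card (↥c.K ⧸ c.TK) = c.k := by
  have h := Subgroup.card_eq_card_quotient_mul_card_subgroup c.TK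
  rw [c.card_K, TK, Nat.card_zpowers, Subgroup.orderOf_mk, c.orderOf_t] at h
  rw [TK]
  omega

theorem card_Ev : Nat.card c.Ev = c.k := by
  rw [Cfsg.Lib.Char.card_monoidHom_units, c.card_Q]

instance finite_Ev : Finite c.Ev :=
  Nat.finite_of_card_ne_zero (by rw [c.card_Ev]; exact c.k_pos.ne')

noncomputable instance fintype_Ev : Fintype c.Ev := Fintype.ofFinite _

/-- The value of an even character, extended by zero. -/
noncomputable def ev (l : c.Ev) (y : G) : ℂ := by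
  classical
  exact if h : y ∈ c.K then (l (QuotientGroup.mk (⟨y, h⟩ : ↥c.K)) : ℂ) else 0

theorem ev_of_mem (l : c.Ev) {y : G} (h : y ∈ c.K) :
    c.ev l y = (l (QuotientGroup.mk (⟨y, h⟩ : ↥c.K)) : ℂ) := by
  classical
  simp [ev, h]

theorem ev_mul (l : c.Ev) {a b : G} (ha : a ∈ c.K) (hb : b ∈ c.K) :
    c.ev l (a * b) = c.ev l a * c.ev l b := by
  rw [c.ev_of_mem l (c.K.mul_mem ha hb), c.ev_of_mem l ha, c.ev_of_mem l hb, ← Units.val_mul,
    ← map_mul, ← QuotientGroup.mk_mul]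
  rfl

theorem ev_of_small (l : c.Ev) {y : G} (hy : y = 1 ∨ y = c.t) : c.ev l y = 1 := by
  have h : y ∈ c.K := by
    rcases hy with rfl | rfl
    exacts [c.K.one_mem, c.t_mem]
  rw [c.ev_of_mem l h, (QuotientGroup.eq_one_iff (⟨y, h⟩ : ↥c.K)).2 (c.mem_TK.2 hy), map_one,
    Units.val_one]

theorem ev_one (y : G) (h : y ∈ c.K) : c.ev 1 y = 1 := by
  rw [c.ev_of_mem 1 h]; simp

theorem ev_hom_mul (l m : c.Ev) {y : G} (h : y ∈ c.K) :
    c.ev (l * m) y = c.ev l y * c.ev m y := by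
  rw [c.ev_of_mem _ h, c.ev_of_mem _ h, c.ev_of_mem _ h]; simp

theorem ev_inv (l : c.Ev) {y : G} (h : y ∈ c.K) : c.ev l⁻¹ y = c.ev l y⁻¹ := by
  rw [c.ev_of_mem _ h, c.ev_of_mem _ (c.K.inv_mem h)]
  have : (⟨y⁻¹, c.K.inv_mem h⟩ : ↥c.K) = (⟨y, h⟩ : ↥c.K)⁻¹ := rfl
  rw [this, QuotientGroup.mk_inv, map_inv]
  rfl

theorem conj_ev (l : c.Ev) {y : G} (h : y ∈ c.K) : conj (c.ev l y) = c.ev l y⁻¹ := by
  rw [← c.ev_inv l h, c.ev_of_mem _ h, c.ev_of_mem _ h]
  rw [MonoidHom.inv_apply, Units.val_inv_eq_inv_val]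
  set u : ℂˣ := l (QuotientGroup.mk (⟨y, h⟩ : ↥c.K)) with hu
  have hp : (u : ℂ) ^ Nat.card (↥c.K ⧸ c.TK) = 1 := by
    rw [hu, ← Units.val_pow_eq_pow_val, ← map_pow, pow_card_eq_one', map_one, Units.val_one]
  exact (Complex.inv_eq_conj (Complex.norm_eq_one_of_pow_eq_one hp Nat.card_pos.ne')).symm

/-- The elements of `K` as a finset. -/
noncomputable def Kf : Finset G := by
  classical
  exact Finset.univ.filter fun y => y ∈ c.K

theorem mem_Kf {y : G} : y ∈ c.Kf ↔ y ∈ c.K := by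
  classical
  simp [Kf]

theorem card_Kf : c.Kf.card = 2 * c.k := by
  rw [← c.card_K, ← Nat.card_eq_finsetCard]
  exact Nat.card_congr (Equiv.subtypeEquivRight fun x => c.mem_Kf)

theorem sum_Kf_mul_left (f : G → ℂ) {a : G} (ha : a ∈ c.K) :
    ∑ y ∈ c.Kf, f (a * y) = ∑ y ∈ c.Kf, f y :=
  Finset.sum_nbij' (fun y => a * y) (fun y => a⁻¹ * y)
    (fun y hy => c.mem_Kf.2 (c.K.mul_mem ha (c.mem_Kf.1 hy)))
    (fun y hy => c.mem_Kf.2 (c.K.mul_mem (c.K.inv_mem ha) (c.mem_Kf.1 hy)))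
    (fun y _ => by group) (fun y _ => by group) (fun y _ => rfl)

theorem sum_Kf_inv (f : G → ℂ) : ∑ y ∈ c.Kf, f y⁻¹ = ∑ y ∈ c.Kf, f y :=
  Finset.sum_nbij' (fun y => y⁻¹) (fun y => y⁻¹)
    (fun y hy => c.mem_Kf.2 (c.K.inv_mem (c.mem_Kf.1 hy)))
    (fun y hy => c.mem_Kf.2 (c.K.inv_mem (c.mem_Kf.1 hy)))
    (fun y _ => inv_inv y) (fun y _ => inv_inv y) (fun y _ => rfl)

theorem ev_injective {l m : c.Ev} (h : ∀ y ∈ c.K, c.ev l y = c.ev m y) : l = m := by
  refine MonoidHom.ext fun q => ?_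
  induction q using QuotientGroup.induction_on with
  | H x =>
    have := h x.1 x.2
    rw [c.ev_of_mem l x.2, c.ev_of_mem m x.2] at this
    exact Units.ext this

theorem sum_ev (l : c.Ev) [Decidable (l = 1)] :
    ∑ y ∈ c.Kf, c.ev l y = if l = 1 then (2 * c.k : ℂ) else 0 := by
  by_cases hl : l = 1
  · rw [if_pos hl, hl, Finset.sum_congr rfl fun y hy => c.ev_one y (c.mem_Kf.1 hy)]
    simp [c.card_Kf]
  · rw [if_neg hl]
    have hex : ∃ a ∈ c.K, c.ev l a ≠ 1 := by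
      by_contra hno
      push Not at hno
      exact hl (c.ev_injective fun y hy => by rw [hno y hy, c.ev_one y hy])
    obtain ⟨a, ha, hne⟩ := hex
    have h := c.sum_Kf_mul_left (c.ev l) ha
    rw [Finset.sum_congr rfl fun y hy => c.ev_mul l ha (c.mem_Kf.1 hy), ← Finset.mul_sum] at h
    rcases mul_left_eq_self₀.1 h with h' | h'
    exacts [absurd h' hne, h']

/-- Column orthogonality for even characters. -/
theorem sum_Ev {y : G} (hy : y ∈ c.K) [Decidable (y = 1 ∨ y = c.t)] :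
    ∑ l : c.Ev, c.ev l y = if y = 1 ∨ y = c.t then (c.k : ℂ) else 0 := by
  by_cases h : y = 1 ∨ y = c.t
  · rw [if_pos h, Finset.sum_congr rfl fun l _ => c.ev_of_small l h]
    simp [← Nat.card_eq_fintype_card, c.card_Ev]
  · rw [if_neg h]
    haveI : NeZero (Monoid.exponent (↥c.K ⧸ c.TK)) := ⟨Monoid.exponent_ne_zero_of_finite⟩
    have hne : (QuotientGroup.mk (⟨y, hy⟩ : ↥c.K) : ↥c.K ⧸ c.TK) ≠ 1 := fun e =>
      h (c.mem_TK.1 ((QuotientGroup.eq_one_iff _).1 e))
    obtain ⟨φ, hφ⟩ := CommGroup.exists_apply_ne_one_of_hasEnoughRootsOfUnity _ ℂ hne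
    have hs : ∑ l : c.Ev, c.ev (φ * l) y = ∑ l : c.Ev, c.ev l y :=
      Fintype.sum_equiv (Equiv.mulLeft φ) _ _ fun l => rfl
    rw [Finset.sum_congr rfl fun l _ => c.ev_hom_mul φ l hy, ← Finset.mul_sum] at hs
    rcases mul_left_eq_self₀.1 hs with h' | h'
    · rw [c.ev_of_mem φ hy] at h'
      exact absurd (Units.ext h') hφ
    · exact h'

/-- There is at most one nontrivial real even character. -/
theorem real_unique {l m : c.Ev} (hl : l * l = 1) (hl1 : l ≠ 1) (hm : m * m = 1) (hm1 : m ≠ 1) :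
    l = m := by
  haveI : NeZero (Monoid.exponent (↥c.K ⧸ c.TK)) := ⟨Monoid.exponent_ne_zero_of_finite⟩
  obtain ⟨e⟩ := CommGroup.monoidHom_mulEquiv_of_hasEnoughRootsOfUnity (↥c.K ⧸ c.TK) ℂ
  refine e.injective ?_
  have key : ∀ q : ↥c.K ⧸ c.TK, q * q = 1 → q ≠ 1 →
      ∃ y : ↥c.K, QuotientGroup.mk y = q ∧ (y : G) * y = c.t := by
    intro q hq hq1
    induction q using QuotientGroup.induction_on with
    | H y =>
      rw [← QuotientGroup.mk_mul] at hq
      refine ⟨y, rfl, ((c.mem_TK.1 ((QuotientGroup.eq_one_iff _).1 hq)).resolve_left fun h => ?_)⟩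
      exact hq1 ((QuotientGroup.eq_one_iff y).2 (c.mem_TK.2 ((c.K_sq y.2).1 h)))
  obtain ⟨a, ha, ha2⟩ := key (e l) (by rw [← map_mul, hl, map_one])
    (fun h => hl1 (e.injective (h.trans (map_one e).symm)))
  obtain ⟨b, hb, hb2⟩ := key (e m) (by rw [← map_mul, hm, map_one])
    (fun h => hm1 (e.injective (h.trans (map_one e).symm)))
  rw [← ha, ← hb]
  refine QuotientGroup.eq.2 (c.mem_TK.2 ((c.K_sq (a⁻¹ * b).2).1 ?_))
  push_cast
  calc (a : G)⁻¹ * b * ((a : G)⁻¹ * b) = (a : G)⁻¹ * ((b : G) * (a : G)⁻¹) * b := by group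
    _ = (a : G)⁻¹ * ((a : G)⁻¹ * b) * b := by rw [c.K_comm _ b.2 _ (c.K.inv_mem a.2)]
    _ = ((a : G) * a)⁻¹ * ((b : G) * b) := by group
    _ = 1 := by rw [ha2, hb2, inv_mul_cancel]

theorem exists_nonreal (hk : 3 ≤ c.k) : ∃ l : c.Ev, l * l ≠ 1 := by
  classical
  by_contra hno
  push Not at hno
  have h1 : (Finset.univ.erase (1 : c.Ev)).card ≤ 1 := Finset.card_le_one.2 fun l hl m hm =>
    c.real_unique (hno l) (Finset.ne_of_mem_erase hl) (hno m) (Finset.ne_of_mem_erase hm)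
  rw [Finset.card_erase_of_mem (Finset.mem_univ _), Finset.card_univ, ← Nat.card_eq_fintype_card,
    c.card_Ev] at h1
  omega

theorem card_nonreal [DecidableEq c.Ev] :
    c.k ≤ (Finset.univ.filter fun l : c.Ev => l * l ≠ 1).card + 2 := by
  have h : (Finset.univ : Finset c.Ev) ⊆ (Finset.univ.filter fun l : c.Ev => l * l ≠ 1) ∪
      insert 1 (Finset.univ.filter fun l : c.Ev => l * l = 1 ∧ l ≠ 1) := by
    intro l _
    simp only [Finset.mem_union, Finset.mem_insert, Finset.mem_filter, Finset.mem_univ, true_and]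
    tauto
  have h2 : (Finset.univ.filter fun l : c.Ev => l * l = 1 ∧ l ≠ 1).card ≤ 1 :=
    Finset.card_le_one.2 fun l hl m hm => by
      simp only [Finset.mem_filter, Finset.mem_univ, true_and] at hl hm
      exact c.real_unique hl.1 hl.2 hm.1 hm.2
  have h3 := Finset.card_le_card h
  rw [Finset.card_univ, ← Nat.card_eq_fintype_card, c.card_Ev] at h3
  have h4 := Finset.card_union_le (Finset.univ.filter fun l : c.Ev => l * l ≠ 1)
    (insert 1 (Finset.univ.filter fun l : c.Ev => l * l = 1 ∧ l ≠ 1))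
  have h5 := Finset.card_insert_le (1 : c.Ev) (Finset.univ.filter fun l : c.Ev => l * l = 1 ∧ l ≠ 1)
  omega

end Ctx

end Cfsg.Lib.BSW
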