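import Cfsg.Agent.Lib.BSW.Count

/-!
# Brauer–Suzuki–Wall: abelian centralisers inverted by involutions
-/

set_option autoImplicit false
set_option linter.unusedSectionVars false
set_option linter.style.haveILetI false

namespace Cfsg.Lib.BSW

open Cfsg.Lib.Char (involFinset mem_involFinset conj_mem_involFinset)

universe u

/-- The conclusion of the theorem. -/
abbrev Concl (G : Type u) [Group G] : Prop :=
  ∃ Q D : Subgroup G, 2 * Nat.card G = Nat.card ↥Q * (Nat.card ↥Q + 1) * (Nat.card ↥Q - 1) ∧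
    (∀ x ∈ Q, x ≠ 1 → Subgroup.centralizer ({x} : Set G) = Q) ∧
    IsMulCommutative ↥D ∧ 2 * Nat.card ↥D + 1 = Nat.card ↥Q ∧ Q ⊓ D = ⊥ ∧
    Subgroup.normalizer (Q : Set G) = Q ⊔ D ∧
    ∀ X : Subgroup G, X ≤ D → X ≠ ⊥ →
      Subgroup.normalizer (X : Set G) = Subgroup.normalizer (D : Set G) ∧
      ∃ u : G, orderOf u = 2 ∧ u ∉ D ∧ (∀ d ∈ D, u * d * u⁻¹ = d⁻¹) ∧
        Subgroup.normalizer (D : Set G) = D ⊔ Subgroup.zpowers u

theorem real_iff_inverted_aux {G : Type u} [Group G] [Finite G] {z x : G}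
    (hodd : Odd (Nat.card (Subgroup.centralizer ({z} : Set G)))) (hz : z ≠ z⁻¹)
    (hx : x * z * x⁻¹ = z⁻¹) : IsInverted z := by
  have hx2 : x ^ 2 ∈ Subgroup.centralizer ({z} : Set G) := by
    rw [mem_centralizer_singleton]
    calc x ^ 2 * z = x * (x * z * x⁻¹) * x := by rw [pow_two]; group
      _ = x * z⁻¹ * x := by rw [hx]
      _ = (x * z * x⁻¹)⁻¹ * x ^ 2 := by rw [pow_two]; group
      _ = z * x ^ 2 := by rw [hx, inv_inv]
  set d := orderOf (x ^ 2) with hd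
  have hdodd : Odd d := hodd.of_dvd_nat (by
    rw [hd, ← Nat.card_zpowers]
    exact Subgroup.card_dvd_of_le (Subgroup.zpowers_le.2 hx2))
  obtain ⟨m, hm⟩ := hdodd
  have hpow : x ^ d = x * (x ^ 2) ^ m := by rw [← pow_mul, ← pow_succ', hm]
  have hu : x ^ d * z * (x ^ d)⁻¹ = z⁻¹ := by
    have hc : (x ^ 2) ^ m * z = z * (x ^ 2) ^ m :=
      mem_centralizer_singleton.1 (Subgroup.pow_mem _ hx2 m)
    calc x ^ d * z * (x ^ d)⁻¹ = x * ((x ^ 2) ^ m * z * ((x ^ 2) ^ m)⁻¹) * x⁻¹ := by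
          rw [hpow]; group
      _ = z⁻¹ := by rw [hc, mul_inv_cancel_right, hx]
  refine ⟨x ^ d, fun e => hz ?_, ?_, hu⟩
  · rwa [e, one_mul, inv_one, mul_one] at hu
  · rw [← pow_add, ← two_mul, pow_mul, hd, pow_orderOf_eq_one]

namespace Ctx

variable {G : Type u} [Group G] (c : Ctx G) [Fintype G] [DecidableEq G]

theorem R_ne_inv {z : G} (hz : z ∈ c.R) : z ≠ z⁻¹ :=
  fun e => (c.mem_R.1 hz).1 (mul_eq_one_iff_eq_inv.2 e)

theorem inverted_conj {z : G} (hi : IsInverted z) (g : G) : IsInverted (g * z * g⁻¹) := by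
  obtain ⟨u, h1, h2, h3⟩ := hi
  refine ⟨g * u * g⁻¹, fun e => h1 (conj_eq_one_iff.1 e), (conj_sq_iff g u).2 h2, ?_⟩
  calc g * u * g⁻¹ * (g * z * g⁻¹) * (g * u * g⁻¹)⁻¹ = g * (u * z * u⁻¹) * g⁻¹ := by group
    _ = (g * z * g⁻¹)⁻¹ := by rw [h3]; group

theorem inverted_of_conj_inv {z x : G} (hz : z ∈ c.R) (hx : x * z * x⁻¹ = z⁻¹) : IsInverted z :=
  real_iff_inverted_aux (c.odd_R_centralizer_card hz) (c.R_ne_inv hz) hx

theorem exists_tInverted {z : G} (hi : IsInverted z) :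
    ∃ g : G, c.t * (g * z * g⁻¹) * c.t⁻¹ = (g * z * g⁻¹)⁻¹ := by
  obtain ⟨u, h1, h2, h3⟩ := hi
  obtain ⟨g, hg⟩ := isConj_iff.1 (c.conj u c.t h1 h2 c.t_ne c.t_sq)
  refine ⟨g, ?_⟩
  rw [← hg]
  calc g * u * g⁻¹ * (g * z * g⁻¹) * (g * u * g⁻¹)⁻¹ = g * (u * z * u⁻¹) * g⁻¹ := by group
    _ = (g * z * g⁻¹)⁻¹ := by rw [h3]; group

theorem mem_R_of_mem_centralizer {z a : G} (hz : z ∈ c.R)
    (ha : a ∈ Subgroup.centralizer ({z} : Set G)) (ha1 : a ≠ 1) : a ∈ c.R :=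
  c.R_centralizer hz (mem_centralizer_singleton.1 ha) ha1

theorem normalizer_split {z u : G} (hz : z ∈ c.R) (hu1 : u ≠ 1) (hu : u * u = 1)
    (huz : u * z * u⁻¹ = z⁻¹) {x : G}
    (hx : x ∈ Subgroup.normalizer ((Subgroup.centralizer ({z} : Set G) : Subgroup G) : Set G)) :
    ∃ a ∈ Subgroup.centralizer ({z} : Set G), (a⁻¹ * x) * u = u * (a⁻¹ * x) := by
  obtain ⟨hinv, hab⟩ := c.inverter hz hu1 hu huz
  set A := Subgroup.centralizer ({z} : Set G) with hA
  have hui : u⁻¹ = u := inv_eq_of_mul_eq_one_right hu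
  have hw : u * (x * u * x⁻¹) ∈ A := by
    rw [hA, mem_centralizer_singleton]
    have h1 : x⁻¹ * z * x ∈ A := by
      have := conj_mem_of_mem_normalizer ((Subgroup.normalizer _).inv_mem hx)
        (mem_centralizer_singleton.2 rfl : z ∈ A)
      simpa using this
    have h2 : x * u * x⁻¹ * z * (x * u * x⁻¹)⁻¹ = z⁻¹ := by
      calc x * u * x⁻¹ * z * (x * u * x⁻¹)⁻¹ = x * (u * (x⁻¹ * z * x) * u⁻¹) * x⁻¹ := by group
        _ = z⁻¹ := by rw [hinv _ h1]; group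
    calc u * (x * u * x⁻¹) * z = u * (x * u * x⁻¹ * z * (x * u * x⁻¹)⁻¹) * (x * u * x⁻¹) := by group
      _ = (u * z * u⁻¹)⁻¹ * (u * (x * u * x⁻¹)) := by rw [h2]; group
      _ = z * (u * (x * u * x⁻¹)) := by rw [huz, inv_inv]
  obtain ⟨m, hm⟩ : Odd (Nat.card A) := c.odd_R_centralizer_card hz
  set w := u * (x * u * x⁻¹) with hwdef
  refine ⟨w ^ m, A.pow_mem hw m, ?_⟩
  have hwm : w ^ (2 * m + 1) = 1 := by
    have : (⟨w, hw⟩ : ↥A) ^ Nat.card A = 1 := pow_card_eq_one'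
    rw [hm] at this
    exact congrArg Subtype.val this
  have hxu : x * u = u * w * x := by
    rw [hwdef, ← mul_assoc, hu, one_mul]; group
  have hwu : u * w ^ m = (w ^ m)⁻¹ * u := by
    rw [← hinv _ (A.pow_mem hw m)]; group
  have hw1 : w = (w ^ m)⁻¹ * (w ^ m)⁻¹ := by
    rw [← mul_inv_rev, ← pow_add]
    refine eq_inv_of_mul_eq_one_left ?_
    rw [← pow_succ', ← two_mul, hwm]
  calc (w ^ m)⁻¹ * x * u = (w ^ m)⁻¹ * (u * w * x) := by rw [mul_assoc, hxu]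
    _ = (w ^ m)⁻¹ * u * w * x := by group
    _ = u * w ^ m * w * x := by rw [hwu]
    _ = u * (w ^ m)⁻¹ * x := by
      rw [mul_assoc u, ← pow_succ]
      congr 2
      refine eq_inv_of_mul_eq_one_left ?_
      rw [← pow_add, show m + 1 + m = 2 * m + 1 by ring, hwm]
    _ = u * ((w ^ m)⁻¹ * x) := by rw [mul_assoc]

theorem normalizer_invol {z u : G} (hz : z ∈ c.R) (hu1 : u ≠ 1) (hu : u * u = 1)
    (huz : u * z * u⁻¹ = z⁻¹) {x : G}
    (hx : x ∈ Subgroup.normalizer ((Subgroup.centralizer ({z} : Set G) : Subgroup G) : Set G))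
    (hxu : x * u = u * x) (hx2 : x * x = 1) : x = 1 ∨ x = u := by
  obtain ⟨hinv, -⟩ := c.inverter hz hu1 hu huz
  by_contra hno
  push Not at hno
  obtain ⟨h1, h2⟩ := inverts_of_no_fixed (A := Subgroup.centralizer ({z} : Set G)) hx2
    (fun a ha => conj_mem_of_mem_normalizer hx ha) fun a ha e => by
      by_contra ha1
      exact (c.mem_R.1 (c.R_centralizer (c.mem_R_of_mem_centralizer hz ha ha1) e hno.1)).1 hx2
  have hzA : z ∈ Subgroup.centralizer ({z} : Set G) := mem_centralizer_singleton.2 rfl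
  have hxz := h1 z hzA
  have hcomm : (u * x) * z = z * (u * x) := by
    calc (u * x) * z = u * (x * z * x⁻¹) * x := by group
      _ = (u * z * u⁻¹)⁻¹ * (u * x) := by rw [hxz]; group
      _ = z * (u * x) := by rw [huz, inv_inv]
  have hne : u * x ≠ 1 := fun e => hno.2 (by
    rw [← inv_eq_of_mul_eq_one_right e, inv_eq_of_mul_eq_one_right hu])
  refine (c.mem_R.1 (c.R_centralizer hz hcomm hne)).1 ?_
  calc u * x * (u * x) = u * (x * u) * x := by group
    _ = u * (u * x) * x := by rw [hxu]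
    _ = (u * u) * (x * x) := by group
    _ = 1 := by rw [hu, hx2, one_mul]

/-- The part of the normaliser centralising `t`. -/
theorem E_le_K {z : G} (hz : z ∈ c.R) (htz : c.t * z * c.t⁻¹ = z⁻¹) :
    Subgroup.normalizer ((Subgroup.centralizer ({z} : Set G) : Subgroup G) : Set G) ⊓ c.H ≤ c.K := by
  rintro x ⟨hx, hxH⟩
  by_contra hk
  obtain ⟨h1, h2⟩ := c.sq_of_H_notK hxH hk
  rcases c.normalizer_invol hz c.t_ne c.t_sq htz hx (mem_centralizer_singleton.1 hxH) h2 with e | e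
  exacts [h1 e, hk (e ▸ c.t_mem)]

theorem t_mem_E {z : G} (hz : z ∈ c.R) (htz : c.t * z * c.t⁻¹ = z⁻¹) :
    c.t ∈ Subgroup.normalizer ((Subgroup.centralizer ({z} : Set G) : Subgroup G) : Set G) ⊓ c.H :=
  ⟨mem_normalizer_of_conj fun a ha => by
      rw [(c.inverter hz c.t_ne c.t_sq htz).1 a ha]; exact Subgroup.inv_mem _ ha,
    c.K_le c.t_mem⟩

theorem A_inf_K {z : G} (hz : z ∈ c.R) {x : G} (hx : x ∈ Subgroup.centralizer ({z} : Set G))
    (hxK : x ∈ c.K) : x = 1 := by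
  by_contra h
  exact (c.mem_R.1 (c.mem_R_of_mem_centralizer hz hx h)).2 1 (by simpa using hxK)

theorem normalizer_t {z : G} (hz : z ∈ c.R) (htz : c.t * z * c.t⁻¹ = z⁻¹) :
    Subgroup.normalizer ((Subgroup.centralizer ({z} : Set G) : Subgroup G) : Set G) =
      Subgroup.centralizer ({z} : Set G) ⊔
        (Subgroup.normalizer ((Subgroup.centralizer ({z} : Set G) : Subgroup G) : Set G) ⊓ c.H) ∧
    Nat.card (Subgroup.normalizer ((Subgroup.centralizer ({z} : Set G) : Subgroup G) : Set G)) =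
      Nat.card (Subgroup.centralizer ({z} : Set G)) *
        Nat.card ↥(Subgroup.normalizer
          ((Subgroup.centralizer ({z} : Set G) : Subgroup G) : Set G) ⊓ c.H) := by
  set A := Subgroup.centralizer ({z} : Set G) with hA
  set N := Subgroup.normalizer (A : Set G) with hN
  have hsplit : ∀ x ∈ N, ∃ a ∈ A, a⁻¹ * x ∈ N ⊓ c.H := fun x hx => by
    obtain ⟨a, ha, hc⟩ := c.normalizer_split hz c.t_ne c.t_sq htz hx
    exact ⟨a, ha, N.mul_mem (N.inv_mem (Subgroup.le_normalizer ha)) hx,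
      mem_centralizer_singleton.2 hc⟩
  refine ⟨le_antisymm (fun x hx => ?_) (sup_le Subgroup.le_normalizer inf_le_left), ?_⟩
  · obtain ⟨a, ha, h⟩ := hsplit x hx
    have := (A ⊔ (N ⊓ c.H)).mul_mem (Subgroup.mem_sup_left ha) (Subgroup.mem_sup_right h)
    rwa [mul_inv_cancel_left] at this
  · rw [← Nat.card_prod]
    symm
    refine Nat.card_congr (Equiv.ofBijective (fun p => ⟨p.1.1 * p.2.1,
      N.mul_mem (Subgroup.le_normalizer p.1.2) p.2.2.1⟩) ⟨?_, ?_⟩)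
    · rintro ⟨⟨a, ha⟩, ⟨h, hh⟩⟩ ⟨⟨b, hb⟩, ⟨k, hk⟩⟩ e
      have e' : a * h = b * k := congrArg Subtype.val e
      have h1 : b⁻¹ * a = k * h⁻¹ := by
        rw [eq_mul_inv_iff_mul_eq, mul_assoc, e', inv_mul_cancel_left]
      have h2 : b⁻¹ * a = 1 := c.A_inf_K hz (A.mul_mem (A.inv_mem hb) ha) (h1 ▸
        c.E_le_K hz htz ((N ⊓ c.H).mul_mem hk ((N ⊓ c.H).inv_mem hh)))
      have hab : a = b := (inv_mul_eq_one.1 h2).symm
      subst hab
      simp [mul_left_cancel e']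
    · rintro ⟨x, hx⟩
      obtain ⟨a, ha, h⟩ := hsplit x hx
      exact ⟨(⟨a, ha⟩, ⟨_, h⟩), Subtype.ext (mul_inv_cancel_left a x)⟩

/-- An element sharing a prime with an inverted centraliser is conjugate into it. -/
theorem family_prime {z w : G} (hz : z ∈ c.R) (hi : IsInverted z) {p : ℕ} (hp : p.Prime)
    (hpA : p ∣ Nat.card (Subgroup.centralizer ({z} : Set G))) (hpw : p ∣ orderOf w) :
    ∃ g : G, g * w * g⁻¹ ∈ Subgroup.centralizer ({z} : Set G) := by
  haveI : Fact p.Prime := ⟨hp⟩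
  obtain ⟨⟨x, hxA⟩, hx⟩ := exists_prime_orderOf_dvd_card'
    (G := ↥(Subgroup.centralizer ({z} : Set G))) p hpA
  rw [Subgroup.orderOf_mk] at hx
  obtain ⟨P, hP⟩ := (IsPGroup.of_card (p := p) (n := 1)
    (G := ↥(Subgroup.zpowers x)) (by rw [Nat.card_zpowers, hx, pow_one])).exists_le_sylow
  have hx1 : x ≠ 1 := fun e => hp.one_lt.ne' (by rw [← hx, e, orderOf_one])
  haveI : Nontrivial ↥(P : Subgroup G) :=
    ⟨⟨x, hP (Subgroup.mem_zpowers x)⟩, 1, fun e => hx1 (congrArg Subtype.val e)⟩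
  haveI := P.isPGroup'.center_nontrivial
  obtain ⟨⟨v, hvz⟩, hv1⟩ := exists_ne (1 : ↥(Subgroup.center ↥(P : Subgroup G)))
  have hne : (v : G) ≠ 1 := fun e => hv1 (Subtype.ext (Subtype.ext e))
  have hvA : (v : G) ∈ Subgroup.centralizer ({z} : Set G) := by
    rw [← (c.inverted_centralizer hz hi hxA hx1).2, mem_centralizer_singleton]
    exact (congrArg Subtype.val
      (Subgroup.mem_center_iff.1 hvz ⟨x, hP (Subgroup.mem_zpowers x)⟩)).symm
  have hPA : (P : Subgroup G) ≤ Subgroup.centralizer ({z} : Set G) := by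
    rw [← (c.inverted_centralizer hz hi hvA hne).2]
    exact fun a ha => mem_centralizer_singleton.2
      (congrArg Subtype.val (Subgroup.mem_center_iff.1 hvz ⟨a, ha⟩))
  set w' := w ^ (orderOf w / p) with hw'
  have hw'o : orderOf w' = p := orderOf_pow_orderOf_div (orderOf_pos w).ne' hpw
  obtain ⟨P', hP'⟩ := (IsPGroup.of_card (p := p) (n := 1)
    (G := ↥(Subgroup.zpowers w')) (by rw [Nat.card_zpowers, hw'o, pow_one])).exists_le_sylow
  obtain ⟨g, hg⟩ := MulAction.exists_smul_eq G P' P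
  have hmem : g * w' * g⁻¹ ∈ (P : Subgroup G) := by
    rw [← hg, Sylow.coe_subgroup_smul]
    exact ⟨w', hP' (Subgroup.mem_zpowers w'), rfl⟩
  have hne' : g * w' * g⁻¹ ≠ 1 := fun e => hp.one_lt.ne' (by
    rw [← hw'o, conj_eq_one_iff.1 e, orderOf_one])
  refine ⟨g, ?_⟩
  rw [← (c.inverted_centralizer hz hi (hPA hmem) hne').2]
  exact conj_mem_centralizer.2 (mem_centralizer_singleton.2 ((Commute.refl w).pow_right _).eq)

theorem finish_plus {z : G} (hz : z ∈ c.R) (htz : c.t * z * c.t⁻¹ = z⁻¹)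
    (hA : Nat.card (Subgroup.centralizer ({z} : Set G)) = 4 * c.k + 1)
    (hE : Nat.card ↥(Subgroup.normalizer
      ((Subgroup.centralizer ({z} : Set G) : Subgroup G) : Set G) ⊓ c.H) = 2 * c.k)
    (hI : c.nInv = (4 * c.k + 1) * (2 * c.k + 1)) : Concl G := by
  have hi : IsInverted z := ⟨c.t, c.t_ne, c.t_sq, htz⟩
  have hEK : Subgroup.normalizer ((Subgroup.centralizer ({z} : Set G) : Subgroup G) : Set G) ⊓ c.H
      = c.K := Subgroup.eq_of_le_of_card_ge (c.E_le_K hz htz) (by rw [hE, c.card_K])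
  refine ⟨Subgroup.centralizer ({z} : Set G), c.K, ?_, fun x hx hx1 =>
    (c.inverted_centralizer hz hi hx hx1).2, ⟨⟨fun a b => Subtype.ext (c.K_comm a.1 a.2 b.1 b.2)⟩⟩,
    ?_, ?_, ?_, ?_⟩
  · rw [hA, c.card_G, hI, Nat.add_sub_cancel]; ring
  · rw [hA, c.card_K]; ring
  · rw [eq_bot_iff]
    rintro x ⟨h1, h2⟩
    exact Subgroup.mem_bot.2 (c.A_inf_K hz h1 h2)
  · conv_lhs => rw [(c.normalizer_t hz htz).1, hEK]
  · intro X hX hX1
    refine ⟨?_, c.s, orderOf_eq_prime (by rw [pow_two, c.s_sq]) c.s_ne, c.s_notMem, c.inv_s, ?_⟩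
    · rw [c.normalizer_K]
      refine le_antisymm (fun x hx => ?_) fun x hx => mem_normalizer_of_conj fun a ha => ?_
      · obtain ⟨a, ha, ha1⟩ := (Subgroup.bot_or_exists_ne_one X).resolve_left hX1
        exact c.ti x a (hX ha) (hX (conj_mem_of_mem_normalizer hx ha)) ha1
      · rcases c.conj_K hx (hX ha) with ⟨e, -⟩ | ⟨e, -⟩ <;> rw [e]
        exacts [ha, X.inv_mem ha]
    · rw [c.normalizer_K]; exact c.H_eq.symm

end Ctx

end Cfsg.Lib.BSW
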