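import Cfsg.Agent.Lib.BSW.Large
import Mathlib.GroupTheory.SchurZassenhaus
import Mathlib.GroupTheory.Nilpotent

/-!
# Brauer–Suzuki–Wall: the two cases
-/

set_option autoImplicit false
set_option linter.unusedSectionVars false
set_option linter.style.haveILetI false

namespace Cfsg.Lib.BSW

open Cfsg

universe u

namespace Ctx

variable {G : Type u} [Group G] (c : Ctx G) [Fintype G] [DecidableEq G] {q l : ℕ} {δ : ℤ}

theorem sing_eq_of_sum {m : ℕ} (hm : 0 < m)
    (hc : ∀ z ∈ c.sing m, Nat.card (Subgroup.centralizer ({z} : Set G)) ∣ m)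
    (hs : (∑ z ∈ c.sing m, (c.n z : ℤ)) = ((c.sing m).card : ℤ) * m) :
    ∀ z ∈ c.sing m, IsInverted z ∧ Nat.card (Subgroup.centralizer ({z} : Set G)) = m := by
  have hle : ∀ z ∈ c.sing m, c.n z ≤ m := fun z hz =>
    (c.n_le (c.mem_sing.1 hz).1).1.trans (Nat.le_of_dvd hm (hc z hz))
  have hs' : ∑ z ∈ c.sing m, c.n z = ∑ _z ∈ c.sing m, m := by
    rw [Finset.sum_const, smul_eq_mul]; exact_mod_cast hs
  intro z hz
  have he := (Finset.sum_eq_sum_iff_of_le hle).1 hs' z hz
  obtain ⟨h1, h2, h3⟩ := c.n_le (c.mem_sing.1 hz).1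
  have hi : IsInverted z := not_not.1 fun h => hm.ne' (he ▸ (h2.2 h))
  exact ⟨hi, (h3 hi).symm.trans he⟩

theorem sing_iff_family {m : ℕ} {z : G} (hm : 1 < m) (hz : z ∈ c.R) (hi : IsInverted z)
    (hA : Nat.card (Subgroup.centralizer ({z} : Set G)) = m) (w : G) :
    w ∈ c.sing m ↔ w ≠ 1 ∧ ∃ g : G, g * w * g⁻¹ ∈ Subgroup.centralizer ({z} : Set G) := by
  constructor
  · intro hw
    obtain ⟨hwR, hw2⟩ := c.mem_sing.1 hw
    obtain ⟨p, hp, hpw, hpm⟩ := Nat.Prime.not_coprime_iff_dvd.1 hw2
    exact ⟨c.R_ne_one hwR, c.family_prime hz hi hp (hA ▸ hpm) hpw⟩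
  · rintro ⟨hw1, g, hg⟩
    have hmem : g * w * g⁻¹ ∈ c.sing m := by
      refine c.mem_sing.2 ⟨c.mem_R_of_mem_centralizer hz hg fun e => hw1 (conj_eq_one_iff.1 e), ?_⟩
      have hdvd : orderOf (g * w * g⁻¹) ∣ m := by
        rw [← hA, ← Nat.card_zpowers]
        exact Subgroup.card_dvd_of_le (Subgroup.zpowers_le.2 hg)
      intro hco
      exact hw1 (conj_eq_one_iff.1 (orderOf_eq_one_iff.1 (Nat.Coprime.eq_one_of_dvd hco hdvd)))
    have := c.sing_conj hmem g⁻¹
    simpa [mul_assoc] using this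

theorem card_sing_family {m : ℕ} {z : G} (hm : 1 < m) (hz : z ∈ c.R) (hi : IsInverted z)
    (hA : Nat.card (Subgroup.centralizer ({z} : Set G)) = m) :
    (c.sing m).card = (Subgroup.normalizer
      ((Subgroup.centralizer ({z} : Set G) : Subgroup G) : Set G)).index * (m - 1) := by
  rw [← hA]
  exact card_conj_centralizer (fun a ha ha1 => (c.inverted_centralizer hz hi ha ha1).2) _
    (fun w => by rw [hA]; exact c.sing_iff_family hm hz hi hA w)

theorem case_plus (hk : 0 < c.k) (d : c.Data q l δ) (hδ : δ = 1) : Concl G := by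
  subst hδ
  have hq : q = 4 * c.k + 1 := by have := d.hq; omega
  have hl : l = 2 * c.k + 1 := by have := d.hl; omega
  have hI : c.nInv = (4 * c.k + 1) * (2 * c.k + 1) := by rw [d.hI, hq, hl]
  have hs : (∑ z ∈ c.sing q, (c.n z : ℤ)) = ((c.sing q).card : ℤ) * q := by
    rw [d.sq, d.nq, hI, hq]; push_cast; ring
  have hall := c.sing_eq_of_sum (by omega) d.cq hs
  have hne : (c.sing q).Nonempty := by
    rw [← Finset.card_pos]
    have h := d.nq
    have : (5 : ℤ) ≤ q := by omega
    have : (0 : ℤ) < (c.sing q).card := by nlinarith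
    exact_mod_cast this
  obtain ⟨z0, hz0⟩ := hne
  obtain ⟨g, hg⟩ := c.exists_tInverted (hall z0 hz0).1
  set z := g * z0 * g⁻¹ with hzdef
  have hz : z ∈ c.sing q := c.sing_conj hz0 g
  obtain ⟨hi, hA⟩ := hall z hz
  have hzR := (c.mem_sing.1 hz).1
  have hcard := c.card_sing_family (by omega) hzR hi hA
  set N := Subgroup.normalizer ((Subgroup.centralizer ({z} : Set G) : Subgroup G) : Set G)
  have hidx : N.index = q + 1 := by
    have h := d.nq
    rw [hcard, Nat.cast_mul, Nat.cast_sub (by omega)] at h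
    have h2 : ((N.index : ℤ) - (q + 1)) * ((q : ℤ) - 1) = 0 := by
      push_cast at h; linear_combination h
    rcases mul_eq_zero.1 h2 with h3 | h3 <;> omega
  have hN := (c.normalizer_t hzR hg).2
  rw [hA] at hN
  refine c.finish_plus hzR hg (hA.trans hq) ?_ hI
  have h3 := N.index_mul_card
  rw [hidx, hN, c.card_G, hI, hq] at h3
  refine Nat.eq_of_mul_eq_mul_left (show 0 < (4 * c.k + 1 + 1) * (4 * c.k + 1) by positivity) ?_
  rw [mul_assoc, h3]; ring

end Ctx

/-- Odd order elements with a good centraliser. -/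
def Good {G : Type u} [Group G] (y : G) : Prop :=
  (∀ a ∈ Subgroup.centralizer ({y} : Set G), ∀ b ∈ Subgroup.centralizer ({y} : Set G),
      a * b = b * a) ∧
    ∀ x ∈ Subgroup.normalizer ((Subgroup.centralizer ({y} : Set G) : Subgroup G) : Set G),
      x ∈ Subgroup.centralizer ({y} : Set G) ∨ x * x = 1

theorem good_conj {G : Type u} [Group G] [Fintype G] [DecidableEq G] {y : G} (h : Good y) (g : G) :
    Good (g * y * g⁻¹) := by
  have hb : ∀ a, a ∈ Subgroup.centralizer ({g * y * g⁻¹} : Set G) ↔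
      g⁻¹ * a * g ∈ Subgroup.centralizer ({y} : Set G) := fun a => by
    rw [← conj_mem_centralizer (g := g) (x := g⁻¹ * a * g)]
    simp [mul_assoc]
  refine ⟨fun a ha b hb' => ?_, fun x hx => ?_⟩
  · have := h.1 _ ((hb a).1 ha) _ ((hb b).1 hb')
    calc a * b = g * (g⁻¹ * a * g * (g⁻¹ * b * g)) * g⁻¹ := by group
      _ = b * a := by rw [this]; group
  · have hx' : g⁻¹ * x * g ∈
        Subgroup.normalizer ((Subgroup.centralizer ({y} : Set G) : Subgroup G) : Set G) := by
      refine mem_normalizer_of_conj fun a ha => ?_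
      have h1 := (hb _).1 (conj_mem_of_mem_normalizer hx ((conj_mem_centralizer (g := g)).2 ha))
      rw [show g⁻¹ * x * g * a * (g⁻¹ * x * g)⁻¹ = g⁻¹ * (x * (g * a * g⁻¹) * x⁻¹) * g by group]
      exact h1
    rcases h.2 _ hx' with h' | h'
    · exact Or.inl ((hb x).2 h')
    · refine Or.inr ((Ctx.conj_sq_iff g⁻¹ x).1 ?_)
      rwa [inv_inv]

namespace Ctx

variable {G : Type u} [Group G] (c : Ctx G) [Fintype G] [DecidableEq G] {q l : ℕ} {δ : ℤ}

theorem good_K {y : G} (hy : y ∈ c.K) (hy2 : y * y ≠ 1) : Good y := by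
  have hc := c.centralizer_K hy hy2
  refine ⟨fun a ha b hb => c.K_comm a (hc ▸ ha) b (hc ▸ hb), fun x hx => ?_⟩
  rw [hc, c.normalizer_K] at hx
  rw [hc]
  by_cases hk : x ∈ c.K
  exacts [Or.inl hk, Or.inr (c.sq_of_H_notK hx hk).2]

/-- The normaliser of an inverted centraliser of index two. -/
theorem normalizer_two {y u : G} (hy : y ∈ c.R) (hu1 : u ≠ 1) (hu : u * u = 1)
    (huy : u * y * u⁻¹ = y⁻¹)
    (hN : Nat.card (Subgroup.normalizer ((Subgroup.centralizer ({y} : Set G) : Subgroup G) : Set G))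
      = 2 * Nat.card (Subgroup.centralizer ({y} : Set G))) :
    (∀ x ∈ Subgroup.normalizer ((Subgroup.centralizer ({y} : Set G) : Subgroup G) : Set G),
      x ∈ Subgroup.centralizer ({y} : Set G) ∨ x * x = 1) ∧
    Subgroup.normalizer ((Subgroup.centralizer ({y} : Set G) : Subgroup G) : Set G) =
      Subgroup.centralizer ({y} : Set G) ⊔ Subgroup.zpowers u ∧
    u ∉ Subgroup.centralizer ({y} : Set G) := by
  obtain ⟨hinv, -⟩ := c.inverter hy hu1 hu huy
  set A := Subgroup.centralizer ({y} : Set G) with hA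
  have huN : u ∈ Subgroup.normalizer (A : Set G) :=
    mem_normalizer_of_conj fun a ha => by rw [hinv a ha]; exact A.inv_mem ha
  have huA : u ∉ A := fun h => (c.mem_R.1 (c.mem_R_of_mem_centralizer hy h hu1)).1 hu
  have hbij : Function.Bijective (Sum.elim
      (fun a : ↥A => (⟨a.1, Subgroup.le_normalizer a.2⟩ : ↥(Subgroup.normalizer (A : Set G))))
      (fun a : ↥A => ⟨u * a.1, (Subgroup.normalizer _).mul_mem huN (Subgroup.le_normalizer a.2)⟩)) := by
    rw [Nat.bijective_iff_injective_and_card]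
    refine ⟨?_, by rw [Nat.card_sum, hN, two_mul]⟩
    rintro (⟨a, ha⟩ | ⟨a, ha⟩) (⟨b, hb⟩ | ⟨b, hb⟩) e <;>
      simp only [Sum.elim_inl, Sum.elim_inr, Subtype.mk.injEq] at e
    · simp [e]
    · exact absurd (by rw [eq_mul_inv_of_mul_eq e.symm]; exact A.mul_mem ha (A.inv_mem hb)) huA
    · exact absurd (by rw [eq_mul_inv_of_mul_eq e]; exact A.mul_mem hb (A.inv_mem ha)) huA
    · simp [mul_left_cancel e]
  refine ⟨fun x hx => ?_, le_antisymm (fun x hx => ?_) (sup_le Subgroup.le_normalizer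
    (Subgroup.zpowers_le.2 huN)), huA⟩ <;>
    obtain ⟨s, hs⟩ := hbij.2 ⟨x, hx⟩ <;> rcases s with a | a <;>
    simp only [Sum.elim_inl, Sum.elim_inr, Subtype.mk.injEq] at hs <;> subst hs
  · exact Or.inl a.2
  · refine Or.inr ?_
    rw [show u * a.1 * (u * a.1) = u * a.1 * u⁻¹ * a.1 by
      rw [inv_eq_of_mul_eq_one_right hu]; group, hinv a.1 a.2, inv_mul_cancel]
  · exact Subgroup.mem_sup_left a.2
  · exact (A ⊔ Subgroup.zpowers u).mul_mem (Subgroup.mem_sup_right (Subgroup.mem_zpowers u))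
      (Subgroup.mem_sup_left a.2)

theorem case_minus (hk : 3 ≤ c.k) (d : c.Data q l δ) (hδ : δ = -1) : Concl G := by
  classical
  subst hδ
  have hq : q + 1 = 4 * c.k := by have := d.hq; omega
  have hl : l + 1 = 2 * c.k := by have := d.hl; omega
  have hqI : (q : ℤ) * l = c.nInv := by rw [d.hI]; push_cast; rfl
  have hg : Nat.card G = q * (4 * c.k * l) := by rw [c.card_G, d.hI]; ring
  have h2kq : Nat.Coprime (2 * c.k) q :=
    (d.hI ▸ c.coprime_two_k_nInv).coprime_dvd_right (dvd_mul_right q l)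
  have h2kl : Nat.Coprime (2 * c.k) l :=
    (d.hI ▸ c.coprime_two_k_nInv).coprime_dvd_right (dvd_mul_left l q)
  have hql : Nat.Coprime q l := by
    rw [show q = 1 + l * 2 by omega]
    simp
  -- the `l`-part
  have hLall := c.sing_eq_of_sum (by omega) d.cl (by
    rw [d.sl, d.nl, ← hqI, d.hl, d.hq]; ring)
  have hLnorm : ∀ y ∈ c.sing l, Nat.card (Subgroup.normalizer
      ((Subgroup.centralizer ({y} : Set G) : Subgroup G) : Set G)) = 2 * l := by
    intro y hy
    obtain ⟨hi, hA⟩ := hLall y hy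
    have hcard := c.card_sing_family (by omega) (c.mem_sing.1 hy).1 hi hA
    set N := Subgroup.normalizer ((Subgroup.centralizer ({y} : Set G) : Subgroup G) : Set G)
    have h := d.nl
    rw [hcard, Nat.cast_mul, Nat.cast_sub (by omega), ← hqI] at h
    have h2 : ((N.index : ℤ) - 2 * c.k * q) * ((l : ℤ) - 1) = 0 := by
      push_cast at h
      have hl' : (l : ℤ) = 2 * c.k - 1 := by omega
      rw [hl'] at h ⊢
      linear_combination h
    have hidx : N.index = 2 * c.k * q := by
      rcases mul_eq_zero.1 h2 with h3 | h3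
      · have : (N.index : ℤ) = ((2 * c.k * q : ℕ) : ℤ) := by push_cast; linarith
        exact_mod_cast this
      · omega
    have h3 := N.index_mul_card
    rw [hidx, hg] at h3
    refine Nat.eq_of_mul_eq_mul_left (show 0 < 2 * c.k * q by
      have : 0 < q := by omega
      positivity) ?_
    rw [h3]; ring
  have hgoodL : ∀ y ∈ c.sing l, Good y := by
    intro y hy
    obtain ⟨⟨u, hu1, hu, huy⟩, hA⟩ := hLall y hy
    exact ⟨(c.inverter (c.mem_sing.1 hy).1 hu1 hu huy).2,
      (c.normalizer_two (c.mem_sing.1 hy).1 hu1 hu huy (by rw [hLnorm y hy, hA])).1⟩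
  -- the `q`-part
  have hQni : ∀ z ∈ c.sing q, ¬ IsInverted z := by
    intro z hz
    have h : (∑ w ∈ c.sing q, c.n w) = 0 := by
      have := d.sq
      norm_num at this
      exact_mod_cast this
    exact (c.n_le (c.mem_sing.1 hz).1).2.1.1 (Finset.sum_eq_zero_iff.1 h z hz)
  have hQinv : ∀ z ∈ c.sing q, z⁻¹ ∈ c.sing q := fun z hz => c.mem_sing.2
    ⟨c.R_inv (c.mem_sing.1 hz).1, by rw [orderOf_inv]; exact (c.mem_sing.1 hz).2⟩
  have hQne : (c.sing q).Nonempty := by
    rw [← Finset.card_pos]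
    have h := d.nq
    have : (3 : ℤ) ≤ q := by omega
    have : (0 : ℤ) < (c.sing q).card := by nlinarith
    exact_mod_cast this
  obtain ⟨z, hz⟩ := hQne
  have hclass : ∀ w ∈ c.sing q, (Cfsg.Lib.Char.classFinset w).card *
      Nat.card (Subgroup.centralizer ({w} : Set G)) = Nat.card G ∧
      Cfsg.Lib.Char.classFinset w ⊆ c.sing q := by
    intro w hw
    refine ⟨by rw [Cfsg.Lib.Char.card_classFinset, Subgroup.index_mul_card], fun x hx => ?_⟩
    obtain ⟨g, rfl⟩ := isConj_iff.1 (Cfsg.Lib.Char.mem_classFinset.1 hx)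
    exact c.sing_conj hw g
  have hdisj : Disjoint (Cfsg.Lib.Char.classFinset z) (Cfsg.Lib.Char.classFinset z⁻¹) := by
    rw [Finset.disjoint_left]
    intro x hx hx'
    obtain ⟨g, hgx⟩ := isConj_iff.1 ((Cfsg.Lib.Char.mem_classFinset.1 hx).trans
      (Cfsg.Lib.Char.mem_classFinset.1 hx').symm)
    exact hQni z hz (c.inverted_of_conj_inv (c.mem_sing.1 hz).1 hgx)
  have hlow : ∀ w ∈ c.sing q, 4 * c.k * l ≤ (Cfsg.Lib.Char.classFinset w).card ∧
      ((Cfsg.Lib.Char.classFinset w).card ≤ 4 * c.k * l →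
        Nat.card (Subgroup.centralizer ({w} : Set G)) = q) := by
    intro w hw
    have h1 := (hclass w hw).1
    have h2 : Nat.card (Subgroup.centralizer ({w} : Set G)) ≤ q :=
      Nat.le_of_dvd (by omega) (d.cq w hw)
    rw [hg] at h1
    refine ⟨?_, fun h => le_antisymm h2 ?_⟩
    · refine Nat.le_of_mul_le_mul_left ?_ (show 0 < q by omega)
      rw [← h1, mul_comm q]
      exact Nat.mul_le_mul_left _ h2
    · refine Nat.le_of_mul_le_mul_left ?_ (show 0 < 4 * c.k * l by
        have : 0 < l := by omega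
        positivity)
      calc 4 * c.k * l * q = (Cfsg.Lib.Char.classFinset w).card *
            Nat.card (Subgroup.centralizer ({w} : Set G)) := by rw [h1]; ring
        _ ≤ _ := Nat.mul_le_mul_right _ h
  have hnq : (c.sing q).card = 2 * (4 * c.k * l) := by
    have h := d.nq
    rw [d.hq] at h
    have h2 : ((c.sing q).card : ℤ) = ((2 * (4 * c.k * l) : ℕ) : ℤ) := by
      push_cast; rw [h, d.hl]; ring
    exact_mod_cast h2
  have hunion : Cfsg.Lib.Char.classFinset z ∪ Cfsg.Lib.Char.classFinset z⁻¹ = c.sing q := by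
    refine Finset.eq_of_subset_of_card_le
      (Finset.union_subset (hclass z hz).2 (hclass _ (hQinv z hz)).2) ?_
    rw [Finset.card_union_of_disjoint hdisj, hnq]
    have := (hlow z hz).1
    have := (hlow _ (hQinv z hz)).1
    omega
  have hzc : Nat.card (Subgroup.centralizer ({z} : Set G)) = q := by
    refine (hlow z hz).2 ?_
    have h := congrArg Finset.card hunion
    rw [Finset.card_union_of_disjoint hdisj, hnq] at h
    have := (hlow _ (hQinv z hz)).1
    omega
  have hQall : ∀ w ∈ c.sing q, orderOf w = orderOf z ∧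
      Nat.card (Subgroup.centralizer ({w} : Set G)) = q := by
    intro w hw
    rw [← hunion, Finset.mem_union] at hw
    have hcinv : Subgroup.centralizer ({z⁻¹} : Set G) = Subgroup.centralizer ({z} : Set G) := by
      ext a; simp only [mem_centralizer_singleton]; exact Commute.inv_right_iff
    rcases hw with hw | hw <;>
      obtain ⟨g, rfl⟩ := isConj_iff.1 (Cfsg.Lib.Char.mem_classFinset.1 hw) <;>
      refine ⟨?_, ?_⟩
    · exact orderOf_injective (MulAut.conj g).toMonoidHom (MulAut.conj g).injective z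
    · rw [card_centralizer_conj, hzc]
    · rw [← orderOf_inv z]
      exact orderOf_injective (MulAut.conj g).toMonoidHom (MulAut.conj g).injective z⁻¹
    · rw [card_centralizer_conj, hcinv, hzc]
  set p := q.minFac with hpdef
  have hp : p.Prime := Nat.minFac_prime (by omega)
  haveI : Fact p.Prime := ⟨hp⟩
  have hq2k : ∀ r : ℕ, r.Prime → r ∣ q → ∀ x : G, orderOf x = r → x ∈ c.sing q := by
    intro r hr hrq x hx
    refine c.mem_sing.2 ⟨c.mem_R.2 ⟨fun h => ?_, fun g hgx => ?_⟩, ?_⟩
    · have h2 : r ∣ 2 := by rw [← hx]; exact orderOf_dvd_of_pow_eq_one (by rw [pow_two, h])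
      exact Nat.Prime.not_coprime_iff_dvd.2 ⟨r, hr, h2.trans (dvd_mul_right 2 _), hrq⟩ h2kq
    · have h2 : r ∣ 2 * c.k := by
        rw [← c.card_K, ← hx, show orderOf x = orderOf (g * x * g⁻¹) from
          (orderOf_injective (MulAut.conj g).toMonoidHom (MulAut.conj g).injective x).symm,
          ← Nat.card_zpowers]
        exact Subgroup.card_dvd_of_le (Subgroup.zpowers_le.2 hgx)
      exact Nat.Prime.not_coprime_iff_dvd.2 ⟨r, hr, h2, hrq⟩ h2kq
    · rw [hx, Nat.Prime.not_coprime_iff_dvd]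
      exact ⟨r, hr, dvd_rfl, hrq⟩
  have hord : ∀ r : ℕ, r.Prime → r ∣ q → orderOf z = r := by
    intro r hr hrq
    haveI : Fact r.Prime := ⟨hr⟩
    obtain ⟨x, hx⟩ := exists_prime_orderOf_dvd_card' (G := G) r (hg ▸ hrq.mul_right _)
    rw [← (hQall x (hq2k r hr hrq x hx)).1, hx]
  obtain ⟨f, hf⟩ : ∃ f : ℕ, q = p ^ f :=
    ⟨_, Nat.eq_prime_pow_of_unique_prime_dvd (by omega) fun {r} hr hrq =>
      (hord r hr hrq).symm.trans (hord p hp (Nat.minFac_dvd q))⟩
  have hpq : p ∣ q := Nat.minFac_dvd q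
  have hpnot : ¬ p ∣ 4 * c.k * l := by
    intro h
    rcases hp.dvd_mul.1 h with h | h
    · rw [show 4 * c.k = 2 * (2 * c.k) by ring] at h
      rcases hp.dvd_mul.1 h with h | h
      · exact Nat.Prime.not_coprime_iff_dvd.2 ⟨p, hp, h.trans (dvd_mul_right 2 _), hpq⟩ h2kq
      · exact Nat.Prime.not_coprime_iff_dvd.2 ⟨p, hp, h, hpq⟩ h2kq
    · exact Nat.Prime.not_coprime_iff_dvd.2 ⟨p, hp, hpq, h⟩ hql
  have hpcard : (Nat.card G).factorization p = f := by
    rw [hg, Nat.factorization_mul (a := q) (b := 4 * c.k * l) (by omega)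
        (fun e => hpnot (by rw [e]; exact dvd_zero p)), Finsupp.add_apply,
      hf, hp.factorization_pow, Finsupp.single_eq_same, Nat.factorization_eq_zero_of_not_dvd hpnot,
      add_zero]
  have hsyl : ∀ P : Sylow p G, Nat.card (P : Subgroup G) = q := fun P => by
    rw [P.card_eq_multiplicity, hpcard, ← hf]
  -- every element is `1`, of order `p`, or prime to `p`
  have hcases : ∀ y : G, p ∣ orderOf y → y ∈ c.sing q := by
    intro y hy
    refine c.mem_sing.2 ⟨c.mem_R.2 ⟨fun h => ?_, fun g hgy => ?_⟩, ?_⟩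
    · have h2 : p ∣ 2 := hy.trans (orderOf_dvd_of_pow_eq_one (by rw [pow_two, h]))
      exact Nat.Prime.not_coprime_iff_dvd.2 ⟨p, hp, h2.trans (dvd_mul_right 2 _), hpq⟩ h2kq
    · have h2 : p ∣ 2 * c.k := hy.trans (by
        rw [← c.card_K, show orderOf y = orderOf (g * y * g⁻¹) from
          (orderOf_injective (MulAut.conj g).toMonoidHom (MulAut.conj g).injective y).symm,
          ← Nat.card_zpowers]
        exact Subgroup.card_dvd_of_le (Subgroup.zpowers_le.2 hgy))
      exact Nat.Prime.not_coprime_iff_dvd.2 ⟨p, hp, h2, hpq⟩ h2kq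
    · exact Nat.Prime.not_coprime_iff_dvd.2 ⟨p, hp, hy, hpq⟩
  have hgood : ∀ y : G, y * y ≠ 1 → ¬ p ∣ orderOf y → Good y ∧
      ¬ p ∣ Nat.card (Subgroup.centralizer ({y} : Set G)) := by
    intro y hy2 hyp
    by_cases hK : ∃ g : G, g * y * g⁻¹ ∈ c.K
    · obtain ⟨g, hgy⟩ := hK
      have h2 : g * y * g⁻¹ * (g * y * g⁻¹) ≠ 1 := fun h => hy2 ((conj_sq_iff g y).1 h)
      refine ⟨?_, ?_⟩
      · have := good_conj (c.good_K hgy h2) g⁻¹
        rwa [show g⁻¹ * (g * y * g⁻¹) * g⁻¹⁻¹ = y by group] at this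
      · rw [← card_centralizer_conj y g, c.centralizer_K hgy h2, c.card_K]
        exact fun h => Nat.Prime.not_coprime_iff_dvd.2 ⟨p, hp, h, hpq⟩ h2kq
    · have hyR : y ∈ c.R := c.mem_R.2 ⟨hy2, not_exists.1 hK⟩
      have hnq' : y ∉ c.sing q := by
        intro h
        obtain ⟨r, hr, hry, hrq⟩ := Nat.Prime.not_coprime_iff_dvd.1 (c.mem_sing.1 h).2
        rw [hf] at hrq
        have := (Nat.prime_dvd_prime_iff_eq hr hp).1 (hr.dvd_of_dvd_pow hrq)
        exact hyp (this ▸ hry)
      have hyL : y ∈ c.sing l := not_not.1 fun h => hnq' ((d.split y hyR).2 h)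
      refine ⟨hgoodL y hyL, ?_⟩
      rw [(hLall y hyL).2]
      exact fun h => Nat.Prime.not_coprime_iff_dvd.2 ⟨p, hp, hpq, h⟩ hql
  -- covering of odd subgroups by good centralisers
  have hcover : ∀ N : Subgroup G, Odd (Nat.card N) → ∀ y : ↥N, y ≠ 1 → ¬ p ∣ orderOf y →
      Nat.card (Finset.univ.filter fun x : ↥N => ¬ (x ≠ 1 ∧ ¬ p ∣ orderOf x) : Finset ↥N) =
        (Subgroup.centralizer ({y} : Set ↥N)).index ∧
      ¬ p ∣ Nat.card (Subgroup.centralizer ({y} : Set ↥N)) ∧
      ∀ x : ↥N, x ≠ 1 → ¬ p ∣ orderOf x → ∃ g : ↥N,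
        g * x * g⁻¹ ∈ Subgroup.centralizer ({y} : Set ↥N) := by
    intro N hodd y hy1 hyp
    set S := Finset.univ.filter fun x : ↥N => x ≠ 1 ∧ ¬ p ∣ orderOf x with hS
    have hmem : ∀ x : ↥N, x ∈ S ↔ x ≠ 1 ∧ ¬ p ∣ orderOf x := fun x => by simp [S]
    have hodd2 : ∀ x : ↥N, (x : G) * x = 1 → x = 1 := by
      intro x hx
      have h2 : orderOf x ∣ 2 :=
        orderOf_dvd_of_pow_eq_one (by rw [pow_two]; exact Subtype.ext hx)
      rcases (Nat.dvd_prime Nat.prime_two).1 h2 with h | h
      · exact orderOf_eq_one_iff.1 h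
      · have := hodd.of_dvd_nat (orderOf_dvd_natCard x)
        rw [h] at this
        exact absurd this (by decide)
    have hG' : ∀ x : ↥N, x ∈ S → Good (x : G) ∧
        ¬ p ∣ Nat.card (Subgroup.centralizer ({(x : G)} : Set G)) := by
      intro x hx
      refine hgood _ (fun h => ((hmem x).1 hx).1 (hodd2 x h)) ?_
      rw [Subgroup.orderOf_coe]
      exact ((hmem x).1 hx).2
    have hcent : ∀ x a : ↥N, a ∈ Subgroup.centralizer ({x} : Set ↥N) →
        (a : G) ∈ Subgroup.centralizer ({(x : G)} : Set G) := fun x a ha =>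
      mem_centralizer_singleton.2 (congrArg Subtype.val (mem_centralizer_singleton.1 ha))
    have hpC : ∀ x : ↥N, x ∈ S → ∀ a ∈ Subgroup.centralizer ({x} : Set ↥N), ¬ p ∣ orderOf a := by
      intro x hx a ha h
      refine (hG' x hx).2 (h.trans ?_)
      rw [← Subgroup.orderOf_coe, ← Nat.card_zpowers]
      exact Subgroup.card_dvd_of_le (Subgroup.zpowers_le.2 (hcent x a ha))
    obtain ⟨h1, h2⟩ := malnormal_cover S (by simp [hmem]) (fun x hx g => by
        rw [hmem] at hx ⊢
        refine ⟨fun e => hx.1 (conj_eq_one_iff.1 e), ?_⟩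
        rw [show g * x * g⁻¹ = (MulAut.conj g).toMonoidHom x from rfl,
          orderOf_injective _ (MulAut.conj g).injective]
        exact hx.2)
      (fun x hx a ha b hb => Subtype.ext ((hG' x hx).1.1 _ (hcent x a ha) _ (hcent x b hb)))
      (fun x hx a ha ha1 => (hmem a).2 ⟨ha1, hpC x hx a ha⟩)
      (fun x hx g hg' => by
        have hgx : g * x * g⁻¹ ∈ Subgroup.centralizer ({x} : Set ↥N) :=
          conj_mem_of_mem_normalizer hg' (mem_centralizer_singleton.2 rfl)
        have hgS : g * x * g⁻¹ ∈ S :=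
          (hmem _).2 ⟨fun e => ((hmem x).1 hx).1 (conj_eq_one_iff.1 e), hpC x hx _ hgx⟩
        have e := centralizer_eq_of_abelian (hG' x hx).1.1 (hG' _ hgS).1.1 (hcent x _ hgx)
        have hn : (g : G) ∈ Subgroup.normalizer
            ((Subgroup.centralizer ({(x : G)} : Set G) : Subgroup G) : Set G) := by
          refine mem_normalizer_of_conj fun a ha => ?_
          rw [← e]
          push_cast
          exact conj_mem_centralizer.2 ha
        rcases (hG' x hx).1.2 _ hn with h | h
        · exact mem_centralizer_singleton.2 (Subtype.ext (mem_centralizer_singleton.1 h))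
        · rw [hodd2 g h]; exact Subgroup.one_mem _)
      ((hmem y).2 ⟨hy1, hyp⟩)
    refine ⟨?_, ?_, fun x hx hxp => h2 x ((hmem x).2 ⟨hx, hxp⟩)⟩
    · rw [Nat.card_eq_finsetCard]
      have h3 := Finset.card_filter_add_card_filter_not (s := (Finset.univ : Finset ↥N))
        (fun x : ↥N => x ≠ 1 ∧ ¬ p ∣ orderOf x)
      rw [Finset.card_univ, ← Nat.card_eq_fintype_card, ← hS] at h3
      omega
    · intro h
      obtain ⟨⟨a, ha⟩, hao⟩ := exists_prime_orderOf_dvd_card'
        (G := ↥(Subgroup.centralizer ({y} : Set ↥N))) p h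
      rw [Subgroup.orderOf_mk] at hao
      exact hpC y ((hmem y).2 ⟨hy1, hyp⟩) a ha (hao.symm ▸ dvd_rfl)
  -- odd local subgroups have one Sylow subgroup
  have hlocal : ∀ N : Subgroup G, Odd (Nat.card N) →
      ∃ P : Sylow p G, ∀ x ∈ N, orderOf x = p → x ∈ (P : Subgroup G) := by
    intro N hodd
    obtain ⟨S0⟩ := (inferInstance : Nonempty (Sylow p ↥N))
    have hsub : ∀ x : ↥N, x ∈ (S0 : Subgroup ↥N) → ¬ (x ≠ 1 ∧ ¬ p ∣ orderOf x) := by
      rintro x hx ⟨h1, h2⟩
      obtain ⟨n, hn⟩ := (IsPGroup.iff_orderOf).1 S0.isPGroup' ⟨x, hx⟩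
      rw [Subgroup.orderOf_mk] at hn
      rcases n with _ | n
      · exact h1 (orderOf_eq_one_iff.1 (by rw [hn, pow_zero]))
      · exact h2 (hn ▸ dvd_pow_self p (by omega))
    have hall : ∀ x : ↥N, orderOf x = p → x ∈ (S0 : Subgroup ↥N) := by
      intro x hx
      by_cases hS : ∃ y : ↥N, y ≠ 1 ∧ ¬ p ∣ orderOf y
      · obtain ⟨y, hy1, hyp⟩ := hS
        obtain ⟨h1, h2, h3⟩ := hcover N hodd y hy1 hyp
        set B := Subgroup.centralizer ({y} : Set ↥N)
        have hidx : ∀ r : ℕ, r.Prime → r ∣ B.index → r = p := by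
          intro r hr hrB
          by_contra hrp
          haveI : Fact r.Prime := ⟨hr⟩
          obtain ⟨R⟩ := (inferInstance : Nonempty (Sylow r ↥N))
          have hRne : Nontrivial ↥(R : Subgroup ↥N) := by
            rw [← Finite.one_lt_card_iff_nontrivial]
            refine hr.one_lt.trans_le (Nat.le_of_dvd Nat.card_pos ?_)
            have := R.pow_dvd_card_of_pow_dvd_card (n := 1)
              (by rw [pow_one]; exact hrB.trans (Subgroup.index_dvd_card B))
            rwa [pow_one] at this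
          haveI := R.isPGroup'.center_nontrivial
          obtain ⟨⟨v, hvz⟩, hv1⟩ := exists_ne (1 : ↥(Subgroup.center ↥(R : Subgroup ↥N)))
          have hne : (v : ↥N) ≠ 1 := fun e => hv1 (Subtype.ext (Subtype.ext e))
          have hvp : ¬ p ∣ orderOf (v : ↥N) := by
            obtain ⟨n, hn⟩ := (IsPGroup.iff_orderOf).1 R.isPGroup' v
            rw [Subgroup.orderOf_coe, hn]
            exact fun h => hrp ((Nat.prime_dvd_prime_iff_eq hp hr).1 (hp.dvd_of_dvd_pow h)).symm
          obtain ⟨g, hgv⟩ := h3 (v : ↥N) hne hvp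
          obtain ⟨e1, e2, -⟩ := hcover N hodd (g * v * g⁻¹)
            (fun e => hne (conj_eq_one_iff.1 e)) (by
              rw [show g * (v : ↥N) * g⁻¹ = (MulAut.conj g).toMonoidHom v from rfl,
                orderOf_injective _ (MulAut.conj g).injective]
              exact hvp)
          have hle : (R : Subgroup ↥N) ≤ Subgroup.centralizer ({(v : ↥N)} : Set ↥N) :=
            fun a ha => mem_centralizer_singleton.2
              (congrArg Subtype.val (Subgroup.mem_center_iff.1 hvz ⟨a, ha⟩))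
          have hdvd : Nat.card (R : Subgroup ↥N) ∣ Nat.card B := by
            have h4 := Subgroup.card_dvd_of_le hle
            rw [← card_centralizer_conj (v : ↥N) g] at h4
            have h5 := B.index_mul_card
            have h6 := (Subgroup.centralizer ({g * (v : ↥N) * g⁻¹} : Set ↥N)).index_mul_card
            rw [← e1, h1, ← h5] at h6
            rwa [Nat.eq_of_mul_eq_mul_left (Nat.pos_of_ne_zero Subgroup.index_ne_zero_of_finite) h6] at h4
          obtain ⟨e, he⟩ := hdvd
          refine R.not_dvd_index ?_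
          have h5 := (R : Subgroup ↥N).index_mul_card
          rw [← B.index_mul_card, he] at h5
          rw [show (R : Subgroup ↥N).index = B.index * e from
            Nat.eq_of_mul_eq_mul_right Nat.card_pos (by rw [h5]; ring)]
          exact hrB.mul_right e
        obtain ⟨i, hi⟩ : ∃ i : ℕ, B.index = p ^ i :=
          ⟨_, Nat.eq_prime_pow_of_unique_prime_dvd Subgroup.index_ne_zero_of_finite
            fun {r} hr hrB => hidx r hr hrB⟩
        have hS0 : B.index ≤ Nat.card (S0 : Subgroup ↥N) := by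
          rw [hi]
          exact Nat.le_of_dvd Nat.card_pos
            (S0.pow_dvd_card_of_pow_dvd_card (hi ▸ Subgroup.index_dvd_card B))
        have heq : (Finset.univ.filter fun a : ↥N => a ∈ (S0 : Subgroup ↥N)) =
            Finset.univ.filter fun a : ↥N => ¬ (a ≠ 1 ∧ ¬ p ∣ orderOf a) := by
          refine Finset.eq_of_subset_of_card_le
            (fun a ha => by simpa using hsub a (by simpa using ha)) ?_
          rw [← Nat.card_eq_finsetCard, h1]
          refine hS0.trans_eq ?_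
          rw [← Nat.card_eq_finsetCard]
          exact Nat.card_congr (Equiv.subtypeEquivRight fun a => by simp)
        have hx' : x ∈ Finset.univ.filter fun a : ↥N => ¬ (a ≠ 1 ∧ ¬ p ∣ orderOf a) := by
          simp [hx]
        rw [← heq] at hx'
        simpa using hx'
      · push Not at hS
        have htop : (S0 : Subgroup ↥N) = ⊤ := by
          refine (S0.is_maximal' ?_ le_top).symm
          refine IsPGroup.iff_orderOf.2 fun a => ?_
          rw [← Subgroup.orderOf_coe]
          by_cases ha : (a : ↥N) = 1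
          · exact ⟨0, by rw [ha, orderOf_one, pow_zero]⟩
          · refine ⟨1, ?_⟩
            have h := hcases ((a : ↥N) : G) (by rw [Subgroup.orderOf_coe]; exact hS _ ha)
            rw [← Subgroup.orderOf_coe, pow_one, (hQall _ h).1, hord p hp hpq]
        rw [htop]; exact Subgroup.mem_top x
    obtain ⟨P, hP⟩ := (S0.isPGroup'.map N.subtype).exists_le_sylow
    exact ⟨P, fun x hx hxo => hP ⟨⟨x, hx⟩, hall _ (by rw [Subgroup.orderOf_mk, hxo]), rfl⟩⟩
  have hordP : ∀ P : Sylow p G, ∀ a ∈ (P : Subgroup G), a ≠ 1 → orderOf a = p ∧ a ∈ c.sing q := by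
    intro P a ha ha1
    obtain ⟨n, hn⟩ := IsPGroup.iff_orderOf.1 P.isPGroup' ⟨a, ha⟩
    rw [Subgroup.orderOf_mk] at hn
    rcases n with _ | n
    · exact absurd (orderOf_eq_one_iff.1 (by rw [hn, pow_zero])) ha1
    · have h := hcases a (hn ▸ dvd_pow_self p (by omega))
      exact ⟨(hQall a h).1.trans (hord p hp hpq), h⟩
  -- Sylow subgroups intersect trivially
  have hTI : ∀ P P' : Sylow p G, P ≠ P' → (P : Subgroup G) ⊓ (P' : Subgroup G) = ⊥ := by
    by_contra hno
    push Not at hno
    obtain ⟨P0, P0', hne0, hJ0⟩ := hno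
    haveI := Fintype.ofFinite (Sylow p G)
    obtain ⟨⟨P, P'⟩, hPP, hmax⟩ := Finset.exists_max_image
      (Finset.univ.filter fun w : Sylow p G × Sylow p G =>
        w.1 ≠ w.2 ∧ (w.1 : Subgroup G) ⊓ (w.2 : Subgroup G) ≠ ⊥)
      (fun w => Nat.card ↥((w.1 : Subgroup G) ⊓ (w.2 : Subgroup G)))
      ⟨(P0, P0'), by simp [hne0, hJ0]⟩
    simp only [Finset.mem_filter, Finset.mem_univ, true_and] at hPP
    obtain ⟨hne, hJ⟩ := hPP
    set J := (P : Subgroup G) ⊓ (P' : Subgroup G) with hJdef
    set N := Subgroup.normalizer (J : Set G) with hN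
    have hodd : Odd (Nat.card N) := by
      rw [← Nat.not_even_iff_odd, even_iff_two_dvd]
      intro h2
      obtain ⟨⟨u, hu⟩, huo⟩ := exists_prime_orderOf_dvd_card' (G := ↥N) 2 h2
      rw [Subgroup.orderOf_mk] at huo
      have hu1 : u ≠ 1 := fun e => by rw [e, orderOf_one] at huo; omega
      have hu2 : u * u = 1 := by rw [← pow_two, ← huo, pow_orderOf_eq_one]
      obtain ⟨a, ha, ha1⟩ := (Subgroup.bot_or_exists_ne_one J).resolve_left hJ
      have hfix : ∀ b ∈ J, u * b = b * u → b = 1 := by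
        intro b hb hub
        by_contra hb1
        exact (c.mem_R.1 (c.R_centralizer (c.mem_sing.1 (hordP P b hb.1 hb1).2).1 hub hu1)).1 hu2
      exact hQni a (hordP P a ha.1 ha1).2 ⟨u, hu1, hu2, (inverts_of_no_fixed hu2
        (fun b hb => conj_mem_of_mem_normalizer hu hb) hfix).1 a ha⟩
    obtain ⟨P'', hP''⟩ := hlocal N hodd
    have hgrow : ∀ S : Sylow p G, J < (S : Subgroup G) →
        ∃ x ∈ (S : Subgroup G), x ∉ J ∧ x ∈ N := by
      intro S hS
      haveI : Group.IsNilpotent ↥(S : Subgroup G) := S.isPGroup'.isNilpotent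
      obtain ⟨x, hx1, hx2⟩ := SetLike.exists_of_lt
        (Group.normalizerCondition_of_isNilpotent (J.subgroupOf (S : Subgroup G))
          (lt_top_iff_ne_top.2 fun e => hS.not_ge (by rwa [Subgroup.subgroupOf_eq_top] at e)))
      refine ⟨x, x.2, fun h => hx2 h, mem_normalizer_of_conj fun a ha => ?_⟩
      have h := conj_mem_of_mem_normalizer hx1
        (show (⟨a, hS.le ha⟩ : ↥(S : Subgroup G)) ∈ J.subgroupOf (S : Subgroup G) from ha)
      exact h
    have hkey : ∀ S : Sylow p G, J < (S : Subgroup G) → S = P'' := by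
      intro S hS
      obtain ⟨x, hxS, hxJ, hxN⟩ := hgrow S hS
      by_contra hSP
      have hlt : J < (S : Subgroup G) ⊓ (P'' : Subgroup G) := by
        refine lt_of_le_of_ne (le_inf hS.le fun a ha => ?_) fun e => hxJ ?_
        · by_cases ha1 : a = 1
          · rw [ha1]; exact Subgroup.one_mem _
          · exact hP'' a (Subgroup.le_normalizer ha) (hordP S a (hS.le ha) ha1).1
        · rw [e]
          exact ⟨hxS, hP'' x hxN (hordP S x hxS fun e' => hxJ (e' ▸ J.one_mem)).1⟩
      have h := hmax (S, P'') (by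
        simp only [Finset.mem_filter, Finset.mem_univ, true_and]
        exact ⟨hSP, fun e => hJ (le_bot_iff.1 (e ▸ hlt.le))⟩)
      exact absurd (Subgroup.eq_of_le_of_card_ge hlt.le h) hlt.ne
    have hlt : ∀ S S' : Sylow p G, S ≠ S' → (S : Subgroup G) ⊓ (S' : Subgroup G) < (S : Subgroup G) := by
      intro S S' h
      refine lt_of_le_of_ne inf_le_left fun e => h (Sylow.ext ?_)
      exact Subgroup.eq_of_le_of_card_ge (inf_eq_left.1 e) (by rw [hsyl, hsyl])
    refine hne ((hkey P (hlt P P' hne)).trans (hkey P' ?_).symm)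
    rw [hJdef, inf_comm]
    exact hlt P' P (Ne.symm hne)
  -- the Sylow subgroup is the centraliser of each of its nontrivial elements
  obtain ⟨P⟩ := (inferInstance : Nonempty (Sylow p G))
  have hQ : ∀ a ∈ (P : Subgroup G), a ≠ 1 →
      Subgroup.centralizer ({a} : Set G) = (P : Subgroup G) := by
    intro a ha ha1
    have hcard := (hQall a (hordP P a ha ha1).2).2
    obtain ⟨S, hS⟩ := (IsPGroup.of_card (p := p) (n := f)
      (G := ↥(Subgroup.centralizer ({a} : Set G))) (by rw [hcard, hf])).exists_le_sylow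
    have hSP : S = P := by
      by_contra h
      have h1 : a ∈ (S : Subgroup G) ⊓ (P : Subgroup G) :=
        ⟨hS (mem_centralizer_singleton.2 rfl), ha⟩
      rw [hTI S P h, Subgroup.mem_bot] at h1
      exact ha1 h1
    exact Subgroup.eq_of_le_of_card_ge (hSP ▸ hS) (by rw [hcard, hsyl])
  have hP1 : ∃ a ∈ (P : Subgroup G), a ≠ 1 := by
    refine (Subgroup.bot_or_exists_ne_one (P : Subgroup G)).resolve_left fun e => ?_
    have := hsyl P
    rw [e, Subgroup.card_bot] at this
    omega
  obtain ⟨a0, ha0, ha01⟩ := hP1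
  have hC0 := hQ a0 ha0 ha01
  set NP := Subgroup.normalizer ((P : Subgroup G) : Set G) with hNP
  have hNcard : Nat.card NP = q * l := by
    have hc := card_conj_centralizer (y := a0) (fun a ha ha1 => by
      rw [hC0] at ha ⊢; exact hQ a ha ha1) (c.sing q) (fun w => by
      rw [hC0]
      constructor
      · intro hw
        refine ⟨c.R_ne_one (c.mem_sing.1 hw).1, ?_⟩
        obtain ⟨S, hS⟩ := (IsPGroup.of_card (p := p) (n := 1) (G := ↥(Subgroup.zpowers w))
          (by rw [Nat.card_zpowers, (hQall w hw).1, hord p hp hpq, pow_one])).exists_le_sylow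
        obtain ⟨g, hg'⟩ := MulAction.exists_smul_eq G S P
        refine ⟨g, ?_⟩
        rw [← hg', Sylow.coe_subgroup_smul]
        exact ⟨w, hS (Subgroup.mem_zpowers w), rfl⟩
      · rintro ⟨hw, g, hgw⟩
        have h := (hordP P _ hgw fun e => hw (conj_eq_one_iff.1 e)).2
        have := c.sing_conj h g⁻¹
        simpa [mul_assoc] using this)
    rw [hC0, hsyl, hnq, ← hNP] at hc
    have hidx : NP.index = 4 * c.k := by
      refine Nat.eq_of_mul_eq_mul_right (show 0 < q - 1 by omega) ?_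
      rw [← hc, show q - 1 = 2 * l by omega]; ring
    have h3 := NP.index_mul_card
    rw [hidx, hg] at h3
    refine Nat.eq_of_mul_eq_mul_left (show 0 < 4 * c.k by omega) ?_
    rw [h3]; ring
  have hPN : (P : Subgroup G) ≤ NP := Subgroup.le_normalizer
  haveI hPnormal : ((P : Subgroup G).subgroupOf NP).Normal :=
    Subgroup.normal_subgroupOf_iff hPN |>.2 fun a x ha hx =>
      conj_mem_of_mem_normalizer hx ha
  have hidxP : ((P : Subgroup G).subgroupOf NP).index = l := by
    have h3 := ((P : Subgroup G).subgroupOf NP).index_mul_card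
    rw [Nat.card_congr (Subgroup.subgroupOfEquivOfLe hPN).toEquiv, hsyl, hNcard] at h3
    exact Nat.eq_of_mul_eq_mul_right (show 0 < q by omega) (h3.trans (mul_comm q l))
  obtain ⟨D', hD'⟩ := Subgroup.exists_right_complement'_of_coprime
    (N := (P : Subgroup G).subgroupOf NP) (by
      rw [Nat.card_congr (Subgroup.subgroupOfEquivOfLe hPN).toEquiv, hsyl, hidxP]; exact hql)
  set D := D'.map NP.subtype with hD
  have hDcard : Nat.card D = l := by
    rw [hD, Subgroup.card_map_of_injective NP.subtype_injective, ← hidxP,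
      Subgroup.IsComplement'.index_eq_card (Subgroup.IsComplement'.symm hD')]
  have hsup : NP = (P : Subgroup G) ⊔ D := by
    have h := congrArg (Subgroup.map NP.subtype) (Subgroup.IsComplement'.sup_eq_top hD')
    rwa [Subgroup.map_sup, Subgroup.subgroupOf_map_subtype, inf_eq_left.2 hPN,
      ← MonoidHom.range_eq_map, Subgroup.range_subtype, eq_comm] at h
  -- the complement is a centraliser
  have hDodd : Odd (Nat.card D) := by rw [hDcard, Nat.odd_iff]; omega
  have hDp : ∀ y : ↥D, ¬ p ∣ orderOf y := fun y h =>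
    hpnot ((h.trans (hDcard ▸ orderOf_dvd_natCard y)).mul_left _)
  obtain ⟨y, hy1⟩ : ∃ y : ↥D, y ≠ 1 := by
    haveI : Nontrivial ↥D := Finite.one_lt_card_iff_nontrivial.1 (by rw [hDcard]; omega)
    exact exists_ne 1
  obtain ⟨h1, -, -⟩ := hcover D hDodd y hy1 (hDp y)
  have hidx1 : (Subgroup.centralizer ({y} : Set ↥D)).index = 1 := by
    rw [← h1, Nat.card_eq_finsetCard, Finset.card_eq_one]
    refine ⟨1, ?_⟩
    ext x
    simp [hDp x]
  have hyR : (y : G) ∈ c.sing l := by
    have hdl : orderOf (y : G) ∣ l := by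
      rw [Subgroup.orderOf_coe, ← hDcard]; exact orderOf_dvd_natCard y
    have hy1' : (y : G) ≠ 1 := fun e => hy1 (Subtype.ext e)
    refine c.mem_sing.2 ⟨c.mem_R.2 ⟨fun h => ?_, fun g hgy => ?_⟩, fun h => ?_⟩
    · exact hy1' (orderOf_eq_one_iff.1 (Nat.Coprime.eq_one_of_dvd
        ((h2kl.coprime_dvd_left (dvd_mul_right 2 _)).coprime_dvd_left
          (orderOf_dvd_of_pow_eq_one (by rw [pow_two, h]))) hdl))
    · refine hy1' (orderOf_eq_one_iff.1 (Nat.Coprime.eq_one_of_dvd
        (h2kl.coprime_dvd_left ?_) hdl))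
      rw [← c.card_K, show orderOf (y : G) = orderOf (g * (y : G) * g⁻¹) from
          (orderOf_injective (MulAut.conj g).toMonoidHom (MulAut.conj g).injective _).symm,
        ← Nat.card_zpowers]
      exact Subgroup.card_dvd_of_le (Subgroup.zpowers_le.2 hgy)
    · exact hy1' (orderOf_eq_one_iff.1 (Nat.Coprime.eq_one_of_dvd h hdl))
  obtain ⟨hi, hA⟩ := hLall _ hyR
  have hDA : D = Subgroup.centralizer ({(y : G)} : Set G) := by
    refine Subgroup.eq_of_le_of_card_ge (fun x hx => ?_) (by rw [hA, hDcard])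
    have h := Subgroup.index_eq_one.1 hidx1
    have h2 : (⟨x, hx⟩ : ↥D) ∈ Subgroup.centralizer ({y} : Set ↥D) := by rw [h]; trivial
    exact mem_centralizer_singleton.2 (congrArg Subtype.val (mem_centralizer_singleton.1 h2))
  have hyR' := (c.mem_sing.1 hyR).1
  have hi' := hi
  obtain ⟨u, hu1, hu, huy⟩ := hi'
  obtain ⟨-, hN2, huA⟩ := c.normalizer_two hyR' hu1 hu huy (by rw [hLnorm _ hyR, hA])
  obtain ⟨hinv, hab⟩ := c.inverter hyR' hu1 hu huy
  refine ⟨(P : Subgroup G), D, ?_, hQ, ?_, ?_, ?_, hsup, fun X hX hX1 => ⟨?_, u, ?_, ?_, ?_, ?_⟩⟩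
  · rw [hsyl, hg, hq, show q - 1 = 2 * l by omega]; ring
  · exact ⟨⟨fun a b => Subtype.ext (hab a.1 (hDA ▸ a.2) b.1 (hDA ▸ b.2))⟩⟩
  · rw [hsyl, hDcard]; omega
  · exact Subgroup.inf_eq_bot_of_coprime (by rw [hsyl, hDcard]; exact hql)
  · refine le_antisymm (fun x hx => mem_normalizer_of_conj fun b hb => ?_) fun x hx => ?_
    · obtain ⟨a, ha, ha1⟩ := (Subgroup.bot_or_exists_ne_one X).resolve_left hX1
      have ha' : a ∈ Subgroup.centralizer ({(y : G)} : Set G) := hDA ▸ hX ha
      have hxa : x * a * x⁻¹ ∈ Subgroup.centralizer ({(y : G)} : Set G) :=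
        hDA ▸ hX (conj_mem_of_mem_normalizer hx ha)
      rw [hDA] at hb ⊢
      rw [← (c.inverted_centralizer hyR' hi hxa fun e => ha1 (conj_eq_one_iff.1 e)).2]
      rw [← (c.inverted_centralizer hyR' hi ha' ha1).2] at hb
      exact conj_mem_centralizer.2 hb
    · rw [hDA, hN2] at hx
      have hle : Subgroup.centralizer ({(y : G)} : Set G) ⊔ Subgroup.zpowers u ≤
          Subgroup.normalizer (X : Set G) := by
        refine sup_le (fun a ha => mem_normalizer_of_conj fun b hb => ?_)
          (Subgroup.zpowers_le.2 (mem_normalizer_of_conj fun b hb => ?_))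
        · rw [hab a ha b (hDA ▸ hX hb), mul_inv_cancel_right]; exact hb
        · rw [hinv b (hDA ▸ hX hb)]; exact X.inv_mem hb
      exact hle hx
  · exact orderOf_eq_prime (by rw [pow_two, hu]) hu1
  · rw [hDA]; exact huA
  · intro b hb; exact hinv b (hDA ▸ hb)
  · rw [hDA]; exact hN2

theorem concl_large (hk : 3 ≤ c.k) : Concl G := by
  obtain ⟨q, l, δ, d⟩ := c.exists_data hk
  rcases d.hδ with h | h
  exacts [c.case_plus (by omega) d h, c.case_minus hk d h]

end Ctx

end Cfsg.Lib.BSW
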