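import Cfsg.Agent.Lib.BSW.Arith
import Cfsg.Agent.Lib.BSW.Family
import Cfsg.Agent.Lib.Char.Central
import Cfsg.Agent.Lib.MEleven.Basic

/-!
# Brauer–Suzuki–Wall: the class structure for `k ≥ 3`
-/

set_option autoImplicit false
set_option linter.unusedSectionVars false
set_option linter.style.haveILetI false

namespace Cfsg.Lib.BSW

open Cfsg Cfsg.Lib.Char

universe u

/-- A character of defect zero for `p` vanishes on elements of order divisible by `p`. -/
theorem defect_vanish {G : Type u} [Group G] [Fintype G] (χ : IrrCharacter G) {d e p : ℕ}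
    (hp : p.Prime) (hd : (χ : G → ℂ) 1 = d) (hg : Nat.card G = d * e) (he : ¬ p ∣ e) {z : G}
    (hz : p ∣ orderOf z) : (χ : G → ℂ) z = 0 := by
  haveI : Fact p.Prime := ⟨hp⟩
  refine Cfsg.Lib.MEleven.apply_eq_zero_of_defectZero χ ?_ hz
  have h1 := Cfsg.Lib.MEleven.apply_one χ
  rw [hd] at h1
  have h2 := (Nat.cast_inj.1 h1).symm
  have hne : d * e ≠ 0 := hg ▸ Nat.card_pos.ne'
  rw [h2, hg, Nat.factorization_mul (left_ne_zero_of_mul hne) (right_ne_zero_of_mul hne),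
    Finsupp.add_apply, Nat.factorization_eq_zero_of_not_dvd he, add_zero]

namespace Ctx

variable {G : Type u} [Group G] (c : Ctx G) [Fintype G] [DecidableEq G]

theorem R_mul_coprime {z b : G} (hz : z ∈ c.R) (hb : b * z = z * b) {a : G}
    (ha : a ∈ Subgroup.zpowers z) (hco : Nat.Coprime (orderOf a) (orderOf b)) (ha1 : a ≠ 1) :
    a * b ∈ c.R ∧ orderOf (a * b) = orderOf a * orderOf b := by
  have haz : a * z = z * a := by
    obtain ⟨n, rfl⟩ := Subgroup.mem_zpowers_iff.1 ha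
    exact ((Commute.refl z).zpow_left n).eq
  have hab : Commute a b := by
    obtain ⟨n, rfl⟩ := Subgroup.mem_zpowers_iff.1 ha
    exact (Commute.zpow_left (hb.symm : Commute z b) n)
  have ho := hab.orderOf_mul_eq_mul_orderOf_of_coprime hco
  refine ⟨c.R_centralizer hz ((Commute.mul_left (haz : Commute a z) hb).eq) fun e => ha1 ?_, ho⟩
  rw [e, orderOf_one] at ho
  exact orderOf_eq_one_iff.1 (Nat.eq_one_of_mul_eq_one_right ho.symm)

/-- If no element of `R` has order involving both `m` and `n`, centralisers stay inside. -/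
theorem card_centralizer_dvd_part {m n : ℕ} (hmn : c.nInv = m * n)
    (hmix : ∀ w ∈ c.R, ∀ p r : ℕ, p.Prime → r.Prime → p ∣ m → r ∣ n → p ∣ orderOf w →
      r ∣ orderOf w → False) (hcop : Nat.Coprime m n)
    {z : G} (hz : z ∈ c.R) (hzm : ¬ Nat.Coprime (orderOf z) m) :
    Nat.card (Subgroup.centralizer ({z} : Set G)) ∣ m := by
  obtain ⟨p, hp, hpz, hpm⟩ := Nat.Prime.not_coprime_iff_dvd.1 hzm
  refine Nat.Coprime.dvd_of_dvd_mul_right (n := n) ?_ (hmn ▸ c.card_centralizer_dvd hz)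
  refine Nat.coprime_of_dvd fun r hr hrC hrn => ?_
  haveI : Fact r.Prime := ⟨hr⟩
  obtain ⟨⟨b, hbC⟩, hb⟩ := exists_prime_orderOf_dvd_card'
    (G := ↥(Subgroup.centralizer ({z} : Set G))) r hrC
  rw [Subgroup.orderOf_mk] at hb
  have hao : orderOf (z ^ (orderOf z / p)) = p :=
    orderOf_pow_orderOf_div (orderOf_pos z).ne' hpz
  have hpr : p ≠ r := by
    rintro rfl
    exact Nat.Prime.not_coprime_iff_dvd.2 ⟨p, hp, hpm, hrn⟩ hcop
  obtain ⟨hR, ho⟩ := c.R_mul_coprime hz (mem_centralizer_singleton.1 hbC)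
    (Subgroup.pow_mem _ (Subgroup.mem_zpowers z) (orderOf z / p))
    (by rw [hao, hb]; exact (Nat.coprime_primes hp hr).2 hpr)
    (fun e => hp.one_lt.ne' (by rw [← hao, e, orderOf_one]))
  rw [hao, hb] at ho
  exact hmix _ hR p r hp hr hpm hrn (ho ▸ dvd_mul_right p r) (ho ▸ dvd_mul_left r p)

/-- Elements of `R` whose order shares a prime with `m`. -/
noncomputable def sing (m : ℕ) : Finset G := c.R.filter fun z => ¬ Nat.Coprime (orderOf z) m

theorem mem_sing {m : ℕ} {z : G} : z ∈ c.sing m ↔ z ∈ c.R ∧ ¬ Nat.Coprime (orderOf z) m := by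
  simp [sing]

theorem sing_conj {m : ℕ} {z : G} (hz : z ∈ c.sing m) (g : G) : g * z * g⁻¹ ∈ c.sing m := by
  rw [mem_sing] at hz ⊢
  refine ⟨c.R_conj hz.1 g, ?_⟩
  rw [show g * z * g⁻¹ = (MulAut.conj g).toMonoidHom z from rfl,
    orderOf_injective _ (MulAut.conj g).injective]
  exact hz.2

/-- The numerical and class data obtained from character theory. -/
structure Data (q l : ℕ) (δ : ℤ) : Prop where
  hδ : δ = 1 ∨ δ = -1
  hq : (q : ℤ) = 4 * c.k + δ
  hl : (l : ℤ) = 2 * c.k + δ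
  hI : c.nInv = q * l
  split : ∀ z ∈ c.R, (z ∈ c.sing q ↔ z ∉ c.sing l)
  cq : ∀ z ∈ c.sing q, Nat.card (Subgroup.centralizer ({z} : Set G)) ∣ q
  cl : ∀ z ∈ c.sing l, Nat.card (Subgroup.centralizer ({z} : Set G)) ∣ l
  nq : ((c.sing q).card : ℤ) = (q : ℤ) ^ 2 - 1
  nl : ((c.sing l).card : ℤ) = δ * q + (2 * c.k - 1) * c.nInv
  sq : (∑ z ∈ c.sing q, (c.n z : ℤ)) = (δ + 1) * (4 * c.k * c.nInv)
  sl : (∑ z ∈ c.sing l, (c.n z : ℤ)) = 4 * c.k * c.nInv * (c.k + (δ - 1) / 2)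

theorem exists_data (hk : 3 ≤ c.k) : ∃ (q l : ℕ) (δ : ℤ), c.Data q l δ := by
  classical
  haveI : Fintype (IrrCharacter G) := Fintype.ofFinite _
  obtain ⟨X, δ, hC, hx, ht, hI, l0, Y, hy, hPhi⟩ := c.exists_exceptional hk
  obtain ⟨q, hq⟩ : ∃ q : ℕ, (q : ℤ) = 4 * c.k + δ :=
    ⟨(4 * (c.k : ℤ) + δ).toNat, Int.toNat_of_nonneg (by rcases hC.2.1 with e | e <;> omega)⟩
  obtain ⟨l, hl⟩ : ∃ l : ℕ, (l : ℤ) = 2 * c.k + δ :=
    ⟨(2 * (c.k : ℤ) + δ).toNat, Int.toNat_of_nonneg (by rcases hC.2.1 with e | e <;> omega)⟩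
  have hIn : c.nInv = q * l := by
    have : (c.nInv : ℤ) = ((q * l : ℕ) : ℤ) := by push_cast; rw [hI, hq, hl]
    exact_mod_cast this
  have hxq : (X : G → ℂ) 1 = (q : ℂ) := by rw [hx, ← hq]; push_cast; rfl
  have hyl : (Y : G → ℂ) 1 = ((2 * l : ℕ) : ℂ) := by
    rw [hy, show (4 * (c.k : ℤ) + 2 * δ) = ((2 * l : ℕ) : ℤ) by push_cast; rw [hl]; ring]
    push_cast; rfl
  have h2kq : Nat.Coprime (2 * c.k) q :=
    (hIn ▸ c.coprime_two_k_nInv).coprime_dvd_right (dvd_mul_right q l)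
  have h2kl : Nat.Coprime (2 * c.k) l :=
    (hIn ▸ c.coprime_two_k_nInv).coprime_dvd_right (dvd_mul_left l q)
  have hql : Nat.Coprime q l := by
    refine Nat.coprime_of_dvd fun p hp hpq hpl => ?_
    have h : (p : ℤ) ∣ δ := by
      have h1 : (p : ℤ) ∣ (q : ℤ) := Int.natCast_dvd_natCast.2 hpq
      have h2 : (p : ℤ) ∣ (l : ℤ) := Int.natCast_dvd_natCast.2 hpl
      have h3 := dvd_sub (h2.mul_left 2) h1
      rwa [show 2 * (l : ℤ) - q = δ by rw [hl, hq]; ring] at h3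
    have h4 := Int.natAbs_dvd_natAbs.2 h
    have : δ.natAbs = 1 := by rcases hC.2.1 with e | e <;> simp [e]
    rw [Int.natAbs_natCast, this] at h4
    exact hp.ne_one (Nat.dvd_one.1 h4)
  have hp4k : ∀ p : ℕ, p.Prime → p ∣ c.nInv → ¬ p ∣ 4 * c.k := by
    intro p hp hpI h
    have h2 : p ∣ 2 * c.k := by
      rw [show 4 * c.k = 2 * (2 * c.k) by ring] at h
      rcases hp.dvd_mul.1 h with h' | h'
      exacts [h'.trans (dvd_mul_right 2 _), h']
    exact Nat.Prime.not_coprime_iff_dvd.2 ⟨p, hp, h2, hpI⟩ c.coprime_two_k_nInv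
  have hXv : ∀ (z : G) (p : ℕ), p.Prime → p ∣ q → p ∣ orderOf z → (X : G → ℂ) z = 0 := by
    intro z p hp hpq hpz
    refine defect_vanish X (d := q) (e := 4 * c.k * l) hp hxq ?_ ?_ hpz
    · rw [c.card_G, hIn]; ring
    · intro h
      rcases hp.dvd_mul.1 h with h | h
      · exact hp4k p hp (hIn ▸ hpq.trans (dvd_mul_right q l)) h
      · exact Nat.Prime.not_coprime_iff_dvd.2 ⟨p, hp, hpq, h⟩ hql
  have hYv : ∀ (z : G) (p : ℕ), p.Prime → p ∣ l → p ∣ orderOf z → (Y : G → ℂ) z = 0 := by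
    intro z p hp hpl hpz
    refine defect_vanish Y (d := 2 * l) (e := 2 * c.k * q) hp hyl ?_ ?_ hpz
    · rw [c.card_G, hIn]; ring
    · intro h
      rcases hp.dvd_mul.1 h with h | h
      · exact Nat.Prime.not_coprime_iff_dvd.2 ⟨p, hp, h, hpl⟩ h2kl
      · exact Nat.Prime.not_coprime_iff_dvd.2 ⟨p, hp, h, hpl⟩ hql
  have hmix : ∀ w ∈ c.R, ∀ p r : ℕ, p.Prime → r.Prime → p ∣ q → r ∣ l → p ∣ orderOf w →
      r ∣ orderOf w → False := by
    intro w hw p r hp hr hpq hrl hpw hrw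
    have h := hPhi w
    rw [c.Phi_R l0 hw, hXv w p hp hpq hpw, hYv w r hr hrl hrw] at h
    simp at h
  have hsome : ∀ z ∈ c.R, z ∈ c.sing q ∨ z ∈ c.sing l := by
    intro z hz
    simp only [mem_sing, hz, true_and]
    by_contra hno
    push Not at hno
    have h1 : orderOf z ∣ q * l := hIn ▸ (by
      refine dvd_trans ?_ (c.card_centralizer_dvd hz)
      rw [← Nat.card_zpowers]
      exact Subgroup.card_dvd_of_le (Subgroup.zpowers_le.2 (mem_centralizer_singleton.2 rfl)))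
    exact c.R_ne_one hz (orderOf_eq_one_iff.1
      (Nat.Coprime.eq_one_of_dvd (hno.1.mul_right hno.2) h1))
  have hsplit : ∀ z ∈ c.R, (z ∈ c.sing q ↔ z ∉ c.sing l) := by
    intro z hz
    refine ⟨fun h1 h2 => ?_, fun h => (hsome z hz).resolve_right h⟩
    obtain ⟨p, hp, hpz, hpq⟩ := Nat.Prime.not_coprime_iff_dvd.1 (c.mem_sing.1 h1).2
    obtain ⟨r, hr, hrz, hrl⟩ := Nat.Prime.not_coprime_iff_dvd.1 (c.mem_sing.1 h2).2
    exact hmix z hz p r hp hr hpq hrl hpz hrz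
  have hsum : ∀ f : G → ℂ, ∑ z ∈ c.R, f z = ∑ z ∈ c.sing q, f z + ∑ z ∈ c.sing l, f z := by
    intro f
    rw [← Finset.sum_filter_add_sum_filter_not c.R (fun z => z ∈ c.sing q)]
    congr 1 <;> refine Finset.sum_congr ?_ fun _ _ => rfl <;> ext z <;> simp only [Finset.mem_filter]
    · exact ⟨fun h => h.2, fun h => ⟨(c.mem_sing.1 h).1, h⟩⟩
    · exact ⟨fun h => (hsome z h.1).resolve_left h.2,
        fun h => ⟨(c.mem_sing.1 h).1, fun h' => (hsplit z (c.mem_sing.1 h).1).1 h' h⟩⟩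
  have hXq : ∀ z ∈ c.sing q, (X : G → ℂ) z = 0 := by
    intro z hz
    obtain ⟨p, hp, hpz, hpq⟩ := Nat.Prime.not_coprime_iff_dvd.1 (c.mem_sing.1 hz).2
    exact hXv z p hp hpq hpz
  have hXl : ∀ z ∈ c.sing l, (X : G → ℂ) z = -(δ : ℂ) := by
    intro z hz
    obtain ⟨r, hr, hrz, hrl⟩ := Nat.Prime.not_coprime_iff_dvd.1 (c.mem_sing.1 hz).2
    have h := hPhi z
    rw [c.Phi_R l0 (c.mem_sing.1 hz).1, hYv z r hr hrl hrz] at h
    rcases hC.2.1 with e | e <;> rw [e] at h ⊢ <;> push_cast at h ⊢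
    · linear_combination -h
    · linear_combination h
  have hT := c.common_T hC
  have E1 : (0 : ℂ) = q + c.nInv * δ + c.nInv * (2 * ((c.k : ℂ) - 1) * δ) -
      δ * (c.sing l).card := by
    have h0 : ∑ z, (X : G → ℂ) z = 0 := by
      have h := classInner_irr_ne X.2 isIrrCharacter_one fun e => hC.1 (Subtype.ext e)
      rw [classInner_one_right] at h
      exact (mul_eq_zero.1 h).resolve_left (inv_ne_zero card_cast_ne_zero)
    rw [c.sum_univ _ X.2.isClassFunction, hsum, Finset.sum_eq_zero hXq,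
      Finset.sum_congr rfl hXl, Finset.sum_const, hxq, ht, hT] at h0
    simp only [nsmul_eq_mul, zero_add] at h0
    linear_combination -h0
  have E2 : (c.nInv : ℂ) * q + c.nInv * (2 * c.k * δ) +
      c.nInv * (2 * c.k * (2 * ((c.k : ℂ) - 1) * δ)) -
      δ * (∑ z ∈ c.sing l, (c.n z : ℂ)) = c.nInv * l := by
    have h := c.pair_sum_split _ X.2.isClassFunction
    rw [sum_involFinset_pair X.2, c.sum_invol _ X.2.isClassFunction, hsum,
      Finset.sum_eq_zero (s := c.sing q) fun z hz => by rw [hXq z hz, smul_zero],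
      Finset.sum_congr (s₁ := c.sing l) rfl fun z hz => by rw [hXl z hz],
      ← Finset.smul_sum (r := 2 * c.k), hxq, ht, hT] at h
    simp only [nsmul_eq_mul, zero_add] at h
    have hq0 : (q : ℂ) ≠ 0 := hxq ▸ X.2.apply_one_ne_zero
    have hδ2 : (δ : ℂ) ^ 2 = 1 := by rcases hC.2.1 with e | e <;> simp [e]
    have hnl : ((c.nInv : ℂ) * δ) ^ 2 / q = c.nInv * l := by
      rw [div_eq_iff hq0, mul_pow, hδ2, hIn]; push_cast; ring
    rw [hnl, ← Finset.sum_mul] at h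
    push_cast at h
    linear_combination -h
  have E1' : (0 : ℤ) = q + c.nInv * δ + c.nInv * (2 * ((c.k : ℤ) - 1) * δ) -
      δ * (c.sing l).card := by exact_mod_cast E1
  have E2' : (c.nInv : ℤ) * q + c.nInv * (2 * c.k * δ) +
      c.nInv * (2 * c.k * (2 * ((c.k : ℤ) - 1) * δ)) -
      δ * (∑ z ∈ c.sing l, (c.n z : ℤ)) = c.nInv * l := by exact_mod_cast E2
  have E3 : ((c.sing q).card : ℤ) + (c.sing l).card + 1 = (2 * c.k + 1) * c.nInv := by
    have h := hsum fun _ => (1 : ℂ)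
    simp only [Finset.sum_const, nsmul_eq_mul, mul_one] at h
    have h' : c.R.card = (c.sing q).card + (c.sing l).card := by exact_mod_cast h
    exact_mod_cast (h' ▸ c.card_R)
  have E4 : (∑ z ∈ c.sing q, (c.n z : ℤ)) + (∑ z ∈ c.sing l, (c.n z : ℤ)) + c.nInv +
      2 * c.k * c.nInv + 2 * c.k * c.nInv * (2 * (c.k : ℤ) - 2) = c.nInv * c.nInv := by
    have h := hsum fun z => (c.n z : ℂ)
    have h' : ∑ z ∈ c.R, c.n z = ∑ z ∈ c.sing q, c.n z + ∑ z ∈ c.sing l, c.n z := by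
      exact_mod_cast h
    have h2 := c.sum_R_n
    rw [h'] at h2
    have h3 := congrArg (fun a : ℕ => (a : ℤ)) h2
    push_cast at h3
    have hT' : (c.T.card : ℤ) = 2 * c.k - 2 := by have := c.card_T; omega
    rw [hT'] at h3
    exact h3
  have hI' : (c.nInv : ℤ) = q * l := by exact_mod_cast hIn
  refine ⟨q, l, δ, hC.2.1, hq, hl, hIn, hsplit, fun z hz => ?_, fun z hz => ?_, ?_, ?_, ?_, ?_⟩
  · exact c.card_centralizer_dvd_part hIn hmix hql (c.mem_sing.1 hz).1 (c.mem_sing.1 hz).2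
  · refine c.card_centralizer_dvd_part (hIn.trans (mul_comm q l)) ?_ hql.symm (c.mem_sing.1 hz).1
      (c.mem_sing.1 hz).2
    exact fun w hw p r hp hr h1 h2 h3 h4 => hmix w hw r p hr hp h2 h1 h4 h3
  all_goals
    generalize (∑ z ∈ c.sing q, (c.n z : ℤ)) = SQ at *
    generalize (∑ z ∈ c.sing l, (c.n z : ℤ)) = SL at *
    generalize ((c.sing q).card : ℤ) = NQ at *
    generalize ((c.sing l).card : ℤ) = NL at *
    generalize (c.nInv : ℤ) = I at *
    generalize (c.k : ℤ) = k at *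
    generalize (q : ℤ) = qq at *
    generalize (l : ℤ) = ll at *
    subst hI' hq hl
    rcases hC.2.1 with rfl | rfl
    · norm_num
      linarith
    · norm_num
      linarith

end Ctx

end Cfsg.Lib.BSW
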