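import Cfsg.Agent.Lib.BSW.Count
import Cfsg.Agent.Lib.BSW.Even

/-!
# Brauer–Suzuki–Wall: the induced virtual characters
-/

set_option autoImplicit false
set_option linter.unusedSectionVars false
set_option linter.style.haveILetI false

namespace Cfsg.Lib.BSW

open Cfsg Cfsg.Lib.Char
open scoped ComplexConjugate

universe u

/-- The values of a character at an involution are integers. -/
theorem exists_int_invol {G : Type u} [Group G] [Finite G] {χ : G → ℂ} (hχ : IsCharacter G χ)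
    {g : G} (hg : g * g = 1) : ∃ m : ℤ, χ g = m := by
  obtain ⟨n, ρ, rfl⟩ := hχ
  obtain ⟨μ, hμ, h, -⟩ := character_eq_sum_roots ρ g
  have : ∀ i, ∃ m : ℤ, μ i = m := fun i => by
    have h2 : μ i ^ 2 = 1 := by
      obtain ⟨d, hd⟩ := orderOf_dvd_of_pow_eq_one (show g ^ 2 = 1 by rw [pow_two, hg])
      rw [hd, pow_mul, hμ i, one_pow]
    rcases sq_eq_one_iff.1 h2 with e | e
    exacts [⟨1, by simp [e]⟩, ⟨-1, by simp [e]⟩]
  choose m hm using this
  exact ⟨∑ i, m i, by rw [h]; push_cast; exact Finset.sum_congr rfl fun i _ => hm i⟩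

namespace Ctx

variable {G : Type u} [Group G] (c : Ctx G) [Fintype G] [DecidableEq G]

/-- The virtual character of `H` attached to an even character, extended by zero. -/
noncomputable def phi (l : c.Ev) (y : G) : ℂ := by
  classical
  exact if y ∈ c.K then 2 - c.ev l y - c.ev l⁻¹ y else 0

theorem phi_of_mem (l : c.Ev) {y : G} (h : y ∈ c.K) :
    c.phi l y = 2 - c.ev l y - c.ev l⁻¹ y := by
  classical
  simp [phi, h]

theorem phi_of_notMem (l : c.Ev) {y : G} (h : y ∉ c.K) : c.phi l y = 0 := by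
  classical
  simp [phi, h]

theorem phi_inv_arg (l : c.Ev) {y : G} (h : y ∈ c.K) : c.phi l y⁻¹ = c.phi l y := by
  rw [c.phi_of_mem l (c.K.inv_mem h), c.phi_of_mem l h, c.ev_inv l (c.K.inv_mem h),
    ← c.ev_inv l h, inv_inv]
  ring

theorem conj_phi (l : c.Ev) (y : G) : conj (c.phi l y) = c.phi l y := by
  by_cases h : y ∈ c.K
  · rw [c.phi_of_mem l h, map_sub, map_sub, c.conj_ev l h, c.conj_ev l⁻¹ h,
      c.ev_inv l (c.K.inv_mem h), inv_inv, ← c.ev_inv l h]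
    simp only [map_ofNat]
    ring
  · rw [c.phi_of_notMem l h, map_zero]

theorem phi_sq_one (l : c.Ev) {y : G} (h : y * y = 1) : c.phi l y = 0 := by
  by_cases hy : y ∈ c.K
  · rw [c.phi_of_mem l hy, c.ev_of_small l ((c.K_sq hy).1 h),
      c.ev_of_small l⁻¹ ((c.K_sq hy).1 h)]
    ring
  · exact c.phi_of_notMem l hy

theorem phi_class (l : c.Ev) : IsClassFunction ↥c.H (fun h => c.phi l h) := by
  intro g x
  show c.phi l ((x : G) * g * (x : G)⁻¹) = c.phi l g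
  by_cases hg : (g : G) ∈ c.K
  · rcases c.conj_K x.2 hg with ⟨e, -⟩ | ⟨e, -⟩ <;> rw [e]
    exact c.phi_inv_arg l hg
  · have hg' : (x : G) * g * (x : G)⁻¹ ∉ c.K := fun h => hg (by
      have := c.H_conj_mem_K (c.H.inv_mem x.2) h
      simpa [mul_assoc] using this)
    rw [c.phi_of_notMem l hg, c.phi_of_notMem l hg']

theorem sum_H [Fintype ↥c.H] (f : G → ℂ) (hf : ∀ y ∉ c.K, f y = 0) :
    ∑ h : ↥c.H, f h = ∑ y ∈ c.Kf, f y := by
  classical
  rw [← Finset.sum_subtype (Finset.univ.filter fun y => y ∈ c.H) (by simp) f]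
  symm
  refine Finset.sum_subset (fun y hy => by simpa using c.K_le (c.mem_Kf.1 hy)) fun y _ hy =>
    hf y fun h => hy (c.mem_Kf.2 h)

theorem card_H' : (Nat.card ↥c.H : ℂ) = 4 * (c.k : ℂ) := by
  rw [c.card_H, c.card_K]
  push_cast
  ring

theorem k_ne_zero : (c.k : ℂ) ≠ 0 := Nat.cast_ne_zero.2 c.k_pos.ne'

theorem inner_phi [Fintype ↥c.H] (l : c.Ev) (F : G → ℂ) :
    classInner (fun h : ↥c.H => c.phi l h) (fun h : ↥c.H => F h) =
      (4 * (c.k : ℂ))⁻¹ * ∑ y ∈ c.Kf, c.phi l y * conj (F y) := by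
  rw [classInner, c.card_H', ← c.sum_H (fun y => c.phi l y * conj (F y)) fun y hy => by
    rw [c.phi_of_notMem l hy, zero_mul]]

/-- Symmetrised sums. -/
theorem sum_phi_mul (l : c.Ev) (F : G → ℂ) (hF : ∀ y ∈ c.K, F y⁻¹ = F y) :
    ∑ y ∈ c.Kf, c.phi l y * F y =
      2 * ∑ y ∈ c.Kf, F y - 2 * ∑ y ∈ c.Kf, c.ev l y * F y := by
  have h : ∑ y ∈ c.Kf, c.ev l⁻¹ y * F y = ∑ y ∈ c.Kf, c.ev l y * F y := by
    rw [← c.sum_Kf_inv (fun y => c.ev l y * F y)]
    exact Finset.sum_congr rfl fun y hy => by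
      rw [c.ev_inv l (c.mem_Kf.1 hy), hF y (c.mem_Kf.1 hy)]
  rw [Finset.sum_congr rfl fun y hy => show c.phi l y * F y =
    2 * F y - c.ev l y * F y - c.ev l⁻¹ y * F y by rw [c.phi_of_mem l (c.mem_Kf.1 hy)]; ring]
  rw [Finset.sum_sub_distrib, Finset.sum_sub_distrib, h, ← Finset.mul_sum]
  ring

theorem sum_phi (l : c.Ev) (hl : l ≠ 1) : ∑ y ∈ c.Kf, c.phi l y = 4 * (c.k : ℂ) := by
  classical
  have h := c.sum_phi_mul l (fun _ => 1) fun _ _ => rfl
  simp only [mul_one, c.sum_ev l, if_neg hl, Finset.sum_const, c.card_Kf, nsmul_eq_mul] at h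
  rw [h]; push_cast; ring

theorem sum_ev_mul (l m : c.Ev) [Decidable (l * m = 1)] :
    ∑ y ∈ c.Kf, c.ev l y * c.ev m y = if l * m = 1 then (2 * c.k : ℂ) else 0 := by
  rw [← c.sum_ev (l * m)]
  exact Finset.sum_congr rfl fun y hy => (c.ev_hom_mul l m (c.mem_Kf.1 hy)).symm

theorem inner_phi_phi [Fintype ↥c.H] [DecidableEq c.Ev] (l m : c.Ev) (hl : l ≠ 1) (hm : m ≠ 1) :
    classInner (fun h : ↥c.H => c.phi l h) (fun h : ↥c.H => c.phi m h) =
      2 + (if l = m then 1 else 0) + (if l = m⁻¹ then 1 else 0) := by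
  rw [c.inner_phi l (c.phi m), Finset.sum_congr rfl fun y _ => by rw [c.conj_phi m y],
    c.sum_phi_mul l (c.phi m) fun y hy => c.phi_inv_arg m hy, c.sum_phi m hm]
  rw [Finset.sum_congr rfl fun y hy => show c.ev l y * c.phi m y =
      2 * c.ev l y - c.ev l y * c.ev m y - c.ev l y * c.ev m⁻¹ y by
    rw [c.phi_of_mem m (c.mem_Kf.1 hy)]; ring]
  rw [Finset.sum_sub_distrib, Finset.sum_sub_distrib, ← Finset.mul_sum, c.sum_ev l, if_neg hl,
    c.sum_ev_mul, c.sum_ev_mul]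
  have e1 : l * m = 1 ↔ l = m⁻¹ :=
    ⟨fun h => eq_inv_of_mul_eq_one_left (a := l) (b := m) h,
      fun h => by rw [h]; exact inv_mul_cancel m⟩
  have e2 : l * m⁻¹ = 1 ↔ l = m :=
    ⟨fun h => (eq_inv_of_mul_eq_one_left (a := l) (b := m⁻¹) h).trans (inv_inv m),
      fun h => by rw [h]; exact mul_inv_cancel m⟩
  simp only [e1, e2]
  have := c.k_ne_zero
  split_ifs <;> field_simp <;> ring

/-- The virtual character of `G`. -/
noncomputable def Phi (l : c.Ev) : G → ℂ := indFun c.H (fun h => c.phi l h)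

theorem phi_generalized (l : c.Ev) : IsGeneralizedCharacter ↥c.H (fun h => c.phi l h) := by
  classical
  haveI := Fintype.ofFinite ↥c.H
  haveI := Fintype.ofFinite ↥c.K
  refine isGeneralizedCharacter_iff.2 ⟨c.phi_class l, fun χ hχ => ?_⟩
  let F : G → ℂ := fun y => if h : y ∈ c.H then χ ⟨y, h⟩ else 0
  have hF : ∀ (y : G) (h : y ∈ c.H), F y = χ ⟨y, h⟩ := fun y h => by simp [F, h]
  have hFχ : (fun h : ↥c.H => F h) = χ := funext fun h => hF h h.2
  have hres := hχ.isCharacter.comp (Subgroup.inclusion c.K_le)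
  obtain ⟨m0, h0⟩ := (isCharacter_one (G := ↥c.K)).exists_nat_classInner hres
  obtain ⟨m1, h1⟩ := (isIrrCharacter_linear (l.comp (QuotientGroup.mk' c.TK))).isCharacter
    |>.exists_nat_classInner hres
  have hsum : ∀ f : G → ℂ, ∑ a : ↥c.K, f a * conj (χ (Subgroup.inclusion c.K_le a)) =
      ∑ y ∈ c.Kf, f y * conj (F y) := by
    intro f
    rw [Finset.sum_subtype c.Kf (fun x => c.mem_Kf) (fun y => f y * conj (F y))]
    refine Finset.sum_congr rfl fun a _ => ?_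
    rw [hF a.1 (c.K_le a.2)]
    rfl
  refine ⟨(m0 : ℤ) - m1, ?_⟩
  rw [← hFχ, c.inner_phi l F, c.sum_phi_mul l (fun y => conj (F y)) fun y hy => ?_]
  · have e0 : (2 * (c.k : ℂ)) * m0 = ∑ y ∈ c.Kf, conj (F y) := by
      rw [← h0, classInner, c.card_K, hsum fun _ => 1]
      have := c.k_ne_zero
      push_cast
      simp only [one_mul]
      field_simp
    have e1 : (2 * (c.k : ℂ)) * m1 = ∑ y ∈ c.Kf, c.ev l y * conj (F y) := by
      rw [← h1, classInner, c.card_K, Finset.sum_congr rfl fun (a : ↥c.K) _ => show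
        ((l.comp (QuotientGroup.mk' c.TK)) a : ℂ) * conj (χ (Subgroup.inclusion c.K_le a)) =
          c.ev l a * conj (χ (Subgroup.inclusion c.K_le a)) by rw [c.ev_of_mem l a.2]; rfl,
        hsum (c.ev l)]
      have := c.k_ne_zero
      push_cast
      field_simp
    rw [← e0, ← e1]
    have := c.k_ne_zero
    push_cast
    field_simp
    ring
  · show conj (F y⁻¹) = conj (F y)
    congr 1
    rw [hF _ (c.K_le (c.K.inv_mem hy)), hF _ (c.K_le hy)]
    have := hχ.isClassFunction ⟨y, c.K_le hy⟩ ⟨c.s, c.s_mem⟩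
    rw [← this]
    congr 1
    exact Subtype.ext (c.inv_s y hy).symm

theorem Phi_generalized (l : c.Ev) : IsGeneralizedCharacter G (c.Phi l) :=
  isGeneralizedCharacter_indFun (H := c.H) (c.phi_generalized l)

theorem Phi_class (l : c.Ev) : IsClassFunction G (c.Phi l) := (c.Phi_generalized l).isClassFunction

theorem tiSet : ∀ x : G, x ∉ c.H → ∀ τ ∈ {y : G | y ∈ c.K ∧ y * y ≠ 1}, τ ≠ 1 →
    x * τ * x⁻¹ ∉ {y : G | y ∈ c.K ∧ y * y ≠ 1} :=
  fun x hx τ hτ hτ1 h => hx (c.ti x τ hτ.1 h.1 hτ1)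

theorem phi_off (l : c.Ev) (x : ↥c.H) (h : (x : G) ∉ {y : G | y ∈ c.K ∧ y * y ≠ 1}) :
    c.phi l x = 0 := by
  by_cases hx : (x : G) ∈ c.K
  · exact c.phi_sq_one l (not_not.1 fun h2 => h ⟨hx, h2⟩)
  · exact c.phi_of_notMem l hx

theorem Phi_T (l : c.Ev) {y : G} (hy : y ∈ c.T) : c.Phi l y = c.phi l y := by
  obtain ⟨h1, h2⟩ := c.mem_T.1 hy
  exact indFun_eq_of_TI c.H _ c.tiSet (c.phi_class l) (c.phi_off l) ⟨y, c.K_le h2⟩ ⟨h2, h1⟩
    fun e => h1 (by rw [show y = 1 from e, one_mul])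

theorem Phi_sq_one (l : c.Ev) {y : G} (hy : y * y = 1) : c.Phi l y = 0 :=
  indFun_invol_eq_zero c.H (fun _ h => c.phi_sq_one l h) hy

theorem Phi_one (l : c.Ev) : c.Phi l 1 = 0 := c.Phi_sq_one l (one_mul 1)

theorem Phi_R (l : c.Ev) {z : G} (hz : z ∈ c.R) : c.Phi l z = 0 := by
  simp only [Phi, indFun]
  rw [Finset.sum_eq_zero, mul_zero]
  intro x _
  by_cases h : x⁻¹ * z * x ∈ c.H
  · rw [extendByZero_of_mem c.H _ h]
    refine c.phi_of_notMem l fun hk => (c.mem_R.1 hz).2 x⁻¹ ?_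
    simpa using hk
  · exact extendByZero_of_notMem c.H _ h

theorem inner_Phi [DecidableEq c.Ev] (l m : c.Ev) (hl : l ≠ 1) (hm : m ≠ 1) :
    classInner (c.Phi l) (c.Phi m) =
      2 + (if l = m then 1 else 0) + (if l = m⁻¹ then 1 else 0) := by
  haveI := Fintype.ofFinite ↥c.H
  rw [← c.inner_phi_phi l m hl hm]
  exact classInner_indFun_TI c.H _ c.tiSet (c.phi_class m) (c.phi_off l) (c.phi_off m)
    (c.phi_sq_one l (y := ((1 : ↥c.H) : G)) (by simp))

theorem inner_Phi_class [Fintype ↥c.H] (l : c.Ev) {χ : G → ℂ} (hχ : IsClassFunction G χ) :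
    classInner (c.Phi l) χ = (4 * (c.k : ℂ))⁻¹ * ∑ y ∈ c.Kf, c.phi l y * conj (χ y) := by
  rw [← c.inner_phi l χ]
  exact classInner_indFun c.H _ hχ

theorem sum_T_phi (l : c.Ev) : ∑ y ∈ c.T, c.phi l y = ∑ y ∈ c.Kf, c.phi l y := by
  refine Finset.sum_subset (fun y hy => c.mem_Kf.2 (c.mem_T.1 hy).2) fun y hy hyT =>
    c.phi_sq_one l (not_not.1 fun h => hyT (c.mem_T.2 ⟨h, c.mem_Kf.1 hy⟩))

theorem pair_Phi (l : c.Ev) (hl : l ≠ 1) :
    ∑ x ∈ involFinset G, ∑ y ∈ involFinset G, c.Phi l (x * y) =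
      8 * (c.k : ℂ) ^ 2 * c.nInv := by
  rw [c.pair_sum_split (c.Phi l) fun g h => c.Phi_class l g h, c.Phi_one l,
    c.Phi_sq_one l c.t_sq, Finset.sum_eq_zero (s := c.R) fun z hz => by rw [c.Phi_R l hz, smul_zero],
    Finset.sum_congr rfl fun y hy => by rw [c.Phi_T l hy], ← Finset.smul_sum, c.sum_T_phi l,
    c.sum_phi l hl]
  simp only [smul_zero, add_zero, zero_add, nsmul_eq_mul]
  push_cast
  ring

end Ctx

end Cfsg.Lib.BSW
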