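import Cfsg.Agent.Lib.BSW.Basic
import Cfsg.Agent.Lib.Char.InvolutionSum

/-!
# Brauer–Suzuki–Wall: the configuration and its class structure
-/

set_option autoImplicit false
set_option linter.unusedSectionVars false
set_option linter.style.haveILetI false

namespace Cfsg.Lib.BSW

open Cfsg.Lib.Char (involFinset mem_involFinset conj_mem_involFinset)

universe u v

/-- The hypotheses of the abstract Brauer–Suzuki–Wall theorem. -/
structure Ctx (G : Type u) [Group G] where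
  t : G
  s : G
  K : Subgroup G
  t_ne : t ≠ 1
  t_sq : t * t = 1
  s_ne : s ≠ 1
  s_sq : s * s = 1
  K_comm : ∀ a ∈ K, ∀ b ∈ K, a * b = b * a
  K_le : K ≤ Subgroup.centralizer ({t} : Set G)
  t_mem : t ∈ K
  s_mem : s ∈ Subgroup.centralizer ({t} : Set G)
  s_notMem : s ∉ K
  H_eq : K ⊔ Subgroup.zpowers s = Subgroup.centralizer ({t} : Set G)
  fix_s : ∀ x ∈ K, x * s = s * x → x = 1 ∨ x = t
  inv_s : ∀ x ∈ K, s * x * s⁻¹ = x⁻¹
  ti : ∀ x y : G, y ∈ K → x * y * x⁻¹ ∈ K → y ≠ 1 → x ∈ Subgroup.centralizer ({t} : Set G)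
  conj : ∀ x y : G, x ≠ 1 → x * x = 1 → y ≠ 1 → y * y = 1 → IsConj x y

namespace Ctx

variable {G : Type u} [Group G] (c : Ctx G)

/-- The centraliser of the involution. -/
abbrev H : Subgroup G := Subgroup.centralizer ({c.t} : Set G)

theorem t_inv : c.t⁻¹ = c.t := inv_eq_of_mul_eq_one_right c.t_sq

theorem s_inv : c.s⁻¹ = c.s := inv_eq_of_mul_eq_one_right c.s_sq

theorem s_mul_K {x : G} (hx : x ∈ c.K) : c.s * x = x⁻¹ * c.s := by
  rw [← c.inv_s x hx]; group

theorem mem_H_iff {x : G} : x ∈ c.H ↔ x ∈ c.K ∨ c.s * x ∈ c.K := by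
  constructor
  · intro hx
    rw [show c.H = c.K ⊔ Subgroup.zpowers c.s from c.H_eq.symm] at hx
    let M : Subgroup G :=
      { carrier := {x | x ∈ c.K ∨ c.s * x ∈ c.K}
        one_mem' := Or.inl c.K.one_mem
        mul_mem' := by
          rintro a b (ha | ha) (hb | hb)
          · exact Or.inl (c.K.mul_mem ha hb)
          · refine Or.inr ?_
            rw [show c.s * (a * b) = a⁻¹ * (c.s * b) by rw [← mul_assoc, c.s_mul_K ha, mul_assoc]]
            exact c.K.mul_mem (c.K.inv_mem ha) hb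
          · exact Or.inr (by rw [← mul_assoc]; exact c.K.mul_mem ha hb)
          · refine Or.inl ?_
            rw [show a * b = (c.s * a)⁻¹ * (c.s * b) * 1 * 1 by
              have h : a = c.s * (c.s * a) := by rw [← mul_assoc, c.s_sq, one_mul]
              conv_lhs => rw [h, c.s_mul_K ha]
              group]
            simpa using c.K.mul_mem (c.K.inv_mem ha) hb
        inv_mem' := by
          rintro a (ha | ha)
          · exact Or.inl (c.K.inv_mem ha)
          · refine Or.inr ?_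
            have h : a = c.s * (c.s * a) := by rw [← mul_assoc, c.s_sq, one_mul]
            rw [h, mul_inv_rev, c.s_inv, ← mul_assoc, c.s_mul_K (c.K.inv_mem ha), mul_assoc, c.s_sq,
              inv_inv, mul_one]
            exact ha }
    have hle : c.K ⊔ Subgroup.zpowers c.s ≤ M := sup_le (fun a ha => Or.inl ha)
      (Subgroup.zpowers_le.2 (Or.inr (by rw [c.s_sq]; exact c.K.one_mem)))
    exact hle hx
  · rintro (hx | hx)
    · exact c.K_le hx
    · have h : x = c.s * (c.s * x) := by rw [← mul_assoc, c.s_sq, one_mul]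
      rw [h]
      exact c.H.mul_mem c.s_mem (c.K_le hx)

theorem conj_K {x y : G} (hx : x ∈ c.H) (hy : y ∈ c.K) :
    x * y * x⁻¹ = y ∧ x ∈ c.K ∨ x * y * x⁻¹ = y⁻¹ ∧ x ∉ c.K := by
  by_cases hk : x ∈ c.K
  · left
    refine ⟨?_, hk⟩
    rw [c.K_comm x hk y hy, mul_inv_cancel_right]
  · right
    refine ⟨?_, hk⟩
    have h := (c.mem_H_iff.1 hx).resolve_left hk
    calc x * y * x⁻¹ = c.s * ((c.s * x) * y * (c.s * x)⁻¹) * c.s⁻¹ := by
          rw [mul_inv_rev, c.s_inv]
          calc x * y * x⁻¹ = c.s * c.s * x * y * x⁻¹ * (c.s * c.s) := by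
                rw [c.s_sq, one_mul, mul_one]
            _ = _ := by group
      _ = c.s * y * c.s⁻¹ := by rw [c.K_comm _ h y hy, mul_inv_cancel_right]
      _ = y⁻¹ := c.inv_s y hy

theorem H_conj_mem_K {x y : G} (hx : x ∈ c.H) (hy : y ∈ c.K) : x * y * x⁻¹ ∈ c.K := by
  rcases c.conj_K hx hy with ⟨e, -⟩ | ⟨e, -⟩ <;> rw [e]
  exacts [hy, c.K.inv_mem hy]

theorem sq_of_H_notK {x : G} (hx : x ∈ c.H) (hk : x ∉ c.K) : x ≠ 1 ∧ x * x = 1 := by
  refine ⟨fun h => hk (h ▸ c.K.one_mem), ?_⟩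
  have h := (c.mem_H_iff.1 hx).resolve_left hk
  have e : x = c.s * (c.s * x) := by rw [← mul_assoc, c.s_sq, one_mul]
  rw [e, c.s_mul_K h]
  calc (c.s * x)⁻¹ * c.s * ((c.s * x)⁻¹ * c.s)
      = (c.s * x)⁻¹ * (c.s * (c.s * x)⁻¹ * c.s⁻¹) := by rw [c.s_inv]; group
    _ = 1 := by rw [c.inv_s _ (c.K.inv_mem h), inv_inv, inv_mul_cancel]

theorem K_sq {y : G} (hy : y ∈ c.K) : y * y = 1 ↔ y = 1 ∨ y = c.t := by
  constructor
  · intro h
    refine c.fix_s y hy ?_
    rw [c.s_mul_K hy, inv_eq_of_mul_eq_one_right h]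
  · rintro (rfl | rfl)
    exacts [one_mul 1, c.t_sq]

theorem mem_H_of_centralizer {x y : G} (hy : y ∈ c.K) (hy1 : y ≠ 1)
    (h : x * y = y * x) : x ∈ c.H :=
  c.ti x y hy (by rw [h, mul_inv_cancel_right]; exact hy) hy1

theorem centralizer_K {y : G} (hy : y ∈ c.K) (hy2 : y * y ≠ 1) :
    Subgroup.centralizer ({y} : Set G) = c.K := by
  ext x
  rw [mem_centralizer_singleton]
  refine ⟨fun h => ?_, fun h => c.K_comm x h y hy⟩
  have hy1 : y ≠ 1 := fun e => hy2 (by rw [e, one_mul])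
  rcases c.conj_K (c.mem_H_of_centralizer hy hy1 h) hy with ⟨-, hk⟩ | ⟨e, -⟩
  · exact hk
  · rw [h, mul_inv_cancel_right] at e
    exact absurd (mul_eq_one_iff_eq_inv.2 e) hy2

theorem normalizer_K [Finite G] : Subgroup.normalizer (c.K : Set G) = c.H := by
  refine le_antisymm (fun x hx => ?_) fun x hx => mem_normalizer_of_conj fun a ha =>
    c.H_conj_mem_K hx ha
  exact c.ti x c.t c.t_mem (conj_mem_of_mem_normalizer hx c.t_mem) c.t_ne

theorem card_H [Finite G] : Nat.card c.H = 2 * Nat.card c.K := by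
  have e : ↥c.K ⊕ ↥c.K ≃ ↥c.H := by
    refine Equiv.ofBijective (Sum.elim (fun a => ⟨a.1, c.K_le a.2⟩)
      (fun a => ⟨c.s * a.1, c.H.mul_mem c.s_mem (c.K_le a.2)⟩)) ⟨?_, ?_⟩
    · rintro (⟨a, ha⟩ | ⟨a, ha⟩) (⟨b, hb⟩ | ⟨b, hb⟩) e <;>
        simp only [Sum.elim_inl, Sum.elim_inr, Subtype.mk.injEq] at e
      · simp [e]
      · exact absurd (by rw [eq_mul_inv_of_mul_eq e.symm]; exact c.K.mul_mem ha (c.K.inv_mem hb))
          c.s_notMem
      · exact absurd (by rw [eq_mul_inv_of_mul_eq e]; exact c.K.mul_mem hb (c.K.inv_mem ha))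
          c.s_notMem
      · simp [mul_left_cancel e]
    · rintro ⟨x, hx⟩
      rcases c.mem_H_iff.1 hx with h | h
      · exact ⟨Sum.inl ⟨x, h⟩, rfl⟩
      · exact ⟨Sum.inr ⟨_, h⟩, Subtype.ext (by simp [← mul_assoc, c.s_sq])⟩
  rw [← Nat.card_congr e, Nat.card_sum, two_mul]

theorem orderOf_t : orderOf c.t = 2 :=
  orderOf_eq_prime (by rw [pow_two, c.t_sq]) c.t_ne

/-- Half the order of `K`. -/
noncomputable def k : ℕ := Nat.card c.K / 2

theorem card_K [Finite G] : Nat.card c.K = 2 * c.k := by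
  have h : 2 ∣ Nat.card c.K := by
    rw [← c.orderOf_t, ← Nat.card_zpowers]
    exact Subgroup.card_dvd_of_le (Subgroup.zpowers_le.2 c.t_mem)
  rw [k]; omega

theorem k_pos [Finite G] : 0 < c.k := by
  have := c.card_K
  have : 0 < Nat.card c.K := Nat.card_pos
  omega

variable [Fintype G] [DecidableEq G]

/-- The number of involutions. -/
def nInv (_c : Ctx G) : ℕ := (involFinset G).card

/-- Elements of order at least three conjugate into `K`. -/
noncomputable def KC : Finset G := by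
  classical
  exact Finset.univ.filter fun z => z * z ≠ 1 ∧ ∃ x : G, x * z * x⁻¹ ∈ c.K

/-- The remaining elements of order at least three. -/
noncomputable def R : Finset G := by
  classical
  exact Finset.univ.filter fun z => z * z ≠ 1 ∧ ∀ x : G, x * z * x⁻¹ ∉ c.K

/-- The elements of `K` of order at least three. -/
noncomputable def T : Finset G := by
  classical
  exact Finset.univ.filter fun z => z * z ≠ 1 ∧ z ∈ c.K

theorem mem_KC {z : G} : z ∈ c.KC ↔ z * z ≠ 1 ∧ ∃ x : G, x * z * x⁻¹ ∈ c.K := by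
  classical
  simp [KC]

theorem mem_R {z : G} : z ∈ c.R ↔ z * z ≠ 1 ∧ ∀ x : G, x * z * x⁻¹ ∉ c.K := by
  classical
  simp [R]

theorem mem_T {z : G} : z ∈ c.T ↔ z * z ≠ 1 ∧ z ∈ c.K := by
  classical
  simp [T]

theorem conj_sq_iff (x z : G) : x * z * x⁻¹ * (x * z * x⁻¹) = 1 ↔ z * z = 1 := by
  rw [show x * z * x⁻¹ * (x * z * x⁻¹) = x * (z * z) * x⁻¹ by group]
  exact conj_eq_one_iff

theorem index_H : c.H.index = c.nInv := by
  symm
  rw [nInv, card_conj_TI c.H {c.t} (involFinset G)]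
  · simp
  · intro x hx a ha
    simp only [Finset.mem_singleton] at ha ⊢
    rw [ha, mem_centralizer_singleton.1 hx, mul_inv_cancel_right]
  · intro x a ha hxa
    simp only [Finset.mem_singleton] at ha hxa
    rw [ha] at hxa
    exact mem_centralizer_singleton.2 (mul_inv_eq_iff_eq_mul.1 hxa)
  · intro z
    simp only [mem_involFinset, Finset.mem_singleton]
    constructor
    · rintro ⟨h1, h2⟩
      obtain ⟨x, hx⟩ := isConj_iff.1 (c.conj z c.t h1 h2 c.t_ne c.t_sq)
      exact ⟨x, hx⟩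
    · rintro ⟨x, hx⟩
      exact ⟨fun h => c.t_ne (by rw [← hx, h]; group),
        (conj_sq_iff x z).1 (by rw [hx]; exact c.t_sq)⟩

theorem card_G : Nat.card G = 4 * c.k * c.nInv := by
  rw [← c.index_H, ← c.H.index_mul_card, c.card_H, c.card_K]; ring

theorem nInv_pos : 0 < c.nInv :=
  Finset.card_pos.2 ⟨c.t, mem_involFinset.2 ⟨c.t_ne, c.t_sq⟩⟩

theorem sum_KC {M : Type v} [AddCommMonoid M] (f : G → M)
    (hf : ∀ g h : G, f (h * g * h⁻¹) = f g) :
    ∑ z ∈ c.KC, f z = c.nInv • ∑ z ∈ c.T, f z := by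
  rw [sum_conj_TI c.H c.T c.KC ?_ ?_ ?_ f hf, c.index_H]
  · intro x hx a ha
    rw [mem_T] at ha ⊢
    exact ⟨fun h => ha.1 ((conj_sq_iff x a).1 h), c.H_conj_mem_K hx ha.2⟩
  · intro x a ha hxa
    rw [mem_T] at ha hxa
    exact c.ti x a ha.2 hxa.2 fun h => ha.1 (by rw [h, one_mul])
  · intro z
    simp only [mem_KC, mem_T, ne_eq, conj_sq_iff]
    exact ⟨fun ⟨h, x, hx⟩ => ⟨x, h, hx⟩, fun ⟨x, h, hx⟩ => ⟨h, x, hx⟩⟩

theorem sum_invol {M : Type v} [AddCommMonoid M] (f : G → M)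
    (hf : ∀ g h : G, f (h * g * h⁻¹) = f g) :
    ∑ z ∈ involFinset G, f z = c.nInv • f c.t := by
  rw [Finset.sum_congr rfl fun z hz => ?_, Finset.sum_const]
  · rfl
  · obtain ⟨h1, h2⟩ := mem_involFinset.1 hz
    obtain ⟨x, hx⟩ := isConj_iff.1 (c.conj z c.t h1 h2 c.t_ne c.t_sq)
    rw [← hx, hf]

theorem card_T : c.T.card + 2 = 2 * c.k := by
  classical
  have h : c.T = ((Finset.univ.filter fun z : G => z ∈ c.K).erase 1).erase c.t := by
    ext z
    simp only [mem_T, Finset.mem_erase, Finset.mem_filter, Finset.mem_univ, true_and]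
    constructor
    · rintro ⟨h, hz⟩
      rw [ne_eq, c.K_sq hz, not_or] at h
      exact ⟨h.2, h.1, hz⟩
    · rintro ⟨h2, h1, hz⟩
      exact ⟨fun h => ((c.K_sq hz).1 h).elim h1 h2, hz⟩
  have hK : (Finset.univ.filter fun z : G => z ∈ c.K).card = 2 * c.k := by
    rw [← c.card_K, ← Nat.card_eq_finsetCard]
    exact Nat.card_congr (Equiv.subtypeEquivRight fun x => by simp)
  rw [h, Finset.card_erase_of_mem (by simp [c.t_ne, c.t_mem]),
    Finset.card_erase_of_mem (by simp [c.K.one_mem]), hK]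
  have := c.k_pos
  omega

theorem sum_univ {M : Type v} [AddCommMonoid M] (f : G → M)
    (hf : ∀ g h : G, f (h * g * h⁻¹) = f g) :
    ∑ z, f z = f 1 + c.nInv • f c.t + c.nInv • ∑ z ∈ c.T, f z + ∑ z ∈ c.R, f z := by
  rw [← c.sum_invol f hf, ← c.sum_KC f hf]
  have h1 : ∑ z, f z = f 1 + ∑ z ∈ Finset.univ.filter (fun z : G => z ≠ 1), f z := by
    rw [Finset.filter_ne']
    exact (Finset.add_sum_erase _ _ (Finset.mem_univ 1)).symm
  rw [h1, add_assoc, add_assoc]
  congr 1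
  have hA : Finset.univ.filter (fun z : G => z ≠ 1) = involFinset G ∪ (c.KC ∪ c.R) := by
    ext z
    simp only [Finset.mem_filter, Finset.mem_univ, true_and, Finset.mem_union, mem_involFinset,
      mem_KC, mem_R]
    constructor
    · intro h
      by_cases h2 : z * z = 1
      · exact Or.inl ⟨h, h2⟩
      · by_cases h3 : ∃ x : G, x * z * x⁻¹ ∈ c.K
        · exact Or.inr (Or.inl ⟨h2, h3⟩)
        · exact Or.inr (Or.inr ⟨h2, not_exists.1 h3⟩)
    · rintro (⟨h, -⟩ | ⟨h, -⟩ | ⟨h, -⟩)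
      · exact h
      all_goals exact fun e => h (by rw [e, one_mul])
  rw [hA, Finset.sum_union ?_, Finset.sum_union ?_]
  · rw [Finset.disjoint_left]
    intro z hz hz'
    obtain ⟨x, hx⟩ := (c.mem_KC.1 hz).2
    exact (c.mem_R.1 hz').2 x hx
  · rw [Finset.disjoint_left]
    intro z hz hz'
    rw [mem_involFinset] at hz
    rcases Finset.mem_union.1 hz' with h | h
    · exact (c.mem_KC.1 h).1 hz.2
    · exact (c.mem_R.1 h).1 hz.2

theorem card_R : c.R.card + 1 = (2 * c.k + 1) * c.nInv := by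
  have h := c.sum_univ (fun _ => (1 : ℕ)) fun _ _ => rfl
  simp only [Finset.sum_const, Finset.card_univ, smul_eq_mul, mul_one,
    ← Nat.card_eq_fintype_card, c.card_G] at h
  have hT := c.card_T
  have h2 : c.nInv * (c.T.card + 2) = c.nInv * (2 * c.k) := by rw [hT]
  linarith

end Ctx

end Cfsg.Lib.BSW
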